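import Cfsg.Agent.H2.B24S
import Cfsg.Agent.H5.MwE

/-! Coefficient pairs of a principal block of prime defect, summed over lists. -/

set_option autoImplicit false

namespace Cfsg.Agent.H2.B24

open Cfsg Cfsg.Agent.H3 Cfsg.Agent.H2.D1 Cfsg.Agent.H5.MW Finset Subgroup
open scoped ComplexConjugate Classical

variable {G : Type*} [Group G] [Finite G] {p r : ℕ} [hp : Fact p.Prime] [hr : Fact r.Prime]
  {x y : G}

noncomputable def pr (h : Ctx p x) (χ : IrrCharacter G) : P :=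
  if χ ∈ B0 p G then (h.co (1 : (ZMod p)ˣ) χ, h.co (gen h) χ) else (0, 0)

theorem pr_pos (h : Ctx p x) {χ : IrrCharacter G} (hχ : χ ∈ B0 p G) :
    pr h χ = (h.co (1 : (ZMod p)ˣ) χ, h.co (gen h) χ) := if_pos hχ

theorem mem_of_pr {h : Ctx p x} {χ : IrrCharacter G} (hχ : pr h χ ≠ (0, 0)) : χ ∈ B0 p G :=
  by_contra fun e => hχ (if_neg e)

/-- Lists of distinct non-trivial characters. -/
def Ok (l : List (IrrCharacter G)) : Prop := l.Nodup ∧ triv ∉ l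

omit [Finite G] in
theorem Ok.sub {l l' : List (IrrCharacter G)} (h : Ok l') (hl : l.Subperm l') : Ok l :=
  ⟨by obtain ⟨m, h1, h2⟩ := hl; exact h1.nodup_iff.1 (h2.nodup h.1), fun e => h.2 (hl.subset e)⟩

def Cov (h : Ctx p x) (l : List (IrrCharacter G)) : Prop :=
  ∀ χ, χ ≠ triv → pr h χ ≠ (0, 0) → χ ∈ l

theorem sj_eq (h : Ctx p x) {l : List (IrrCharacter G)} (hl : l.Nodup)
    (F : P → IrrCharacter G → ℤ) (hF : ∀ χ, F (0, 0) χ = 0) : (l.map fun χ => F (pr h χ) χ).sum =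
      ∑ χ ∈ l.toFinset ∩ B0 p G, F (h.co (1 : (ZMod p)ˣ) χ, h.co (gen h) χ) χ := by
  rw [← List.sum_toFinset _ hl, ← sum_ite_mem]
  exact sum_congr rfl fun χ _ => by unfold pr; split_ifs <;> simp [hF]

theorem sj_cov (h : Ctx p x) {l : List (IrrCharacter G)} (hl : Ok l)
    (F : P → IrrCharacter G → ℤ) (hF : ∀ χ, F (0, 0) χ = 0)
    (hc : ∀ χ, χ ≠ triv → F (pr h χ) χ ≠ 0 → χ ∈ l) : (l.map fun χ => F (pr h χ) χ).sum =
      ∑ χ ∈ B0 p G, F (h.co (1 : (ZMod p)ˣ) χ, h.co (gen h) χ) χ - F (-1, -1) triv := by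
  rw [sj_eq h hl.1 F hF, ← add_sum_erase _ _ one_mem_B0, h.co_one, h.co_one, add_sub_cancel_left]
  refine sum_subset (fun χ e => ?_) fun χ e1 e2 => by_contra fun e => e2 ?_
  · obtain ⟨e1, e2⟩ := mem_inter.1 e
    exact mem_erase.2 ⟨fun e => hl.2 (by simpa [e] using e1), e2⟩
  · obtain ⟨e3, e4⟩ := mem_erase.1 e1
    exact mem_inter.2 ⟨List.mem_toFinset.2 (hc χ e3 (by rwa [pr_pos h e4])), e4⟩

theorem n_le (h : Ctx p x) {l : List (IrrCharacter G)} (hl : Ok l) :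
    (l.map fun χ => n1 (pr h χ)).sum ≤ Nat.card h.H ∧ (l.map fun χ => n2 (pr h χ)).sum ≤ Nat.card h.H
      ∧ (l.map fun χ => n3 (pr h χ)).sum ≤ 2 := by
  have hI : ∀ χ ∈ l.toFinset ∩ B0 p G, χ ≠ triv ∧ χ ∈ B0 p G := fun χ e =>
    ⟨fun e' => hl.2 (by simpa [e'] using (mem_inter.1 e).1), (mem_inter.1 e).2⟩
  have h1 := sq_le h hI 1
  have h2 := sq_le h hI (gen h)
  have h3 := sub_le h (fun χ e => (hI χ e).2) 1 (gen h)
  rw [← sj_eq h hl.1 (fun a _ => a.1 ^ 2) (by simp)] at h1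
  rw [← sj_eq h hl.1 (fun a _ => a.2 ^ 2) (by simp)] at h2
  rw [← sj_eq h hl.1 (fun a _ => (a.1 - a.2) ^ 2) (by simp)] at h3
  zify
  simp only [sq, n1, n2, n3, List.map_map, Function.comp_def, Nat.cast_mul,
    Int.natAbs_mul_self'] at h1 h2 h3 ⊢
  exact ⟨h1, h2, h3⟩

theorem n_le' (h : Ctx p x) {χ : IrrCharacter G} (h1 : χ ≠ triv) :
    n1 (pr h χ) ≤ Nat.card h.H ∧ n2 (pr h χ) ≤ Nat.card h.H ∧ n3 (pr h χ) ≤ 2 := by
  simpa using n_le h (l := [χ]) ⟨by simp, by simpa using h1.symm⟩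

section
variable {en : IrrCharacter G → J} (hd : ∀ χ, (en χ).1 = dg χ) {f g : J → P}
  (h : Ctx p x) (hf : ∀ χ, f (en χ) = pr h χ) {l : List (IrrCharacter G)}
include hf

theorem wt_eq (hl : Ok l) (hc : Cov h l) : ((l.map en).map (wt f)).sum = 2 * Nat.card h.H := by
  have h1 := sj_cov h hl (fun a _ => a.1 ^ 2 + a.2 ^ 2) (by simp) fun χ e1 e2 =>
    hc χ e1 fun e => e2 (by simp [e])
  have h2 := fun u : (ZMod p)ˣ => (add_sum_erase _ (fun χ => h.co u χ ^ 2) one_mem_B0).symm.trans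
    (congrArg₂ _ (congrArg (· ^ 2) (h.co_one u)) (sum_co_sq h u))
  rw [sum_add_distrib, h2, h2] at h1
  zify
  simp only [sq, wt, n1, n2, hf, List.map_map, Function.comp_def, Nat.cast_mul,
    Nat.cast_add, Int.natAbs_mul_self'] at h1 ⊢
  linarith

theorem ip_sound (h' : Ctx r y) (hg : ∀ χ, g (en χ) = pr h' χ) (hpr : p ≠ r)
    (hK : ¬ r ∣ Nat.card h.K) (hl : Ok l)
    (hc : ∀ χ, χ ≠ triv → pr h χ ≠ (0, 0) → pr h' χ ≠ (0, 0) → χ ∈ l) :
    ip f g (l.map en) = true := by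
  have A : ∀ (F F' : P → ℤ) (u : (ZMod p)ˣ) (v : (ZMod r)ˣ), F (0, 0) = 0 → F' (0, 0) = 0 →
      (∀ χ, F (h.co (1 : (ZMod p)ˣ) χ, h.co (gen h) χ) = h.co u χ) →
      (∀ χ, F' (h'.co (1 : (ZMod r)ˣ) χ, h'.co (gen h') χ) = h'.co v χ) → F (-1, -1) = -1 →
      sj (fun i => F (f i) * F' (g i)) (l.map en) = -1 := fun F F' u v f0 g0 fu gv f1 => by
    have h1 := sj_cov h hl (fun a χ => F a * F' (pr h' χ)) (by simp [f0]) fun χ e1 e2 =>
      hc χ e1 (fun e => e2 (by simp [e, f0])) fun e => e2 (by simp [e, g0])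
    have h2 := inter h h' hpr hK u v
    rw [← sum_ite_mem] at h2
    rw [sum_congr rfl fun χ _ => (by unfold pr; split_ifs <;> simp only [fu, gv, g0, mul_zero] :
      _ = if χ ∈ B0 r G then h.co u χ * h'.co v χ else 0), h2, pr_pos h' one_mem_B0, gv,
      h'.co_one, f1] at h1
    simpa [sj, List.map_map, Function.comp_def, hf, hg] using h1
  simp only [ip, Bool.and_eq_true, beq_iff_eq]
  exact ⟨A (·.1) (·.1) 1 1 rfl rfl (fun _ => rfl) (fun _ => rfl) rfl,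
    A (·.1) (·.2) 1 _ rfl rfl (fun _ => rfl) (fun _ => rfl) rfl,
    A (·.2) (·.1) _ 1 rfl rfl (fun _ => rfl) (fun _ => rfl) rfl,
    A (·.2) (·.2) _ _ rfl rfl (fun _ => rfl) (fun _ => rfl) rfl⟩

theorem lin {t : G} (ht : IsPReg p t) {v : IrrCharacter G → ℤ}
    (hv : ∀ χ : IrrCharacter G, (χ : G → ℂ) t = v χ) (hl : Ok l) (hc : Cov h l) :
    (l.map fun χ => (f (en χ)).1 * v χ).sum = 1 ∧ (l.map fun χ => (f (en χ)).2 * v χ).sum = 1 := by
  have A : ∀ u, ∑ χ ∈ B0 p G, h.co u χ * v χ = 0 := fun u => by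
    have := h.beta_reg u ht
    simp only [hv] at this
    exact_mod_cast this
  have v1 : v triv = 1 := Int.cast_injective (α := ℂ) ((hv triv).symm.trans (by simp))
  have h1 := sj_cov h hl (fun a χ => a.1 * v χ) (by simp) fun χ e1 e2 =>
    hc χ e1 fun e => e2 (by simp [e])
  have h2 := sj_cov h hl (fun a χ => a.2 * v χ) (by simp) fun χ e1 e2 =>
    hc χ e1 fun e => e2 (by simp [e])
  simp only [A, v1] at h1 h2
  simp only [hf]
  exact ⟨h1, h2⟩

include hd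

theorem dq_sound (hl : Ok l) (hc : Cov h l) : dq f (l.map en) = true := by
  simpa only [dq, sj, List.map_map, Function.comp_def, hd, Bool.and_eq_true, beq_iff_eq] using
    lin h hf (IsPReg.one p) (v := fun χ => dg χ) (fun χ => by simp [dg_eq]) hl hc

theorem se_sound (hl : Ok l) : se f (l.map en) = true := by
  have := H5.MW.sub_eq h (I := l.toFinset ∩ B0 p G) (fun χ e => (mem_inter.1 e).2) 1 (gen h)
  rw [← sj_eq h hl.1 (fun a _ => (a.1 - a.2) ^ 2) (by simp),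
    ← sj_eq h hl.1 (fun a χ => (a.1 - a.2) * dg χ) (by simp)] at this
  simpa only [se, sj, List.map_map, Function.comp_def, hd, hf, Bool.or_eq_true, beq_iff_eq,
    decide_eq_true_eq] using this

omit hd in
theorem vq_sound {t : G} (ht : t * t = 1) (hl : Ok l) (hc : Cov h l) :
    vq f (l.map fun χ => (en χ, yv t χ)) = true := by
  simpa only [vq, sj, List.map_map, Function.comp_def, Bool.and_eq_true, beq_iff_eq] using
    lin h hf (h.isPReg ht) (yv_spec ht) hl hc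

theorem qq_sound (hG : Nat.card G = 244823040) {t : G} (ht : t * t = 1) (hl : Ok l)
    (hc : Cov h l) : ∃ I ≤ Nat.card h.K, (¬ 2 ∣ Nat.card h.H → I = 0) ∧
      qq f (l.map fun χ => (en χ, yv t χ)) * Nat.card h.K =
        (p * (Nat.card (centralizer ({t} : Set G)) * I) ^ 2 : ℕ) := by
  obtain ⟨I, I1, I2, I3⟩ := h.inv_formula ht
  refine ⟨I, I1, fun e => I2.2 fun v _ hv => e (h.orderOf_neg_one ▸
    orderOf_dvd_natCard _ (h.neg_one_mem hv)), ?_⟩
  have h1 := sj_cov h hl (fun a χ => a.1 * yv t χ ^ 2 * (244823040 / dg χ : ℕ)) (by simp)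
    fun χ e1 e2 => hc χ e1 fun e => e2 (by simp [e])
  simp only [qq, sj, List.map_map, Function.comp_def, hd, hf] at h1 ⊢
  rw [h1, yv_triv, dg_triv, ← Nat.cast_ofNat (R := ℤ) (n := 244823040), ← hG]
  rw [← Nat.cast_mul _ I] at I3
  generalize Nat.card (centralizer ({t} : Set G)) * I = c at *
  have h2 : (p : ℂ) * ((Nat.card G : ℂ) * Nat.card h.K * ∑ χ ∈ B0 p G,
      (h.co (1 : (ZMod p)ˣ) χ : ℂ) * ((χ : G → ℂ) t * (χ : G → ℂ) t / (χ : G → ℂ) 1)) =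
      p * -(p * (c : ℂ) ^ 2) := by
    have e1 : ∀ u : (ZMod p)ˣ, (ψ ((u : ZMod p) * ((1 : (ZMod p)ˣ) : ZMod p)) - 1) * (p * (c : ℂ) ^ 2) =
        ∑ χ ∈ B0 p G, (Nat.card G : ℂ) * Nat.card h.K * ((ψ ((u : ZMod p) * ((1 : (ZMod p)ˣ) : ZMod p)) - 1) *
          conj ((χ : G → ℂ) (x ^ (u : ZMod p).val)) *
            ((χ : G → ℂ) t * (χ : G → ℂ) t / (χ : G → ℂ) 1)) := fun u => by
      rw [← I3 _ (pow_mem (mem_zpowers x) (u : ZMod p).val) (h.pw_ne u), mul_sum, mul_sum]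
      exact sum_congr rfl fun _ _ => by ring
    have e2 := sum_congr rfl fun u (_ : u ∈ univ) => e1 u
    rw [← sum_mul, sum_sub_distrib, sum_ψ_unit, sum_const, card_univ, ZMod.card_units,
      nsmul_eq_mul, Nat.cast_pred hp.out.pos, sum_comm] at e2
    simp only [← mul_sum, ← sum_mul, ← h.co_eq', mul_assoc (p : ℂ)] at e2
    linear_combination -e2
  have h3 := mul_left_cancel₀ (Nat.cast_ne_zero.2 hp.out.ne_zero) h2
  have h4 : ∀ χ : IrrCharacter G, ((h.co (1 : (ZMod p)ˣ) χ * yv t χ ^ 2 *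
      (Nat.card G / dg χ : ℕ) : ℤ) : ℂ) = Nat.card G * ((h.co (1 : (ZMod p)ˣ) χ : ℂ) *
        ((χ : G → ℂ) t * (χ : G → ℂ) t / (χ : G → ℂ) 1)) := fun χ => by
    rw [Int.cast_mul, Int.cast_natCast, Nat.cast_div (dg_dvd χ)
      (Nat.cast_ne_zero.2 (dg_pos χ).ne'), yv_spec ht, dg_eq]
    push_cast
    ring
  refine Int.cast_injective (α := ℂ) ?_
  rw [Int.cast_mul, Int.cast_sub, Int.cast_sub, Int.cast_sum, sum_congr rfl fun χ _ => h4 χ,
    ← mul_sum, Nat.div_one]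
  push_cast
  linear_combination -h3

end

end Cfsg.Agent.H2.B24
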