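import Cfsg.Agent.H2.B24A
import Cfsg.Agent.H8.B24Uf

/-! Soundness of the searches. -/

set_option autoImplicit false

namespace Cfsg.Agent.H2.B24

open Cfsg Cfsg.Agent.H3 Cfsg.Agent.H2.D1 Cfsg.Agent.H5.MW Finset Subgroup
open scoped Classical

variable {G : Type*} [Group G] [Finite G] {p : ℕ} [hp : Fact p.Prime] {x y z : G}

theorem idx_mul (h : Ctx p x) {M : ℕ} (hM : Nat.card G = p * M) :
    (centralizer ({x} : Set G)).index * Nat.card h.K = M := by
  refine Nat.eq_of_mul_eq_mul_left hp.out.pos ?_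
  rw [← hM, ← (centralizer {x}).index_mul_card, h.card_C]
  ring

theorem idx_dvd (h : Ctx p x) {M : ℕ} (hM : Nat.card G = p * M) :
    (centralizer ({x} : Set G)).index ∣ M / Nat.card h.K := by
  rw [← idx_mul h hM, Nat.mul_div_cancel _ Nat.card_pos]

theorem const_of (h : Ctx p x) (hi : p ≤ 2 * Nat.card h.H + 1) {χ : IrrCharacter G}
    (e : h.co (1 : (ZMod p)ˣ) χ = h.co (gen h) χ) (u : (ZMod p)ˣ) :
    h.co u χ = h.co (1 : (ZMod p)ˣ) χ := by
  by_cases hu : u ∈ h.H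
  · exact (h.co_mul χ (by simpa using hu)).symm
  have h1 : h.H ≠ ⊤ := fun e => hu (e ▸ mem_top u)
  have h2 := h.card_H_mul
  have h3 : h.H.index ≠ 1 := fun e => h1 (index_eq_one.1 e)
  have h4 : 0 < Nat.card h.H := Nat.card_pos
  have h5 : h.H.index = 2 := by
    have := h.H.index_ne_zero_of_finite
    have : h.H.index ≤ 2 := by nlinarith
    omega
  rw [e]
  exact h.co_mul χ ((mul_mem_iff_of_index_two h5).2 (by simp [hu, gen_not_mem h h1]))

theorem wt_pos {f : J → P} {i : J} (h : f i ≠ (0, 0)) : 0 < wt f i := by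
  by_contra e
  simp only [wt, n1, n2, not_lt, nonpos_iff_eq_zero, Nat.add_eq_zero_iff, mul_self_eq_zero,
    Int.natAbs_eq_zero] at e
  exact h (Prod.ext e.1 e.2)

theorem okc {l : List J} {e e5 : ℕ} (he : e < 32) (he5 : e5 < 32)
    (ha : (l.map (n1 ∘ fa)).sum ≤ e5 ∧ (l.map (n2 ∘ fa)).sum ≤ e5 ∧ (l.map (n3 ∘ fa)).sum ≤ 2)
    (hb : (l.map (n1 ∘ fb)).sum ≤ e ∧ (l.map (n2 ∘ fb)).sum ≤ e ∧ (l.map (n3 ∘ fb)).sum ≤ 2)
    (hc : (l.map (n1 ∘ fc)).sum ≤ 11 ∧ (l.map (n2 ∘ fc)).sum ≤ 11 ∧ (l.map (n3 ∘ fc)).sum ≤ 2) :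
    (cst l + off e e5) &&& msk = 0 := by
  have := land_pack (l := CF.map fun f => (l.map f).sum) (b := bd e e5) (by
    simp only [CF, bd, List.map_cons, List.map_nil, List.forall₂_cons, List.Forall₂.nil, and_true]
    omega)
  rwa [← sum_pack, show pack ((bd e e5).map fun _ => 32) = msk by simp [bd, pack, msk]] at this

variable [NS G]

theorem mem_ty (h : Ctx p x) {lo M : ℕ} (hl : lo = 0 ∨ lo = 2 ∧ Nat.card h.K ≠ 1)
    (hM : (centralizer {x}).index ∣ M) {χ : IrrCharacter G} (h1 : χ ≠ triv)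
    (h2 : pr h χ ≠ (0, 0)) : pr h χ ∈ ty p (Nat.card h.H) lo M (dg χ) := by
  obtain ⟨a1, -, a3⟩ := n_le' h h1
  refine List.mem_filter.2 ⟨mem_prs ?_ ?_ (not_and_or.1 fun e => h2 (Prod.ext e.1 e.2)), ?_⟩
  · zify [n1, Int.natAbs_mul_self'] at a1
    rwa [abs_mul_abs_self, ← sq] at a1
  · zify [n3] at a3
    rwa [abs_mul_abs_self, ← sq] at a3
  rw [pr_pos h (mem_of_pr h2)]
  refine typ_sound h ?_ hM (mem_of_pr h2) h1
  obtain rfl | ⟨rfl, e⟩ := hl
  · exact Nat.zero_le _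
  · rw [beq_eq_false_iff_ne.2 e, cond_false]

theorem val_lt {χ : IrrCharacter G} (hχ : χ ≠ triv) {t : G} (ht : orderOf t = 2) :
    (yv t χ).natAbs < dg χ ∧ (4 : ℤ) ∣ dg χ - yv t χ := by
  obtain ⟨k, k1, k2, k3⟩ := inv_val hχ (dg_eq χ) (sq_eq_one_of_orderOf ht)
    (by rintro rfl; simp at ht)
  rw [yv_eq k3]
  omega

omit [NS G] in
theorem norm_le {l : List (IrrCharacter G)} (hl : Ok l) {t : G} (ht : t * t = 1) :
    (l.map fun χ => (yv t χ).natAbs * (yv t χ).natAbs).sum + 1 ≤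
      Nat.card (centralizer ({t} : Set G)) := by
  have h1 := sum_yv_yv ht ht
  rw [if_pos (IsConj.refl t)] at h1
  have h2 := sum_le_univ_sum_of_nonneg (s := insert triv l.toFinset)
    (f := fun χ => yv t χ * yv t χ) fun _ => mul_self_nonneg _
  rw [h1, sum_insert (by simpa using hl.2), yv_triv, List.sum_toFinset _ hl.1] at h2
  zify
  simp only [List.map_map, Function.comp_def, Nat.cast_mul, Int.natAbs_mul_self']
  linarith

variable (hG : Nat.card G = 244823040) (k : Ctx 23 x) (h : Ctx 11 y) (g : Ctx 5 z)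

noncomputable def en (χ : IrrCharacter G) : J := (dg χ, pr g χ, pr h χ, pr k χ)

noncomputable def en0 (χ : IrrCharacter G) : J := (dg χ, pr g χ, (0, 0), pr k χ)

noncomputable def T5 : List (IrrCharacter G) :=
  (univ.filter fun χ => χ ≠ triv ∧ pr g χ ≠ (0, 0)).toList

omit [NS G] in
theorem mem_T5 {χ : IrrCharacter G} : χ ∈ T5 g ↔ χ ≠ triv ∧ pr g χ ≠ (0, 0) := by simp [T5]

omit [NS G] in
theorem ok_T5 : Ok (T5 g) := ⟨nodup_toList _, by simp [mem_T5]⟩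

include hG

theorem mem_DG {χ : IrrCharacter G} (h1 : χ ≠ triv) : dg χ ∈ DG ∧ dg χ ≤ 16000 := by
  have := hG ▸ dg_sq_le χ
  exact ⟨mem_dg' dvd_rfl (hG ▸ dg_dvd χ) (two_le_deg h1 (dg_eq χ)) (by rwa [← sq]), by nlinarith⟩

theorem mem_t23 {χ : IrrCharacter G} (h1 : χ ≠ triv) (h2 : pr k χ ≠ (0, 0)) :
    pr k χ ∈ t23 (dg χ) := by
  obtain ⟨c1, c2, -⟩ := cent23 (Or.inr hG) k
  have := mem_ty k (Or.inl rfl) (idx_dvd k (M := 10644480) hG) h1 h2
  rwa [c1, c2, Nat.div_one] at this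

theorem mem_z23 {χ : IrrCharacter G} (h1 : χ ≠ triv) (h2 : pr k χ = (0, 0)) :
    pr k χ ∈ z23 (dg χ) := by
  obtain ⟨c1, c2, -⟩ := cent23 (Or.inr hG) k
  suffices e : dg χ % 23 = 0 by simp [z23, e, h2]
  by_cases e : χ ∈ B0 23 G
  · have := typ_sound k (Nat.zero_le _) dvd_rfl e h1
    rw [pr_pos k e, Prod.ext_iff] at h2
    simp only at h2
    rw [c2, h2.1, h2.2] at this
    simp [typ, okm] at this
    omega
  · exact Nat.mod_eq_zero_of_dvd (k.dvd_dg c1 e)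

include k in
theorem not23 (h : Ctx p y) (hp : p ≠ 23) : ¬ 23 ∣ Nat.card h.K :=
  not_dvd_K' k h hp.symm (by
    rw [(cent23 (Or.inr hG) k).1, Nat.dvd_one]; exact Nat.Prime.ne_one Fact.out)

theorem core_sound (hc : Nat.card g.K ≠ 1) {fin : List J → Bool}
    (hfin : ∀ l : List _, l.Perm (T5 g) → fin (l.map (en0 k g)) = true) :
    core (Nat.card g.H) fin = true := by
  have e5 : Nat.card g.H ≤ 4 := by
    have := e5_mem g
    simp only [List.mem_cons, List.not_mem_nil, or_false] at this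
    omega
  have c2 := (cent23 (Or.inr hG) k).2.1
  have ok := ok_T5 g
  have cov : ∀ l : List _, l.Perm (T5 g) → Cov g l := fun l hl χ h1 h2 =>
    hl.symm.subset ((mem_T5 g).2 ⟨h1, h2⟩)
  refine two_sound (Or.inl rfl) (en0 k g) (T5 g) [] (fun χ e => wt_pos ((mem_T5 g).1 e).2)
    (fun χ e => ?_) ?_ (fun l hl => ?_) (fun l hl => ?_) ?_ (fun l hl => ?_) (fun χ e => ?_) hfin
  all_goals try simp only [List.append_nil] at *
  · have h1 := ((mem_T5 g).1 e).1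
    have a := n_le' g h1
    have b := n_le' k h1
    exact ⟨a.1.trans (by omega), a.2.1.trans (by omega), c2 ▸ b.1, c2 ▸ b.2.1, (mem_DG hG h1).2⟩
  · exact wt_eq g (fun _ => rfl) ok (cov _ (.refl _))
  · refine okc (by omega) (by omega) ?_ ?_ ?_ <;> simp only [List.map_map]
    · exact n_le g (ok.sub hl)
    · simp [Function.comp_def, en0, fb, n1, n2, n3]
    · exact c2 ▸ n_le k (ok.sub hl)
  · exact ⟨se_sound (fun _ => rfl) g (fun _ => rfl) (ok.sub hl),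
      se_sound (fun _ => rfl) k (fun _ => rfl) (ok.sub hl)⟩
  · exact ip_sound g (fun _ => rfl) k (fun _ => rfl) (by decide) (not23 hG k g (by decide)) ok
      fun χ h1 h2 _ => (mem_T5 g).2 ⟨h1, h2⟩
  · exact dq_sound (fun _ => rfl) g (fun _ => rfl) (ok.sub hl.subperm) (cov _ hl)
  obtain ⟨h1, h2⟩ := (mem_T5 g).1 e
  have a := mem_ty g (Or.inr ⟨rfl, hc⟩) (Dvd.intro _ (idx_mul g (M := 48964608) hG)) h1 h2
  by_cases h3 : pr k χ = (0, 0)
  · exact Or.inr ⟨List.mem_map_of_mem (mem_its.2 ⟨(mem_DG hG h1).1, a, List.mem_singleton.2 rfl,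
      mem_z23 hG k h1 h3⟩), Or.inr h3⟩
  · exact Or.inl (List.mem_map_of_mem (mem_its.2 ⟨(mem_DG hG h1).1, a, List.mem_singleton.2 rfl,
      mem_t23 hG k h1 h3⟩))

theorem mem_c5s (hc : Nat.card g.K ≠ 1) (h11 : ¬ 11 ∣ Nat.card g.K) {l : List (IrrCharacter G)}
    (hl : l.Perm (T5 g)) : Nat.card g.K ∈ c5s (Nat.card g.H) (l.map (en0 k g)) := by
  have e1 := g.card_eq
  have e2 := syl_mod (G := G) (p := 5)
  have e3 : 48964608 / Nat.card g.H = Nat.card (Sylow 5 G) * Nat.card g.K :=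
    Nat.div_eq_of_eq_mul_left Nat.card_pos (by nlinarith)
  simp only [c5s, List.mem_filter, Bool.and_eq_true, bne_iff_ne, beq_iff_eq, List.all_eq_true,
    List.mem_map]
  refine ⟨mem_dv ⟨5 * Nat.card g.H, by rw [e3, ← hG, ← e1]; ring⟩ (e3 ▸ dvd_mul_left _ _),
    by omega, by rwa [e3, Nat.mul_div_cancel _ Nat.card_pos], ?_⟩
  rintro _ ⟨χ, e, rfl⟩
  obtain ⟨h1, h2⟩ := (mem_T5 g).1 (hl.subset e)
  exact (List.mem_filter.1 (mem_ty g (Or.inr ⟨rfl, hc⟩) (idx_dvd g hG) h1 h2)).2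

theorem mem_bs (hz : z ∈ normalizer (zpowers y : Set G)) (hn : ¬ Commute y z) {a : G}
    (a1 : a ∈ h.K) (a2 : a ∈ g.K) (a3 : a ≠ 1) {χ : IrrCharacter G} (e : χ ∈ T5 g) :
    en k h g χ ∈ bs (Nat.card h.H) (Nat.card h.K) (en0 k g χ) := by
  obtain ⟨h1, h2⟩ := (mem_T5 g).1 e
  have hc : Nat.card h.K ≠ 1 := fun e => a3 (mem_bot.1 (card_eq_one.1 e ▸ a1))
  have lo : χ ∈ B0 11 G → 110 ≤ dg χ := fun e => low g h (by decide) (mem_of_pr h2) e h1 a2 a1 a3
  refine List.mem_map.2 ⟨pr h χ, List.mem_append.2 ?_, rfl⟩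
  by_cases h3 : pr h χ = (0, 0)
  · have e5 := e5_mem g
    simp only [List.mem_cons, List.not_mem_nil, or_false] at e5
    have b := (n_le' g h1).1
    have c : (pr g χ).1.natAbs ≤ 2 := by unfold n1 at b; rcases e5 with e | e <;> nlinarith
    suffices e : (pr g χ).1 = (pr g χ).2 → 11 < dg χ ∧ 44 * (pr g χ).1 < dg χ by
      right
      rw [uf, h3, Bool.cond_eq_ite, if_pos]
      · simp
      simp only [Bool.or_eq_true, bne_iff_ne, Bool.and_eq_true, Nat.blt_eq]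
      exact imp_iff_not_or.1 fun e' => ⟨(e e').1, decide_eq_true (e e').2⟩
    intro e
    by_cases h4 : χ ∈ B0 11 G
    · have := lo h4
      omega
    have n0 : (pr g χ).1 ≠ 0 := fun e' => h2 (Prod.ext e' (e ▸ e'))
    rw [pr_pos g (mem_of_pr h2)] at *
    obtain ⟨m, m1, m2, m3⟩ := H8.B24.ufil h g hz hn hc h1 (mem_of_pr ((mem_T5 g).1 ‹_›).2) h4
      (const_of g (by omega) e)
    simp only at *
    omega
  · left
    rw [show Nat.ble 110 (en0 k g χ).1 = true from Nat.ble_eq_true_of_le (lo (mem_of_pr h3))]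
    exact mem_ty h (Or.inr ⟨rfl, hc⟩) (idx_dvd h hG) h1 h3

end Cfsg.Agent.H2.B24
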