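import Cfsg.Agent.H2.B24B

/-! Soundness of the completion and value searches. -/

set_option autoImplicit false

namespace Cfsg.Agent.H2.B24

open Cfsg Cfsg.Agent.H3 Cfsg.Agent.H2.D1 Cfsg.Agent.H5.MW Finset Subgroup
open scoped Classical

theorem vp_start {ι : Type*} {f : J → P} {tgt K B B0 : ℕ} {fin : ℕ → List (J × ℤ) → Bool}
    {m : J → ℕ} {acc : List (J × ℤ)} (en : ι → J) (v : ι → ℤ) (l : List ι)
    (h1 : ∀ i ∈ l, 0 < m (en i) ∧ (m (en i) : ℤ) ∣ (en i).1 - v i ∧ (v i).natAbs < (en i).1 ∧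
      ((en i).1 : ℤ) ∣ K * v i ∧ n1 (f (en i)) ≤ 11 ∧ (en i).1 ≤ 16000)
    (h2 : (l.map fun i => (v i).natAbs * (v i).natAbs).sum ≤ B0) (h0 : B0 ≤ B)
    (h3 : ((l.map fun i => (f (en i)).1 * v i).sum + 48000 * l.length).toNat = tgt)
    (h4 : fin (B0 - (l.map fun i => (v i).natAbs * (v i).natAbs).sum)
      (l.reverse.map (fun i => (en i, v i)) ++ acc) = true) :
    vp tgt fin (((l.map en).map fun i => (cd K B (m i) i.1).map (mkV f i)).map toT) B0 0 acc =
      true := by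
  have e1 : ∀ i ∈ l, mkV f (en i) ((en i).1 - v i).toNat = ⟨(v i).natAbs * (v i).natAbs, 0,
      ((f (en i)).1 * v i + 48000).toNat, (en i, v i)⟩ := fun i hi => by
    have := (h1 i hi).2.2.1
    rw [mkV, sqd_eq (by omega), Int.toNat_of_nonneg (by omega), sub_sub_cancel]
  have := vp_sound (tgt := tgt) (fin := fin) (fun i => (cd K B (m (en i)) (en i).1).map (mkV f (en i)))
    (fun i => ⟨(v i).natAbs * (v i).natAbs, 0, ((f (en i)).1 * v i + 48000).toNat, (en i, v i)⟩) l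
    _ 0 acc (fun i hi => ?_) ?_ h4
  · rw [Nat.add_sub_cancel' h2] at this
    simpa only [List.map_map, Function.comp_def] using this
  · obtain ⟨a1, a2, a3, a4, -⟩ := h1 i hi
    exact e1 i hi ▸ List.mem_map_of_mem (mem_cd a1 a2 a3 ((List.single_le_sum (by simp) _
      (List.mem_map_of_mem hi)).trans (h2.trans h0)) a4)
  have h5 : ∀ l' : List ι, (∀ i ∈ l', i ∈ l) → ((l'.map fun i =>
      ((f (en i)).1 * v i + 48000).toNat).sum : ℤ) =
        (l'.map fun i => (f (en i)).1 * v i).sum + 48000 * l'.length := fun l' hl => by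
    induction l' with
    | nil => rfl
    | cons i l' ih =>
      obtain ⟨-, -, a3, -, a5, a6⟩ := h1 i (hl i (by simp))
      have a7 : (f (en i)).1.natAbs ≤ 3 := by unfold n1 at a5; nlinarith
      have a8 : ((f (en i)).1 * v i).natAbs ≤ 3 * 16000 :=
        Int.natAbs_mul .. ▸ Nat.mul_le_mul a7 (by omega)
      simp only [List.map_cons, List.sum_cons, List.length_cons, Nat.cast_add,
        ih fun j hj => hl j (by simp [hj])]
      omega
  have := h5 l fun _ h => h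
  simp only
  omega

variable {G : Type*} [Group G] [Finite G] {p : ℕ} [hp : Fact p.Prime] {x y z : G} [NS G]
  (hG : Nat.card G = 244823040) (k : Ctx 23 x) (h : Ctx 11 y) (g : Ctx 5 z)

noncomputable def T3 (f : J → P) : List (IrrCharacter G) :=
  (univ.filter fun χ => χ ≠ triv ∧ pr g χ = (0, 0) ∧ f (en k h g χ) ≠ (0, 0)).toList

omit [NS G] in
theorem mem_T3 {f : J → P} {χ : IrrCharacter G} :
    χ ∈ T3 k h g f ↔ χ ≠ triv ∧ pr g χ = (0, 0) ∧ f (en k h g χ) ≠ (0, 0) := by simp [T3]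

omit [NS G] in
theorem ok_T3 {f : J → P} {l l' : List (IrrCharacter G)} (hl : l.Perm (T5 g))
    (hl' : l'.Perm (T3 k h g f)) : Ok (l' ++ l) ∧
      ∀ χ, χ ≠ triv → f (en k h g χ) ≠ (0, 0) → χ ∈ l' ++ l := by
  refine ⟨⟨List.nodup_append.2 ⟨hl'.nodup_iff.2 (nodup_toList _), hl.nodup_iff.2 (ok_T5 g).1,
    fun a h1 b h2 e => ?_⟩, fun e => ?_⟩, fun χ h1 h2 => List.mem_append.2 ?_⟩
  · exact ((mem_T5 g).1 (hl.subset h2)).2 (e ▸ ((mem_T3 k h g).1 (hl'.subset h1)).2.1)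
  · obtain e | e := List.mem_append.1 e
    · exact ((mem_T3 k h g).1 (hl'.subset e)).1 rfl
    · exact ((mem_T5 g).1 (hl.subset e)).1 rfl
  by_cases e : pr g χ = (0, 0)
  · exact Or.inl (hl'.symm.subset ((mem_T3 k h g).2 ⟨h1, e, h2⟩))
  · exact Or.inr (hl.symm.subset ((mem_T5 g).2 ⟨h1, e⟩))

include hG

theorem bds {l : List (IrrCharacter G)} (hl : Ok l) :
    (cst (l.map (en k h g)) + off (Nat.card h.H) (Nat.card g.H)) &&& msk = 0 := by
  have e1 := Nat.le_of_dvd (by decide) (e_dvd h)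
  have e2 := Nat.le_of_dvd (by decide) (e_dvd g)
  refine okc (by omega) (by omega) ?_ ?_ ?_ <;> simp only [List.map_map]
  exacts [n_le g hl, n_le h hl, (cent23 (Or.inr hG) k).2.1 ▸ n_le k hl]

section
variable {q : ℕ} [Fact q.Prime] {w : G} (j : Ctx q w) {f : J → P} (hf : f = fb ∨ f = fc)
  (hj : ∀ χ, f (en k h g χ) = pr j χ) {X1 X2 : List (E J)}
  (hX : ∀ χ ∈ T3 k h g f, mkU fb fc f (en k h g χ) ∈ X1 ∨
    mkE f (en k h g χ) ∈ X2 ∧ (pr h χ = (0, 0) ∨ pr k χ = (0, 0)))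
include hf hj hX

theorem t3_sound {l : List (IrrCharacter G)} (hl : l.Perm (T5 g)) {flt : J → Bool}
    (hflt : ∀ χ ∈ T3 k h g f, flt (en k h g χ) = true) {fin : List J → Bool}
    (hfin : ∀ l' : List _, l'.Perm (T3 k h g f) → fin (l'.map (en k h g)) = true) :
    t3 (Nat.card h.H) (Nat.card g.H) (2 * Nat.card j.H) f X1 X2 flt (l.map (en k h g)) fin =
      true := by
  obtain ⟨ok, cov⟩ := ok_T3 k h g hl (.refl (T3 k h g f))
  have e1 := Nat.le_of_dvd (by decide) (e_dvd h)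
  have c2 := (cent23 (Or.inr hG) k).2.1
  refine two_sound hf (en k h g) (T3 k h g f) l (fun χ e => wt_pos ((mem_T3 k h g).1 e).2.2)
    (fun χ e => ?_) (wt_eq j hj ok fun χ h1 h2 => cov χ h1 (hj χ ▸ h2))
    (fun l hl => bds hG k h g (ok.sub hl))
    (fun l hl => ⟨se_sound (fun _ => rfl) h (fun _ => rfl) (ok.sub hl),
      se_sound (fun _ => rfl) k (fun _ => rfl) (ok.sub hl)⟩)
    (ip_sound h (fun _ => rfl) k (fun _ => rfl) (by decide) (not23 hG k h (by decide)) ok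
      fun χ h1 h2 h3 => cov χ h1 (by obtain rfl | rfl := hf <;> assumption))
    (fun l hl => dq_sound (fun _ => rfl) j hj (ok.sub hl.subperm) fun χ h1 h2 =>
      hl.symm.subset (cov χ h1 (hj χ ▸ h2))) (fun χ e => ?_) hfin
  · have h1 : χ ≠ triv := fun e' => ok.2 (e' ▸ e)
    have a := n_le' h h1
    have b := n_le' k h1
    exact ⟨a.1.trans (by omega), a.2.1.trans (by omega), c2 ▸ b.1, c2 ▸ b.2.1, (mem_DG hG h1).2⟩
  · exact (hX χ e).imp (fun a => List.mem_filter.2 ⟨a, hflt χ e⟩) fun a =>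
      ⟨List.mem_filter.2 ⟨a.1, hflt χ e⟩, a.2⟩

theorem vv_sound (ho : ¬ 2 ∣ Nat.card j.H) (hj11 : Nat.card j.H ≤ 11) {s : G}
    (hs : orderOf s = 2) (s1 : s ∈ h.K) (s2 : s ∈ g.K) {l : List (IrrCharacter G)}
    (hl : l.Perm (T5 g)) {K5 : List ℕ} (hK : Nat.card g.K ∈ K5) :
    vv (Nat.card h.H) (Nat.card g.H) (2 * Nat.card j.H) f X1 X2 K5 (l.map (en k h g)) = true := by
  have ss := sq_eq_one_of_orderOf hs
  have e2 := Nat.le_of_dvd (by decide) (e_dvd g)
  set C := Nat.card (centralizer ({s} : Set G)) with hC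
  have hv : ∀ χ : IrrCharacter G, χ ≠ triv → 0 < md (en k h g χ) ∧
      (md (en k h g χ) : ℤ) ∣ dg χ - yv s χ ∧ (yv s χ).natAbs < dg χ ∧
      (dg χ : ℤ) ∣ (244823040 / C : ℕ) * yv s χ ∧ dg χ ≤ 16000 ∧
      (pr g χ ≠ (0, 0) → ((5 * md (en k h g χ) : ℕ) : ℤ) ∣ dg χ - yv s χ) := fun χ h1 => by
    obtain ⟨a1, a2⟩ := val_lt h1 hs
    have a3 := H5.MT.dvd_of_central χ {()} (fun _ => s) (fun _ _ => rfl) (dg_eq χ)
      (a := yv s χ) (by simpa using yv_spec ss χ)
    have a4 := fun e : pr g χ ≠ (0, 0) => four_p g (mem_of_pr e) ss s2 (yv_spec ss χ)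
    rw [← hG, ← (centralizer {s}).index_mul_card, Nat.mul_div_cancel _ Nat.card_pos]
    by_cases e : pr h χ = (0, 0)
    · rw [show md (en k h g χ) = 4 by simp [md, fb, en, e]]
      exact ⟨by decide, a2, a1, a3, (mem_DG hG h1).2, a4⟩
    · have a5 := four_p h (mem_of_pr e) ss s1 (yv_spec ss χ)
      rw [show md (en k h g χ) = 44 by simp [md, fb, en, e, Bool.cond_eq_ite]]
      refine ⟨by decide, a5, a1, a3, (mem_DG hG h1).2, fun e => ?_⟩
      have := a4 e
      omega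
  have ok : Ok l := (ok_T5 g).sub hl.subperm
  have cov : Cov g l.reverse := fun χ h1 h2 =>
    List.mem_reverse.2 (hl.symm.subset ((mem_T5 g).2 ⟨h1, h2⟩))
  have ok' := ok.sub (List.reverse_perm l).subperm
  have nl := norm_le ok ss
  have mc : ∀ {r : ℕ} [Fact r.Prime] {u : G} (i : Ctx r u), s ∈ i.K → r ∣ C := fun i e =>
    i.ord ▸ orderOf_dvd_natCard _ (mem_centralizer_singleton_iff.2 (i.mem_K.1 e).1)
  have c1 : C ∣ 23 * 10644480 := (card_subgroup_dvd_card _).trans hG.dvd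
  have c2 : ¬ 23 ∣ C := fun e => by
    rw [k.eq_one (cent23 (Or.inr hG) k).1 (k.isPReg ss) e, orderOf_one] at hs
    omega
  have c3 : 2 ∣ C := hs ▸ orderOf_dvd_natCard _ (mem_centralizer_singleton_iff.2 rfl)
  simp only [vv, fN_eq, fZ_eq, List.any_eq_true]
  refine ⟨C, List.mem_filter.2 ⟨mem_dv (by decide) (Nat.Coprime.dvd_of_dvd_mul_left
    ((Nat.Prime.coprime_iff_not_dvd Fact.out).2 c2).symm c1), by
      have := mc h s1; have := mc g s2; simp; omega⟩,
    vp_start (en k h g) (yv s) l (fun χ e => ?_) (by omega) (by omega) ?_ ?_⟩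
  · obtain ⟨h1, h2⟩ := (mem_T5 g).1 (hl.subset e)
    obtain ⟨a1, -, a3, a4, a5, a6⟩ := hv χ h1
    exact ⟨by omega, a6 h2, a3, a4, (n_le' g h1).1.trans (by omega), a5⟩
  · rw [(lin g (f := fa) (en := en k h g) (fun _ => rfl) (g.isPReg ss) (yv_spec ss) ok
      fun χ h1 h2 => List.mem_reverse.1 (cov χ h1 h2)).1, List.length_map]
    omega
  obtain ⟨I, I1, -, I3⟩ := qq_sound (f := fa) (en := en k h g) (fun _ => rfl) g (fun _ => rfl) hG
    ss ok' cov
  have nb : ∀ l' : List _, l'.Perm (T3 k h g f) →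
      (l'.map fun χ => (yv s χ).natAbs * (yv s χ).natAbs).sum ≤
        C - 1 - (l.map fun χ => (yv s χ).natAbs * (yv s χ).natAbs).sum := fun l' hl' => by
    have := norm_le (ok_T3 k h g hl hl').1 ss
    rw [List.map_append, List.sum_append] at this
    omega
  simp only [List.append_nil, Bool.and_eq_true, List.any_eq_true, beq_iff_eq, List.mem_range]
  refine ⟨vq_sound g (fun _ => rfl) ss ok' cov, ⟨_, hK, ?_, I, by omega, I3⟩,
    t3_sound hG k h g j hf hj hX hl (fun χ e => ?_) fun l' hl' => ?_⟩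
  · rw [I3]
    exact Int.emod_eq_zero_of_dvd (Int.natCast_dvd_natCast.2 ⟨I ^ 2, by ring⟩)
  · obtain ⟨a1, a2, a3, a4, -⟩ := hv χ ((mem_T3 k h g).1 e).1
    have := mem_cd a1 a2 a3 ((List.single_le_sum (by simp) _ (List.mem_map_of_mem e)).trans
      (nb _ (.refl _))) a4
    simpa [en] using List.ne_nil_of_mem this
  obtain ⟨ok2, cov2⟩ := ok_T3 k h g ((List.reverse_perm l).trans hl)
    ((List.reverse_perm l').trans hl')
  have cov3 : Cov j (l'.reverse ++ l.reverse) := fun χ h1 h2 => cov2 χ h1 (hj χ ▸ h2)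
  refine vp_start (en k h g) (yv s) l' (fun χ e => ?_) (nb _ hl') le_rfl ?_ ?_
  · have h1 := ((mem_T3 k h g).1 (hl'.subset e)).1
    obtain ⟨a1, a2, a3, a4, a5, -⟩ := hv χ h1
    exact ⟨a1, a2, a3, a4, hj χ ▸ (n_le' j h1).1.trans hj11, a5⟩
  · have := (lin j hj (j.isPReg ss) (yv_spec ss) ok2 cov3).1
    simp only [List.map_append, List.sum_append, List.map_reverse, List.sum_reverse] at this
    simp only [vq1, sj, List.map_map, Function.comp_def, List.map_reverse, List.sum_reverse,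
      List.length_map]
    omega
  obtain ⟨I', -, I2, I3'⟩ := qq_sound (fun _ => rfl) j hj hG ss ok2 cov3
  rw [← List.map_append, vq_sound j hj ss ok2 cov3, Bool.true_and, beq_iff_eq]
  rw [I2 ho] at I3'
  simpa [Nat.card_pos.ne'] using I3'

end

theorem post_sound (he : Nat.card h.H = 5 ∨ Nat.card h.H = 10)
    (hz : z ∈ normalizer (zpowers y : Set G)) (hn : ¬ Commute y z)
    (h1 : nd (Nat.card h.K) ∣ Nat.card (h.K ⊓ g.K : Subgroup G))
    (h2 : Nat.card (h.K ⊓ g.K : Subgroup G) ≠ 1) {l : List (IrrCharacter G)} (hl : l.Perm (T5 g))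
    {R : List (List J × List ℕ)}
    (hR : (l.map (en0 k g), c5s (Nat.card g.H) (l.map (en0 k g))) ∈ R) :
    post (Nat.card h.H) (Nat.card h.K) (Nat.card g.H) R = true := by
  obtain ⟨a, ⟨a1, a2⟩, a3⟩ := (h.K ⊓ g.K).bot_or_exists_ne_one.resolve_left fun e => h2 (by simp [e])
  have hc : Nat.card h.K ≠ 1 := fun e => a3 (mem_bot.1 (card_eq_one.1 e ▸ a1))
  have hc5 : Nat.card g.K ≠ 1 := fun e => a3 (mem_bot.1 (card_eq_one.1 e ▸ a2))
  have n11 : ¬ 11 ∣ Nat.card g.K :=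
    not_dvd_K' h g (by decide) (not_dvd_K h (by omega) g.nsq)
  have hK : Nat.card g.K ∈ (c5s (Nat.card g.H) (l.map (en0 k g))).filter
      fun c => c % nd (Nat.card h.K) == 0 := List.mem_filter.2 ⟨mem_c5s hG k g hc5 n11 hl,
    beq_iff_eq.2 (Nat.mod_eq_zero_of_dvd (h1.trans (card_dvd_of_le inf_le_right)))⟩
  have hl' := (List.reverse_perm l).trans hl
  have ok := (ok_T5 g).sub hl'.subperm
  have c2 := (cent23 (Or.inr hG) k).2.1
  have A : ∀ {q : ℕ} [Fact q.Prime] {w : G} (j : Ctx q w) {f : J → P} (_ : f = fb ∨ f = fc)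
      (_ : ∀ χ, f (en k h g χ) = pr j χ) (_ : ¬ 2 ∣ Nat.card j.H) (_ : Nat.card j.H ≤ 11)
      {Y : List J} (_ : ∀ χ ∈ T3 k h g f, pr h χ = (0, 0) ∨ pr k χ = (0, 0) → en k h g χ ∈ Y)
      (X1 X2 : List (E J)), X1 = (its (fun _ => [(0, 0)]) (fun d _ => ty 11 (Nat.card h.H) 2
        (22256640 / Nat.card h.K) d) t23).map (mkU fb fc f) → X2 = Y.map (mkE f) →
      (bif nd (Nat.card h.K) % 2 == 0 then vv (Nat.card h.H) (Nat.card g.H) (2 * Nat.card j.H) f
        X1 X2 ((c5s (Nat.card g.H) (l.map (en0 k g))).filter fun c => c % nd (Nat.card h.K) == 0)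
        (l.reverse.map (en k h g)) else t3 (Nat.card h.H) (Nat.card g.H) (2 * Nat.card j.H) f X1 X2
        (fun _ => true) (l.reverse.map (en k h g)) fun _ => true) = true := by
    intro q _ w j f hf hj ho hj11 Y hY X1 X2 e1 e2
    have hX : ∀ χ ∈ T3 k h g f, mkU fb fc f (en k h g χ) ∈ X1 ∨
        mkE f (en k h g χ) ∈ X2 ∧ (pr h χ = (0, 0) ∨ pr k χ = (0, 0)) := fun χ e => by
      by_cases e' : pr h χ = (0, 0) ∨ pr k χ = (0, 0)
      · exact Or.inr ⟨e2 ▸ List.mem_map_of_mem (hY χ e e'), e'⟩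
      obtain ⟨b1, b2, -⟩ := (mem_T3 k h g).1 e
      rw [not_or] at e'
      exact Or.inl (e1 ▸ List.mem_map_of_mem (mem_its.2 ⟨(mem_DG hG b1).1, List.mem_singleton.2 b2,
        mem_ty h (Or.inr ⟨rfl, hc⟩) (idx_dvd h hG) b1 e'.1, mem_t23 hG k b1 e'.2⟩))
    cases e : nd (Nat.card h.K) % 2 == 0
    · exact t3_sound hG k h g j hf hj hX hl' (flt := fun _ => true) (fin := fun _ => true)
        (fun _ _ => rfl) fun _ _ => rfl
    obtain ⟨s, ⟨s1, s2⟩, hs⟩ := exists_orderOf_eq_mem Nat.prime_two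
      ((Nat.dvd_of_mod_eq_zero (beq_iff_eq.1 e)).trans h1)
    exact vv_sound hG k h g j hf hj hX ho hj11 hs s1 s2 hl' hK
  simp only [post, fL_eq, List.any_eq_true, Bool.and_eq_true]
  refine ⟨_, hR, by simpa using List.ne_nil_of_mem hK, ch_sound (en0 k g) (en k h g) l []
    (fun χ e => mem_bs hG k h g hz hn a1 a2 a3 (hl.subset e)) ?_⟩
  simp only [List.append_nil, Bool.and_eq_true, beq_iff_eq]
  refine ⟨bds hG k h g ok, ip_sound g (fun _ => rfl) h (fun _ => rfl) (by decide) n11 ok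
    fun χ b1 b2 _ => hl'.symm.subset ((mem_T5 g).2 ⟨b1, b2⟩),
    se_sound (fun _ => rfl) h (fun _ => rfl) ok, ?_⟩
  obtain e | e := he
  · have := A h (Or.inl rfl) (fun _ => rfl) (by omega) (by omega) (Y := its (fun _ => [(0, 0)])
      (fun d _ => ty 11 (Nat.card h.H) 2 (22256640 / Nat.card h.K) d) z23) (fun χ b b' => by
        obtain ⟨b1, b2, b3⟩ := (mem_T3 k h g).1 b
        exact mem_its.2 ⟨(mem_DG hG b1).1, List.mem_singleton.2 b2,
          mem_ty h (Or.inr ⟨rfl, hc⟩) (idx_dvd h hG) b1 b3, mem_z23 hG k b1 (b'.resolve_left b3)⟩)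
      _ _ rfl rfl
    rw [e] at this ⊢
    exact this
  · have := A k (Or.inr rfl) (fun _ => rfl) (by omega) (by omega) (Y := its (fun _ => [(0, 0)])
      (fun _ _ => [(0, 0)]) t23) (fun χ b b' => by
        obtain ⟨b1, b2, b3⟩ := (mem_T3 k h g).1 b
        exact mem_its.2 ⟨(mem_DG hG b1).1, List.mem_singleton.2 b2,
          List.mem_singleton.2 (b'.resolve_right b3), mem_t23 hG k b1 b3⟩) _ _ rfl rfl
    rw [e, c2] at this
    rw [e]
    exact this

end Cfsg.Agent.H2.B24
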