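import Cfsg.Agent.H2.B24S

/-! A multiset search pruned by linear bounds. -/

set_option autoImplicit false

namespace Cfsg.Agent.H2.B24

inductive Tq (α : Type) where
  | nil : Tq α
  | cons (w c v lo hi : ℕ) (j : α) (t : Tq α) : Tq α

def lo {α : Type} : List (E α) → ℕ
  | [] => 1000000000
  | a :: X => min (a.v / a.w) (lo X)

def hi {α : Type} : List (E α) → ℕ
  | [] => 0
  | a :: X => max (a.v / a.w + 1) (hi X)

theorem lo_hi {α : Type} {X : List (E α)} {a : E α} (h : a ∈ X) (hw : 0 < a.w) :
    a.w * lo X ≤ a.v ∧ a.v ≤ a.w * hi X := by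
  induction X with
  | nil => simp at h
  | cons b X ih =>
    obtain rfl | h := List.mem_cons.1 h
    · exact ⟨(Nat.mul_le_mul_left _ (min_le_left _ _)).trans (Nat.mul_div_le _ _),
        (Nat.lt_mul_div_succ _ hw).le.trans (Nat.mul_le_mul_left _ (le_max_left _ _))⟩
    · exact ⟨(Nat.mul_le_mul_left _ (min_le_right _ _)).trans (ih h).1,
        (ih h).2.trans (Nat.mul_le_mul_left _ (le_max_right _ _))⟩

def toQ {α : Type} : List (E α) → Tq α
  | [] => .nil
  | a :: X => .cons a.w a.c a.v (lo (a :: X)) (hi (a :: X)) a.j (toQ X)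

noncomputable def fQ {α : Type} (X : List (E α)) : (Tq α → ℕ → ℕ → Bool) → Bool :=
  List.rec (fun k => k .nil 1000000000 0) (fun a _ ih k => fN a.w fun w => fN a.c fun c =>
    fN a.v fun v => ih fun Y l h => fN (min (v / w) l) fun l => fN (max (v / w + 1) h) fun h =>
      k (.cons w c v l h a.j Y) l h) X

theorem fQ_eq {α : Type} (X : List (E α)) (k : Tq α → ℕ → ℕ → Bool) :
    fQ X k = k (toQ X) (lo X) (hi X) := by
  induction X generalizing k with
  | nil => rfl
  | cons a X ih => exact ih _

noncomputable def scq {α : Type} (w need : ℕ) (F : ℕ → ℕ → α → Bool)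
    (R : ℕ → ℕ → ℕ → ℕ → ℕ → α → Tq α → Bool) (X : Tq α) : Bool :=
  Tq.rec false (fun w' c v l h j t ih => Bool.rec false (Bool.rec false
    (Bool.rec (Bool.rec ih true (R w' c v l h j t))
      (Bool.rec ih (Bool.rec ih true (F w' c j)) (Nat.beq v need)) (Nat.ble w w'))
    (Nat.ble need (Nat.mul w h))) (Nat.ble (Nat.mul w l) need)) X

noncomputable def rq {α : Type} (mask : ℕ) (fin : ℕ → List α → Bool) (f : ℕ) :
    Tq α → ℕ → ℕ → ℕ → List α → Bool :=
  Nat.rec (fun _ _ _ _ _ => true) (fun _ ih X w s need acc => fN w fun w => fN s fun s =>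
    fN need fun need => scq w need
      (fun w' c j => Bool.rec false (Bool.rec false (fin (Nat.add c s) (j :: acc))
        (Nat.beq (Nat.land (Nat.add c s) mask) 0)) (Nat.beq w' w))
      (fun w' c v l h j t => Bool.rec false (ih (.cons w' c v l h j t) (Nat.sub w w') (Nat.add c s)
        (Nat.sub need v) (j :: acc)) (Nat.beq (Nat.land (Nat.add c s) mask) 0)) X) f

theorem rq_cons {α : Type} {mask : ℕ} {fin : ℕ → List α → Bool} {f w s n : ℕ}
    {a : E α} {X : List (E α)} {acc : List α} (h1 : w * lo (a :: X) ≤ n) (h2 : n ≤ w * hi (a :: X))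
    (h : rq mask fin (f + 1) (toQ X) w s n acc = true ∨
      (a.c + s) &&& mask = 0 ∧ (a.w < w ∧
        rq mask fin f (toQ (a :: X)) (w - a.w) (a.c + s) (n - a.v) (a.j :: acc) = true ∨
      a.w = w ∧ a.v = n ∧ fin (a.c + s) (a.j :: acc) = true)) :
    rq mask fin (f + 1) (toQ (a :: X)) w s n acc = true := by
  change (Bool.rec false (Bool.rec false (Bool.rec (Bool.rec (rq mask fin (f + 1) (toQ X) w s n acc)
      true (Bool.rec false (rq mask fin f (toQ (a :: X)) (w - a.w) (a.c + s) (n - a.v) (a.j :: acc))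
      (Nat.beq ((a.c + s) &&& mask) 0)))
    (Bool.rec (rq mask fin (f + 1) (toQ X) w s n acc)
      (Bool.rec (rq mask fin (f + 1) (toQ X) w s n acc) true (Bool.rec false (Bool.rec false
        (fin (a.c + s) (a.j :: acc)) (Nat.beq ((a.c + s) &&& mask) 0)) (Nat.beq a.w w)))
      (Nat.beq a.v n)) (Nat.ble w a.w)) (Nat.ble n (w * hi (a :: X))))
      (Nat.ble (w * lo (a :: X)) n) : Bool) = true
  rw [Nat.ble_eq_true_of_le h1, Nat.ble_eq_true_of_le h2]
  obtain h | ⟨h0, ⟨h1, h2⟩ | ⟨h1, h2, h3⟩⟩ := h
  · rw [h]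
    generalize (Bool.rec _ _ (Nat.beq a.w w) : Bool) = b
    generalize (Bool.rec false (rq _ _ f _ _ _ _ _) _ : Bool) = b'
    cases b <;> cases b' <;> cases Nat.ble w a.w <;> cases Nat.beq a.v n <;> rfl
  · rw [h0, h2, show Nat.ble w a.w = false by simpa [← Bool.not_eq_true] using h1]
    rfl
  · rw [h0, h3, ← h1, ← h2, Nat.beq_refl, Nat.beq_refl, Nat.beq_refl,
      Nat.ble_eq_true_of_le le_rfl]

theorem rq_sound {ι : Type*} {β : Type} {mask : ℕ} {fin : ℕ → List β → Bool}
    (ent : ι → E β) (T : List ι) (s0 : ℕ) (A : List β) (hwt : ∀ i ∈ T, 0 < (ent i).w)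
    (hok : ∀ l : List ι, l.Subperm T → ((l.map fun i => (ent i).c).sum + s0) &&& mask = 0)
    (hfin : ∀ l : List ι, l.Perm T →
      fin ((l.map fun i => (ent i).c).sum + s0) (l.map (fun i => (ent i).j) ++ A) = true)
    (f : ℕ) (X : List (E β)) (l acc : List ι) (hT : (l ++ acc).Perm T) (h0 : l ≠ [])
    (h1 : ∀ i ∈ l, ent i ∈ X) :
    rq mask fin f (toQ X) (l.map fun i => (ent i).w).sum ((acc.map fun i => (ent i).c).sum + s0)
      (l.map fun i => (ent i).v).sum (acc.map (fun i => (ent i).j) ++ A) = true := by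
  classical
  induction f generalizing X l acc with
  | zero => rfl
  | succ f ih =>
    induction X with
    | nil => exact (h0 (List.eq_nil_iff_forall_not_mem.2 fun i hi => by simpa using h1 i hi)).elim
    | cons a X ihX =>
      have hb := fun i hi => lo_hi (h1 i hi) (hwt i (hT.subset (List.mem_append_left _ hi)))
      refine rq_cons ?_ ?_ ?_
      · rw [← List.sum_map_mul_right]
        exact List.sum_le_sum fun i hi => (hb i hi).1
      · rw [← List.sum_map_mul_right]
        exact List.sum_le_sum fun i hi => (hb i hi).2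
      by_cases ha : ∃ i ∈ l, ent i = a
      · obtain ⟨i, hi, rfl⟩ := ha
        have hp : (l.erase i ++ i :: acc).Perm T :=
          (List.perm_middle.trans ((List.perm_cons_erase hi).symm.append_right acc)).trans hT
        have hs := ((List.perm_cons_erase hi).map fun i => (ent i).w).sum_eq
        have hv := ((List.perm_cons_erase hi).map fun i => (ent i).v).sum_eq
        rw [List.map_cons, List.sum_cons] at hs hv
        have := fun e => ih (ent i :: X) _ _ hp e fun b hb => h1 b (List.mem_of_mem_erase hb)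
        have h2 := hok (i :: acc) ((List.sublist_append_right _ _).subperm.trans hp.subperm)
        simp only [List.map_cons, List.sum_cons, add_assoc, List.cons_append] at this h2
        refine Or.inr ⟨h2, ?_⟩
        cases e : l.erase i with
        | nil =>
          rw [e] at hp hs hv
          have h3 := hfin (i :: acc) hp
          simp only [List.map_cons, List.sum_cons, add_assoc, List.cons_append,
            List.map_nil, List.sum_nil] at h3 hs hv
          exact Or.inr ⟨by omega, by omega, h3⟩
        | cons j l' =>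
          have hj := hwt j (hp.subset (by simp [e]))
          refine Or.inl ⟨by rw [hs, e]; simp; omega, ?_⟩
          rw [hs, hv, Nat.add_sub_cancel_left, Nat.add_sub_cancel_left]
          exact this (by simp [e])
      · exact Or.inl (ihX fun i hi => (List.mem_cons.1 (h1 i hi)).resolve_left
          fun e => ha ⟨i, hi, e⟩)

noncomputable def rw0 {α : Type} (mask : ℕ) (fin : ℕ → List α → Bool) (X : Tq α) (w s n : ℕ)
    (acc : List α) : Bool :=
  bif Nat.beq w 0 then Nat.beq n 0 && fin s acc else rq mask fin 30 X w s n acc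

theorem rw0_sound {ι : Type*} {β : Type} {mask w s0 n : ℕ} {fin : ℕ → List β → Bool}
    {X : List (E β)} {A : List β} (ent : ι → E β) (T : List ι)
    (hw : w = (T.map fun i => (ent i).w).sum) (hn : n = (T.map fun i => (ent i).v).sum)
    (h1 : ∀ i ∈ T, ent i ∈ X) (hwt : ∀ i ∈ T, 0 < (ent i).w)
    (hok : ∀ l : List ι, l.Subperm T → ((l.map fun i => (ent i).c).sum + s0) &&& mask = 0)
    (hfin : ∀ l : List ι, l.Perm T →
      fin ((l.map fun i => (ent i).c).sum + s0) (l.map (fun i => (ent i).j) ++ A) = true) :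
    rw0 mask fin (toQ X) w s0 n A = true := by
  cases T with
  | nil => simpa [rw0, hw, hn] using hfin [] (.refl _)
  | cons i T =>
    have := rq_sound ent (i :: T) s0 A hwt hok hfin 30 X (i :: T) [] (by simp) (by simp) h1
    have h2 := hwt i (by simp)
    rw [List.map_nil, List.map_nil, List.sum_nil, zero_add, List.nil_append, ← hw, ← hn] at this
    rw [rw0, show Nat.beq w 0 = false by simp [← Bool.not_eq_true, hw]; omega, cond_false, this]

end Cfsg.Agent.H2.B24
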