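import Cfsg.Agent.H2.B24G1
import Cfsg.Agent.H7.B24Def

/-! The search over the blocks of degrees. -/

set_option autoImplicit false

namespace Cfsg.Agent.H2.B24

open Cfsg.Agent.H7.B24

def ga (d : ℕ) : ℕ := (Af d).natAbs
def gc (d : ℕ) : ℕ := (Cf d).natAbs
def ge (d : ℕ) : ℕ := if (Af d).natAbs = 1 then 1 else 0
def va (d : ℕ) : ℕ := (64 * (Af d * d) + Af d * Cf d + 1024001 * ga d).toNat
def vc (d : ℕ) : ℕ := (Cf d * d + 16000 * gc d).toNat
def gk (d : ℕ) : ℕ := gc d + 64 * (ge d + 64 * (d * d))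
def bw (g : ℕ → ℕ) (L : List ℕ) : ℕ := (L.map g).sum

def eA (L : List ℕ) : E (List ℕ) := ⟨bw ga L, bw gk L, bw va L, L⟩
def eC (L : List ℕ) : E (List ℕ) := ⟨bw gc L, bw gk L, bw vc L, L⟩

def N9 : List ℕ := [45, 252, 495, 990, 1035, 2277, 2772, 3312, 4554, 5544, 5796, 6336, 9108, 11385,
  12672]

def XE : List (List ℕ) := [[11], [12], [264], [540], [770], [1024], [1760], [3024], [9856], [11880],
  [495, 495, 990], [495, 2277, 2772], [2772, 2772, 5544], [2772, 6336, 9108], [6336, 6336, 12672],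
  [495, 495, 495], [2772, 2772, 2772], [6336, 6336, 6336]]

def XA : List (List ℕ) := [[12672, 12672, 12672], [10395], [5544, 5544, 5544], [3840], [3520],
  [990, 4554, 5544], [252, 5544, 5796], [1540], [990, 990, 990], [528], [45, 990, 1035],
  [252, 252, 252], [231], [45, 45, 45], [22]]

def XC : List (List ℕ) := [[15456], [12880], [12420], [8832], [7360], [5796, 5796, 5796], [4830],
  [3312, 3312, 3312], [2760], [1035, 2277, 3312], [1288], [1242], [3312, 5796, 9108],
  [1035, 1035, 1035], [736], [483], [276], [230], [23]]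

def XZ : List (List ℕ) := (DZ.map fun d => [d]) ++ [[2277, 2277, 4554], [2277, 9108, 11385],
  [4554, 4554, 9108], [2277, 2277, 2277], [4554, 4554, 4554], [9108, 9108, 9108],
  [11385, 11385, 11385]]

def TAB : List (List ℕ) := XE ++ (XA ++ (XC ++ XZ))

def off0 : ℕ := 21 + 64 * (29 + 64 * 23612416)
def msk0 : ℕ := 32 + 64 * (32 + 64 * 268435456)

theorem land0 {a b c : ℕ} (ha : a ≤ 10) (hb : b ≤ 2) (hc : c ≤ 244823039) :
    (a + 64 * (b + 64 * c) + off0) &&& msk0 = 0 := by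
  have A : ∀ x u m : ℕ, x < 32 → u &&& m = 0 → (x + 64 * u) &&& (32 + 64 * m) = 0 := by
    intro x u m hx h
    have e1 := Nat.and_div_two_pow (a := x + 64 * u) (b := 32 + 64 * m) (n := 6)
    have e2 := Nat.and_mod_two_pow (a := x + 64 * u) (b := 32 + 64 * m) (n := 6)
    rw [show (x + 64 * u) / 2 ^ 6 = u by omega, show (32 + 64 * m) / 2 ^ 6 = m by omega, h] at e1
    have e3 : ∀ k < 32, k &&& 32 = 0 := by decide
    rw [show (32 + 64 * m) % 2 ^ 6 = 32 by omega, e3 _ (by omega)] at e2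
    omega
  rw [show a + 64 * (b + 64 * c) + off0 = a + 21 + 64 * (b + 29 + 64 * (c + 23612416)) by
    unfold off0; omega]
  refine A _ _ _ (by omega) (A _ _ _ (by omega) ?_)
  rw [show 268435456 = 2 ^ 28 by norm_num, Nat.and_two_pow, Nat.testBit_lt_two_pow (by omega)]
  simp

def exq (l : List (List ℕ)) : Bool := (fun M : List ℕ => M.length == 2 &&
  M.all fun a => M.all fun b => a == b) (l.flatten.filter fun d => ge d == 1)

noncomputable def gs (p : List ℕ) (fin : List (List ℕ) → Bool) : Bool :=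
  fT (XE.map eA) fun YE => fQ (XA.map eA) fun YA _ _ => fQ (XC.map eC) fun YC _ _ =>
    rs msk0 22527892 (fun w s L acc => exq acc && rw0 msk0 (fun s acc =>
      rw0 msk0 (fun _ acc => fin acc) YC (10 - (acc.map (bw gc)).sum) s
        (159999 - (acc.map (bw vc)).sum) acc) YA w s (22527892 - L) acc)
      30 YE (22 - bw ga p) (bw gk p + off0) (bw va p) [p]

def flt (b : Bool) (c : ℕ → ℕ) : Bool :=
  (c 45 % 2 == 0 && (c 45 == 0 || (3 ≤ c 1035 || 3 ≤ c 45))) && (c 5796 != 0 &&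
  ((c 3840 == 0 || (4 ≤ c 3840 || (2 ≤ c 45 || ((2 ≤ c 990 && 2 ≤ c 4830) ||
    ((2 ≤ c 528 && 2 ≤ c 3312) || ((2 ≤ c 3520 && 2 ≤ c 7360) || (2 ≤ c 8832 && 2 ≤ c 12672))))))) &&
  ((b || ((2 ≤ c 231 && c 483 != 0) || ((c 276 != 0 && (2 ≤ c 276 || 2 ≤ c 5796)) ||
    (c 15456 != 0 || c 3024 != 0)))) &&
  !(c 23 == 1 && (c 11 == 0 && (c 12 == 0 && (c 22 == 0 && (c 230 == 0 && c 264 == 0))))))))

theorem gs1 : gs [252, 5544, 5796] (fun l => flt false fun d => l.flatten.count d) = false := by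
  decide +kernel

theorem gs2 : gs [5544, 5544, 5544] (fun l => flt true fun d => l.flatten.count d) = false := by
  decide +kernel

end Cfsg.Agent.H2.B24
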