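import Cfsg.Agent.H2.B24G2
import Cfsg.Agent.H3.B24R
import Cfsg.Agent.H1.B24Q
import Cfsg.Agent.H2.D1Ext

/-! Soundness of the search over the blocks of degrees. -/

set_option autoImplicit false

namespace Cfsg.Agent.H2.B24

open Cfsg Cfsg.Agent.H3 Cfsg.Agent.H2.D1 Cfsg.Agent.H7.B24 Finset
open Cfsg.Agent.H9.Tri
open scoped Classical

variable {G : Type*} [Group G] [Fintype G] {x w : G}

noncomputable def dl (t : Finset (IrrCharacter G)) : List ℕ :=
  if h : ∃ L ∈ TAB, (L : Multiset ℕ) = t.val.map dg then h.choose else []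

noncomputable def U (G : Type*) [Group G] [Fintype G] : Finset (Finset (IrrCharacter G)) :=
  (univ.image bl).erase {triv}

theorem tab1 : ∀ d ∈ DN ++ DZ, (3 ∣ 244823040 / d ∧ ¬ 9 ∣ 244823040 / d → d ∈ N9) ∧
    (¬ (3 ∣ 244823040 / d ∧ ¬ 9 ∣ 244823040 / d) → [d] ∈ TAB) ∧ d ≤ 16000 := by decide +kernel

theorem tab2 : ∀ a ∈ N9, [a, a, a] ∈ TAB ∧ ∀ b ∈ N9, a + b ∈ N9 → Af a + Af b = Af (a + b) →
    Cf a + Cf b = Cf (a + b) → [a, b, a + b] ∈ TAB ∨ [b, a, a + b] ∈ TAB := by decide +kernel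

theorem tab3 : ∀ L ∈ TAB, ((bw ga L ≠ 0 → L ∈ XE ∨ bw ge L = 0 ∧ L ∈ XA) ∧
    (bw ga L = 0 → bw gc L ≠ 0 → L ∈ XC)) ∧ (bw ga L = 0 → bw va L = 0 ∧ bw ge L = 0) ∧
      (bw gc L = 0 → bw vc L = 0) := by decide +kernel

theorem tab4 : ∀ L ∈ TAB, ((L : Multiset ℕ) = {252, 5544, 5796} → L = [252, 5544, 5796]) ∧
    ((L : Multiset ℕ) = {5544, 5544, 5544} → L = [5544, 5544, 5544]) := by decide +kernel

theorem tab5 : ∀ d ∈ DN, ga d ≠ 0 ∨ gc d ≠ 0 := by decide +kernel

theorem tab6 : ∀ d ∈ 1 :: (DN ++ DZ), d ≤ 275 → d ∈ [1, 23, 45, 231, 252, 253] ∨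
    d ∈ [11, 12, 22, 230, 264] := by decide +kernel

variable (D : Data G x w)
include D

theorem not_D1 : ¬ D1 (triv : IrrCharacter G) := by
  rw [D1, D.card, dg_triv]
  decide

theorem ne_triv {t : Finset (IrrCharacter G)} (ht : t ∈ U G) {χ : IrrCharacter G} (h : χ ∈ t) :
    χ ≠ triv ∧ bl χ = t := by
  obtain ⟨h1, h2⟩ := mem_erase.1 ht
  obtain ⟨ψ, -, rfl⟩ := mem_image.1 h2
  exact ⟨fun e => h1 (by rw [← bl_eq h, e, bl_of_not (not_D1 D)]), bl_eq h⟩

theorem dl_spec {t : Finset (IrrCharacter G)} (ht : t ∈ U G) :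
    dl t ∈ TAB ∧ (dl t : Multiset ℕ) = t.val.map dg := by
  suffices h : ∃ L ∈ TAB, (L : Multiset ℕ) = t.val.map dg by
    rw [dl, dif_pos h]; exact h.choose_spec
  obtain ⟨χ, -, rfl⟩ := mem_image.1 (mem_erase.1 ht).2
  have hd := fun ψ (e : ψ ∈ bl χ) => tab1 _ (List.mem_append.2 (D.deg ψ (ne_triv D ht e).1))
  by_cases h : D1 χ
  swap
  · exact ⟨_, (hd χ (self_mem_bl χ)).2.1 (by rwa [D1, D.card] at h), by simp [bl_of_not h]⟩
  obtain ⟨c1, c2, c3, n1, n2, n3, e, hT⟩ := tri' h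
  rw [bl_of_D1 h] at hd ⊢
  have h9 : ∀ ψ ∈ H9.Tri.T χ, dg ψ ∈ N9 := fun ψ e => (hd ψ e).1 (by
    have := (T_eq h e).1
    rwa [D1, D.card] at this)
  have ev : (H9.Tri.T χ).val.map dg = {dg c1, dg c2, dg c3} := by
    rw [e, insert_val_of_notMem (by simp [n1, n2]), insert_val_of_notMem (by simp [n3])]
    simp
  have m1 := h9 c1 (by simp [e])
  have m2 := h9 c2 (by simp [e])
  have m3 := h9 c3 (by simp [e])
  rw [ev]
  obtain hT | hT := hT
  · have rx : IsPReg 3 x := by rw [IsPReg, D.ox]; decide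
    have rw' : IsPReg 3 w := by rw [IsPReg, D.ow]; decide
    have a1 : Af (dg c1) + Af (dg c2) = Af (dg c3) := Int.cast_injective (α := ℂ) (by
      rw [Int.cast_add, ← D.vA, ← D.vA, ← D.vA, ← hT.1 x rx, ← hT.1 _ (isPReg_inv_iff.2 rx)]
      ring)
    have a2 : Cf (dg c1) + Cf (dg c2) = Cf (dg c3) := Int.cast_injective (α := ℂ) (by
      rw [Int.cast_add, ← D.vC, ← D.vC, ← D.vC, hT.1 w rw'])
    rw [← hT.dg] at a1 a2 m3 ⊢
    obtain h | h := (tab2 _ m1).2 _ m2 m3 a1 a2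
    · exact ⟨_, h, rfl⟩
    · exact ⟨_, h, Multiset.cons_swap (dg c2) (dg c1) {dg c1 + dg c2}⟩
  · rw [← hT.dg.2, ← hT.dg.1]
    exact ⟨_, (tab2 _ m1).1, rfl⟩

theorem bw_dl {t : Finset (IrrCharacter G)} (ht : t ∈ U G) (g : ℕ → ℕ) :
    bw g (dl t) = ∑ ψ ∈ t, g (dg ψ) := by
  rw [bw, ← Multiset.sum_coe, ← Multiset.map_coe, (dl_spec D ht).2, Multiset.map_map]
  rfl

theorem tot (g : ℕ → ℕ) :
    ∑ χ : IrrCharacter G, g (dg χ) = g 1 + ∑ t ∈ U G, bw g (dl t) := by
  rw [sum_bl, ← add_sum_erase _ _ (mem_image.2 ⟨triv, mem_univ _, bl_of_not (not_D1 D)⟩),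
    sum_singleton, dg_triv]
  exact congrArg _ (sum_congr rfl fun t ht => (bw_dl D ht g).symm)

theorem tot_le (g : ℕ → ℕ) {l : List (Finset (IrrCharacter G))} (hl : l.Nodup)
    (hU : ∀ t ∈ l, t ∈ U G) :
    g 1 + (l.map fun t => bw g (dl t)).sum ≤ ∑ χ : IrrCharacter G, g (dg χ) := by
  rw [tot D, ← List.sum_toFinset _ hl]
  exact Nat.add_le_add_left (sum_le_sum_of_subset fun t ht => hU t (List.mem_toFinset.1 ht)) _

theorem tot_eq (g : ℕ → ℕ) {l : List (Finset (IrrCharacter G))} (hl : l.Nodup)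
    (hU : ∀ t ∈ l, t ∈ U G) (hc : ∀ t ∈ U G, t ∉ l → bw g (dl t) = 0) :
    g 1 + (l.map fun t => bw g (dl t)).sum = ∑ χ : IrrCharacter G, g (dg χ) := by
  rw [tot D, ← List.sum_toFinset _ hl]
  exact congrArg _ (sum_subset (fun t ht => hU t (List.mem_toFinset.1 ht)) fun t h1 h2 =>
    hc t h1 fun e => h2 (List.mem_toFinset.2 e))

theorem dg_le (χ : IrrCharacter G) : dg χ ≤ 16000 := by
  by_cases h : χ = triv
  · simp [h, dg_triv]
  · exact (tab1 _ (List.mem_append.2 (D.deg χ h))).2.2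

theorem s_va : ∑ χ : IrrCharacter G, va (dg χ) = 24576024 := by
  have h : ∀ χ : IrrCharacter G, (va (dg χ) : ℤ) = 64 * (Af (dg χ) * dg χ) + Af (dg χ) * Cf (dg χ) +
      1024001 * (Af (dg χ)).natAbs := fun χ => Int.toNat_of_nonneg (by
    have := dg_le D χ
    unfold ga Af Cf
    split_ifs <;> simp <;> omega)
  have h2 := congrArg (Nat.cast : ℕ → ℤ) D.sA
  zify
  simp only [Nat.cast_sum] at h2
  simp only [h, sum_add_distrib, ← mul_sum, D.sAd, D.sAC, h2]
  rfl

theorem s_vc : ∑ χ : IrrCharacter G, vc (dg χ) = 176000 := by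
  have h : ∀ χ : IrrCharacter G, (vc (dg χ) : ℤ) = Cf (dg χ) * dg χ +
      16000 * (Cf (dg χ)).natAbs := fun χ => Int.toNat_of_nonneg (by
    have := dg_le D χ
    unfold gc Cf
    split_ifs <;> simp <;> omega)
  have h2 := congrArg (Nat.cast : ℕ → ℤ) D.sC
  zify
  simp only [Nat.cast_sum] at h2
  simp only [h, sum_add_distrib, ← mul_sum, D.sCd, h2]
  rfl

theorem s_ge : ∑ χ : IrrCharacter G, ge (dg χ) = 2 := by
  obtain ⟨θ, h1, h2⟩ := D.ex
  simp only [ge, sum_boole, Nat.cast_id, h2]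
  rw [← card_pair h1]
  exact congrArg _ (by ext; simp)

theorem gk_ok {l : List (Finset (IrrCharacter G))} (hl : l.Nodup) (hU : ∀ t ∈ l, t ∈ U G) :
    ((l.map fun t => bw gk (dl t)).sum + off0) &&& msk0 = 0 := by
  have h1 := (tot_le D gc hl hU).trans D.sC.le
  have h2 := (tot_le D ge hl hU).trans (s_ge D).le
  have h3 := tot_le D (fun d => d * d) hl hU
  have h4 := sum_dg_sq (G := G)
  rw [D.card] at h4
  have h5 : ∑ χ : IrrCharacter G, dg χ * dg χ = 244823040 := by
    simp only [sq] at h4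
    exact_mod_cast h4
  have e : ∀ L, bw gk L = bw gc L + 64 * (bw ge L + 64 * bw (fun d => d * d) L) := fun L => by
    unfold bw gk
    simp only [List.sum_map_add, List.sum_map_mul_left]
  simp only [e, List.sum_map_add, List.sum_map_mul_left]
  exact land0 (by simp only [show gc 1 = 1 from rfl] at h1; omega) (by omega) (by omega)

theorem count_eq {l : List (Finset (IrrCharacter G))} (hl : l.Nodup) (hU : ∀ t ∈ l, t ∈ U G)
    (p : ℕ → Bool) (h1 : p 1 = false) (hc : ∀ t ∈ U G, t ∉ l → ∀ d ∈ dl t, p d = false) :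
    (l.map dl).flatten.countP p = #(univ.filter fun χ : IrrCharacter G => p (dg χ)) := by
  have e : ∀ L : List ℕ, L.countP p = bw (fun d => if p d then 1 else 0) L := fun L => by
    induction L with
    | nil => rfl
    | cons a L ih => rw [List.countP_cons, ih, add_comm]; rfl
  have := tot_eq D (fun d => if p d then 1 else 0) hl hU fun t a b => by
    rw [← e, List.countP_eq_zero]
    exact fun d hd => by simp [hc t a b d hd]
  rw [List.countP_flatten, List.map_map, card_filter, ← this]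
  simp [h1, e, Function.comp_def]

theorem gs_sound {t0 : Finset (IrrCharacter G)} (h0 : t0 ∈ U G) {fin : List (List ℕ) → Bool}
    (hfin : ∀ M : List (List ℕ), (∀ d ∈ DN, M.flatten.count d = cnt G d) → fin M = true) :
    gs (dl t0) fin = true := by
  set TA := ((U G).filter fun t => t ≠ t0 ∧ bw ga (dl t) ≠ 0).toList with hTA
  set TC := ((U G).filter fun t => t ≠ t0 ∧ bw ga (dl t) = 0 ∧ bw gc (dl t) ≠ 0).toList with hTC
  have mA : ∀ t, t ∈ TA ↔ t ∈ U G ∧ t ≠ t0 ∧ bw ga (dl t) ≠ 0 := by simp [hTA]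
  have mC : ∀ t, t ∈ TC ↔ t ∈ U G ∧ t ≠ t0 ∧ bw ga (dl t) = 0 ∧ bw gc (dl t) ≠ 0 := by simp [hTC]
  have nd : (TC ++ (TA ++ [t0])).Nodup := List.nodup_append.2 ⟨nodup_toList _,
    List.nodup_append.2 ⟨nodup_toList _, by simp, fun a h b e => by
      rw [List.mem_singleton.1 e]; exact ((mA a).1 h).2.1⟩, fun a h b e e' => by
      obtain e | e := List.mem_append.1 e
      · exact ((mA b).1 e).2.2 (e' ▸ ((mC a).1 h).2.2.1)
      · exact ((mC a).1 h).2.1 (e'.trans (List.mem_singleton.1 e))⟩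
  have hU : ∀ t ∈ TC ++ (TA ++ [t0]), t ∈ U G := fun t e => by
    simp only [List.mem_append, mA, mC, List.mem_singleton] at e
    obtain e | e | rfl := e
    exacts [e.1, e.1, h0]
  have sub : ∀ l : List _, l.Subperm (TC ++ (TA ++ [t0])) → l.Nodup ∧ ∀ t ∈ l, t ∈ U G :=
    fun l hl => ⟨by obtain ⟨m, h1, h2⟩ := hl; exact h1.nodup_iff.1 (h2.nodup nd),
      fun t e => hU t (hl.subset e)⟩
  have t3 := fun t (ht : t ∈ U G) => tab3 _ (dl_spec D ht).1
  have sA := sub _ (List.sublist_append_right _ _).subperm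
  have cA : ∀ t ∈ U G, t ∉ TA ++ [t0] → bw ga (dl t) = 0 := fun t h1 h2 => by_contra fun e =>
    h2 (by simpa [mA, h1, e] using (em _).symm)
  have cC : ∀ t ∈ U G, t ∉ TC ++ (TA ++ [t0]) → bw ga (dl t) = 0 ∧ bw gc (dl t) = 0 :=
    fun t h1 h2 => by
      have := cA t h1 fun e => h2 (List.mem_append_right _ e)
      exact ⟨this, by_contra fun e => h2 (by simpa [mA, mC, h1, e, this] using (em _).symm)⟩
  have a1 := (tot_eq D ga sA.1 sA.2 cA).trans D.sA
  have a2 := (tot_eq D va sA.1 sA.2 fun t a b => ((t3 t a).2.1 (cA t a b)).1).trans (s_va D)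
  have c1 := (tot_eq D gc nd hU fun t a b => (cC t a b).2).trans D.sC
  have c2 := (tot_eq D vc nd hU fun t a b => (t3 t a).2.2 (cC t a b).2).trans (s_vc D)
  simp only [List.map_append, List.sum_append, List.map_singleton, List.sum_singleton,
    show ga 1 = 2 from rfl, show va 1 = 2048132 from rfl, show gc 1 = 1 from rfl,
    show vc 1 = 16001 from rfl] at a1 a2 c1 c2
  have ok : ∀ l : List _, l.Subperm (TC ++ TA) →
      ((l.map fun t => bw gk (dl t)).sum + (bw gk (dl t0) + off0)) &&& msk0 = 0 := fun l hl => by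
    have := sub (l ++ [t0]) (by rw [← List.append_assoc]; exact (List.subperm_append_right _).2 hl)
    simpa [add_assoc] using gk_ok D this.1 this.2
  simp only [gs, fT_eq, fQ_eq]
  refine rs_start (fun t => eA (dl t)) (fun t => bw ge (dl t) = 0 ∧ dl t ∈ XA) TA
    (by simp only [eA]; omega) (fun t e => ?_) (fun t e => Nat.pos_of_ne_zero ((mA t).1 e).2.2)
    (by simp only [eA]; omega) (fun l hl => ok l (hl.trans (List.sublist_append_right _ _).subperm))
    fun l1 l2 hp h2 => ?_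
  · obtain ⟨e1, -, e2⟩ := (mA t).1 e
    exact ((t3 t e1).1.1 e2).imp_left List.mem_map_of_mem
  have p1 := (hp.map fun t => bw va (dl t)).sum_eq
  simp only [List.map_append, List.sum_append] at p1
  have s1 := sub (l1 ++ [t0]) (((List.subperm_append_right _).2 ((List.sublist_append_right _
    _).subperm.trans hp.subperm)).trans (List.sublist_append_right _ _).subperm)
  rw [Bool.and_eq_true]
  refine ⟨?_, rw0_sound (fun t => eA (dl t)) l2 rfl (by simp only [eA]; omega)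
    (fun t e => List.mem_map_of_mem (h2 t e).2)
    (fun t e => Nat.pos_of_ne_zero ((mA t).1 (hp.subset (by simp [e]))).2.2) (fun l hl => ?_)
    fun l hl => ?_⟩
  · obtain ⟨θ, θ1, θ2⟩ := D.ex
    have e : ∀ d ∈ ((l1 ++ [t0]).map dl).flatten.filter fun d => ge d == 1, d = dg θ := by
      intro d hd
      obtain ⟨hd, h3⟩ := List.mem_filter.1 hd
      obtain ⟨L, h4, h5⟩ := List.mem_flatten.1 hd
      obtain ⟨t, h6, rfl⟩ := List.mem_map.1 h4
      obtain ⟨ψ, -, rfl⟩ := Multiset.mem_map.1 ((dl_spec D (s1.2 t h6)).2 ▸ Multiset.mem_coe.2 h5)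
      obtain rfl | rfl := (θ2 ψ).1 (by simpa [ge] using h3)
      exacts [rfl, dg_cj θ]
    have e2 := count_eq D s1.1 s1.2 (fun d => ge d == 1) rfl fun t a b d hd => by
      have : bw ge (dl t) = 0 := by
        by_cases e : t ∈ l2
        · exact (h2 t e).1
        · exact ((t3 t a).2.1 (cA t a fun e' => b (by
            have := ((hp.append_right [t0]).symm.subset e')
            simpa [e] using this))).2
      simp [List.sum_eq_zero_iff.1 this _ (List.mem_map_of_mem hd)]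
    have e3 := s_ge D
    simp only [ge, sum_boole, Nat.cast_id] at e3
    rw [List.countP_eq_length_filter, filter_congr fun χ _ => (by simp [ge] :
      _ ↔ (Af (dg χ)).natAbs = 1), e3] at e2
    simp only [List.map_append, List.map_singleton] at e e2
    simp only [exq, eA, e2, Bool.and_eq_true, List.all_eq_true, beq_iff_eq, true_and]
    exact fun a ha b hb => (e a ha).trans (e b hb).symm
  · have := ok (l ++ l1) (((List.subperm_append_right _).2 hl).trans
      (hp.subperm.trans (List.sublist_append_right _ _).subperm))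
    simpa only [List.map_append, List.sum_append, add_assoc, eA] using this
  have q1 : (l ++ l1).Perm TA := (hl.append_right _).trans hp
  have q2 := (q1.map fun t => bw gc (dl t)).sum_eq
  have q3 := (q1.map fun t => bw vc (dl t)).sum_eq
  simp only [List.map_append, List.sum_append] at q2 q3
  refine rw0_sound (fun t => eC (dl t)) TC ?_ ?_ (fun t e => ?_)
    (fun t e => Nat.pos_of_ne_zero ((mC t).1 e).2.2.2) (fun l' hl' => ?_) fun l' hl' => hfin _ ?_
  · simp only [eA, eC, List.map_append, List.sum_append, List.map_map, Function.comp_def,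
      List.map_singleton, List.sum_singleton]
    omega
  · simp only [eA, eC, List.map_append, List.sum_append, List.map_map, Function.comp_def,
      List.map_singleton, List.sum_singleton]
    omega
  · obtain ⟨e1, -, e2, e3⟩ := (mC t).1 e
    exact List.mem_map_of_mem ((t3 t e1).1.2 e2 e3)
  · have := ok (l' ++ (l ++ l1)) (hl'.append q1.subperm)
    simpa only [List.map_append, List.sum_append, add_assoc, eA, eC] using this
  intro d hd
  have r := sub (l' ++ (l ++ (l1 ++ [t0]))) (by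
    rw [← List.append_assoc l]; exact (hl'.append (q1.append_right _)).subperm)
  have := count_eq D r.1 r.2 (· == d) (by rw [beq_eq_false_iff_ne]; rintro rfl; simp [DN] at hd)
    fun t a b e he => by
      have := cC t a fun e' => b (by
        rw [← List.append_assoc l]; exact (hl'.append (q1.append_right _)).symm.subset e')
      rw [beq_eq_false_iff_ne]
      rintro rfl
      exact (tab5 _ hd).elim (fun h => h (List.sum_eq_zero_iff.1 this.1 _ (List.mem_map_of_mem he)))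
        fun h => h (List.sum_eq_zero_iff.1 this.2 _ (List.mem_map_of_mem he))
  simpa only [List.map_append, List.map_singleton, eA, eC, cnt, beq_iff_eq, List.count] using this

theorem dl_eq {χ a b c : IrrCharacter G} (h : dg χ = 5544) (e : H9.Tri.T χ = {a, b, c}) (n1 : a ≠ b)
    (n2 : a ≠ c) (n3 : b ≠ c) :
    H9.Tri.T χ ∈ U G ∧ (dl (H9.Tri.T χ) : Multiset ℕ) = {dg a, dg b, dg c} := by
  have h1 : D1 χ := by rw [D1, D.card, h]; decide
  have h2 : H9.Tri.T χ ∈ U G := mem_erase.2 ⟨fun e => by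
    have := mem_singleton.1 (e ▸ self_mem_T χ)
    rw [this, dg_triv] at h
    omega, mem_image.2 ⟨χ, mem_univ _, bl_of_D1 h1⟩⟩
  refine ⟨h2, ?_⟩
  rw [(dl_spec D h2).2, e, insert_val_of_notMem (by simp [n1, n2]),
    insert_val_of_notMem (by simp [n3])]
  simp

omit D in
theorem flt_congr {b : Bool} {M : List (List ℕ)} (h : ∀ d ∈ DN, M.flatten.count d = cnt G d) :
    flt b (fun d => M.flatten.count d) = flt b (cnt G) := by
  simp only [flt, h 45 (by decide), h 1035 (by decide), h 5796 (by decide), h 3840 (by decide),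
    h 990 (by decide), h 4830 (by decide), h 528 (by decide), h 3312 (by decide),
    h 3520 (by decide), h 7360 (by decide), h 8832 (by decide), h 12672 (by decide),
    h 231 (by decide), h 483 (by decide), h 276 (by decide), h 15456 (by decide),
    h 3024 (by decide), h 23 (by decide), h 11 (by decide), h 12 (by decide), h 22 (by decide),
    h 230 (by decide), h 264 (by decide)]

omit D in
theorem cnt_ne {d : ℕ} : cnt G d ≠ 0 ↔ ∃ χ : IrrCharacter G, dg χ = d := by
  simp [cnt]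

/-- The degree list, in the form used by the endgame. -/
theorem degs {β1 β2 β3 β4 : IrrCharacter G} (B : B5 β1 β2 β3 β4)
    (h45 : cnt G 45 % 2 = 0 ∧ (cnt G 45 ≠ 0 → 3 ≤ cnt G 1035 ∨ 3 ≤ cnt G 45)) :
    ∃ χ : IrrCharacter G, dg χ = 23 ∧ (∀ ψ : IrrCharacter G, dg ψ = 23 → ψ = χ) ∧
      ∀ ψ : IrrCharacter G, dg ψ ≤ 275 → dg ψ ∈ [1, 23, 45, 231, 252, 253] := by
  have h2 : cnt G 5796 ≠ 0 := cnt_ne.2 ⟨β2, B.d2⟩
  have A : ∃ b, flt b (cnt G) = false ∧ (b = true ∨ (2 ≤ cnt G 231 ∧ cnt G 483 ≠ 0) ∨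
      cnt G 276 ≠ 0 ∧ (2 ≤ cnt G 276 ∨ 2 ≤ cnt G 5796) ∨ cnt G 15456 ≠ 0 ∨ cnt G 3024 ≠ 0) := by
    obtain ⟨c2, c3, n1, n2, n3, e, d2, d3⟩ | ⟨c1, c3, d1, d3, e, h⟩ := t5 D B
    · obtain ⟨u, v⟩ := dl_eq D B.d4 e n1 n2 n3
      rw [B.d4, d2, d3] at v
      refine ⟨true, Bool.eq_false_iff.2 fun f => Bool.eq_false_iff.1 gs2 ?_, Or.inl rfl⟩
      rw [← (tab4 _ (dl_spec D u).1).2 v]
      exact gs_sound D u fun M hM => (flt_congr hM).trans f
    · have d4 := B.d4
      obtain ⟨u, v⟩ := dl_eq D d4 e (by rintro rfl; omega) (by rintro rfl; omega)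
        (by rintro rfl; omega)
      rw [d4, d1, d3] at v
      refine ⟨false, Bool.eq_false_iff.2 fun f => Bool.eq_false_iff.1 gs1 ?_,
        Or.inr (hR D B d1 d3 e h)⟩
      rw [← (tab4 _ (dl_spec D u).1).1 v]
      exact gs_sound D u fun M hM => (flt_congr hM).trans f
  obtain ⟨b, A, A'⟩ := A
  have C : cnt G 23 = 1 ∧ cnt G 11 = 0 ∧ cnt G 12 = 0 ∧ cnt G 22 = 0 ∧ cnt G 230 = 0 ∧
      cnt G 264 = 0 := by
    by_contra e
    refine Bool.eq_false_iff.1 A ?_
    simp only [flt, Bool.and_eq_true, Bool.or_eq_true, beq_iff_eq, bne_iff_ne, decide_eq_true_eq,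
      Bool.not_eq_true', ← Bool.not_eq_true]
    exact ⟨⟨h45.1, or_iff_not_imp_left.2 h45.2⟩, h2, or_iff_not_imp_left.2 fun e => (cnt_ne.1 e).elim fun _ => q2 D,
      A', e⟩
  obtain ⟨χ, hχ⟩ := card_eq_one.1 C.1
  have m : ∀ ψ : IrrCharacter G, dg ψ = 23 ↔ ψ = χ := fun ψ => by
    rw [← mem_singleton (b := ψ), ← hχ]; simp
  refine ⟨χ, (m χ).2 rfl, fun ψ => (m ψ).1, fun ψ h => ?_⟩
  have n : ∀ d, cnt G d = 0 → dg ψ ≠ d := fun d e e' => cnt_ne.2 ⟨ψ, e'⟩ e
  refine (tab6 _ (T5.mem_L D ψ) h).resolve_right ?_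
  simp [n _ C.2.1, n _ C.2.2.1, n _ C.2.2.2.1, n _ C.2.2.2.2.1, n _ C.2.2.2.2.2]

end Cfsg.Agent.H2.B24
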