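import Cfsg.Agent.H2.B24U

/-! Kernel searches. -/

set_option autoImplicit false

namespace Cfsg.Agent.H2.B24

theorem k5_2_0 : post 5 2 4 (ck 4 0 L4) = false := by decide +kernel

theorem k5_2_1 : post 5 2 4 (ck 4 1 L4) = false := by decide +kernel

theorem k5_2_2 : post 5 2 4 (ck 4 2 L4) = false := by decide +kernel

theorem k5_2_3 : post 5 2 4 (ck 4 3 L4) = false := by decide +kernel

theorem k5_2 : post 5 2 2 L2 = false := by decide +kernel

theorem no5_2 : No 5 2 := no_of (n := 4) (by decide) (fun i hi => by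
  interval_cases i
  exacts [k5_2_0, k5_2_1, k5_2_2, k5_2_3]) k5_2

end Cfsg.Agent.H2.B24
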