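import Cfsg.Agent.H2.B24U

/-! Kernel searches. -/

set_option autoImplicit false

namespace Cfsg.Agent.H2.B24

theorem k10_12_0 : post 10 12 4 (ck 5 0 L4) = false := by decide +kernel

theorem k10_12_1 : post 10 12 4 (ck 5 1 L4) = false := by decide +kernel

theorem k10_12_2 : post 10 12 4 (ck 5 2 L4) = false := by decide +kernel

theorem k10_12_3 : post 10 12 4 (ck 5 3 L4) = false := by decide +kernel

theorem k10_12_4 : post 10 12 4 (ck 5 4 L4) = false := by decide +kernel

theorem k10_12 : post 10 12 2 L2 = false := by decide +kernel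

theorem no10_12 : No 10 12 := no_of (n := 5) (by decide) (fun i hi => by
  interval_cases i
  exacts [k10_12_0, k10_12_1, k10_12_2, k10_12_3, k10_12_4]) k10_12

end Cfsg.Agent.H2.B24
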