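import Cfsg.Agent.H2.B24U

/-! Kernel searches. -/

set_option autoImplicit false

namespace Cfsg.Agent.H2.B24

theorem k5_24_0 : post 5 24 4 (ck 2 0 L4) = false := by decide +kernel

theorem k5_24_1 : post 5 24 4 (ck 2 1 L4) = false := by decide +kernel

theorem k5_24 : post 5 24 2 L2 = false := by decide +kernel

theorem no5_24 : No 5 24 := no_of (n := 2) (by decide) (fun i hi => by
  interval_cases i
  exacts [k5_24_0, k5_24_1]) k5_24

theorem k5_112_0 : post 5 112 4 (ck 1 0 L4) = false := by decide +kernel

theorem k5_112 : post 5 112 2 L2 = false := by decide +kernel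

theorem no5_112 : No 5 112 := no_of (n := 1) (by decide) (fun i hi => by
  interval_cases i
  exacts [k5_112_0]) k5_112

theorem k5_189_0 : post 5 189 4 (ck 1 0 L4) = false := by decide +kernel

theorem k5_189 : post 5 189 2 L2 = false := by decide +kernel

theorem no5_189 : No 5 189 := no_of (n := 1) (by decide) (fun i hi => by
  interval_cases i
  exacts [k5_189_0]) k5_189

theorem k5_288_0 : post 5 288 4 (ck 1 0 L4) = false := by decide +kernel

theorem k5_288 : post 5 288 2 L2 = false := by decide +kernel

theorem no5_288 : No 5 288 := no_of (n := 1) (by decide) (fun i hi => by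
  interval_cases i
  exacts [k5_288_0]) k5_288

theorem k5_1344_0 : post 5 1344 4 (ck 1 0 L4) = false := by decide +kernel

theorem k5_1344 : post 5 1344 2 L2 = false := by decide +kernel

theorem no5_1344 : No 5 1344 := no_of (n := 1) (by decide) (fun i hi => by
  interval_cases i
  exacts [k5_1344_0]) k5_1344

theorem k5_3456_0 : post 5 3456 4 (ck 1 0 L4) = false := by decide +kernel

theorem k5_3456 : post 5 3456 2 L2 = false := by decide +kernel

theorem no5_3456 : No 5 3456 := no_of (n := 1) (by decide) (fun i hi => by
  interval_cases i
  exacts [k5_3456_0]) k5_3456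

theorem k5_16128_0 : post 5 16128 4 (ck 1 0 L4) = false := by decide +kernel

theorem k5_16128 : post 5 16128 2 L2 = false := by decide +kernel

theorem no5_16128 : No 5 16128 := no_of (n := 1) (by decide) (fun i hi => by
  interval_cases i
  exacts [k5_16128_0]) k5_16128

theorem k5_193536_0 : post 5 193536 4 (ck 1 0 L4) = false := by decide +kernel

theorem k5_193536 : post 5 193536 2 L2 = false := by decide +kernel

theorem no5_193536 : No 5 193536 := no_of (n := 1) (by decide) (fun i hi => by
  interval_cases i
  exacts [k5_193536_0]) k5_193536

end Cfsg.Agent.H2.B24
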