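import Cfsg.Agent.H2.B24U

/-! Kernel searches. -/

set_option autoImplicit false

namespace Cfsg.Agent.H2.B24

theorem k10_56_0 : post 10 56 4 (ck 1 0 L4) = false := by decide +kernel

theorem k10_56 : post 10 56 2 L2 = false := by decide +kernel

theorem no10_56 : No 10 56 := no_of (n := 1) (by decide) (fun i hi => by
  interval_cases i
  exacts [k10_56_0]) k10_56

theorem k10_144_0 : post 10 144 4 (ck 1 0 L4) = false := by decide +kernel

theorem k10_144 : post 10 144 2 L2 = false := by decide +kernel

theorem no10_144 : No 10 144 := no_of (n := 1) (by decide) (fun i hi => by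
  interval_cases i
  exacts [k10_144_0]) k10_144

theorem k10_672_0 : post 10 672 4 (ck 1 0 L4) = false := by decide +kernel

theorem k10_672 : post 10 672 2 L2 = false := by decide +kernel

theorem no10_672 : No 10 672 := no_of (n := 1) (by decide) (fun i hi => by
  interval_cases i
  exacts [k10_672_0]) k10_672

theorem k10_1728_0 : post 10 1728 4 (ck 1 0 L4) = false := by decide +kernel

theorem k10_1728 : post 10 1728 2 L2 = false := by decide +kernel

theorem no10_1728 : No 10 1728 := no_of (n := 1) (by decide) (fun i hi => by
  interval_cases i
  exacts [k10_1728_0]) k10_1728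

theorem k10_8064_0 : post 10 8064 4 (ck 1 0 L4) = false := by decide +kernel

theorem k10_8064 : post 10 8064 2 L2 = false := by decide +kernel

theorem no10_8064 : No 10 8064 := no_of (n := 1) (by decide) (fun i hi => by
  interval_cases i
  exacts [k10_8064_0]) k10_8064

theorem k10_96768_0 : post 10 96768 4 (ck 1 0 L4) = false := by decide +kernel

theorem k10_96768 : post 10 96768 2 L2 = false := by decide +kernel

theorem no10_96768 : No 10 96768 := no_of (n := 1) (by decide) (fun i hi => by
  interval_cases i
  exacts [k10_96768_0]) k10_96768

end Cfsg.Agent.H2.B24
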