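import Cfsg.Agent.H2.B24C
import Cfsg.Agent.H2.B24K1
import Cfsg.Agent.H2.B24K2
import Cfsg.Agent.H2.B24K3
import Cfsg.Agent.H2.B24K4
import Cfsg.Agent.H4.B24Gl
import Cfsg.Agent.H5.B24E

/-! Elements of order 11 in a simple group of order `|M₂₄|`. -/

set_option autoImplicit false

namespace Cfsg.Agent.H2.B24

open Cfsg Cfsg.Agent.H3 Cfsg.Agent.H2.D1 Cfsg.Agent.H5.MW Subgroup

variable {G : Type*} [Group G] [Finite G] [NS G] {y : G}

theorem ec5 : (dv 4451328).all (fun c => 4451328 / c % 11 != 1 ||
    [2, 24, 112, 189, 288, 1344, 3456, 16128, 193536].contains c || c % 23 == 0) = true := by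
  decide +kernel

theorem ec10 : (dv 2225664).all (fun c => 2225664 / c % 11 != 1 ||
    [1, 12, 56, 144, 672, 1728, 8064, 96768].contains c || c % 23 == 0) = true := by
  decide +kernel

theorem not_no (hG : Nat.card G = 244823040) (h : Ctx 11 y)
    (he : Nat.card h.H = 5 ∨ Nat.card h.H = 10) (hN : No (Nat.card h.H) (Nat.card h.K))
    (hd : ∀ i ∈ [1, 16, 256], ∀ m, i * m = Nat.card h.K → nd (Nat.card h.K) ∣ m ∧ m ≠ 1) :
    False := by
  obtain ⟨z, g, hz, hn, i, hi, hm⟩ := H4.B24.gl hG h (by omega)
  obtain ⟨h1, h2⟩ := hd i hi _ hm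
  obtain ⟨x, k⟩ := D1.exists_ctx (G := G) (p := 23) (by decide) (by rw [hG]; decide)
    (by rw [hG]; decide)
  have hc : Nat.card g.K ≠ 1 := fun e => h2 (Nat.dvd_one.1 (e ▸ card_dvd_of_le inf_le_right))
  have A : ∀ L : List (List J × List ℕ), core (Nat.card g.H)
      (fun l => !L.contains (l, c5s (Nat.card g.H) l)) = false →
      (∀ r ∈ L, ∃ R, r ∈ R ∧ post (Nat.card h.H) (Nat.card h.K) (Nat.card g.H) R = false) →
      False := fun L e1 e2 => by
    refine Bool.eq_false_iff.1 e1 (core_sound hG k g hc fun l hl => ?_)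
    rw [Bool.not_eq_true', ← Bool.not_eq_true, List.contains_iff_mem]
    intro e
    obtain ⟨R, r1, r2⟩ := e2 _ e
    exact Bool.eq_false_iff.1 r2 (post_sound hG k h g he hz hn h1 h2 hl r1)
  have e5 := e5_mem g
  simp only [List.mem_cons, List.not_mem_nil, or_false] at e5
  obtain e | e := e5 <;> rw [e] at A
  exacts [A L2 core2 fun r => (hN r).2, A L4 core4 fun r => (hN r).1]

theorem k11 (hG : Nat.card G = 244823040) (h : Ctx 11 y) :
    Nat.card h.H = 10 ∧ Nat.card h.K = 1 := by
  have e1 := h.card_eq
  have e2 := syl_mod (G := G) (p := 11)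
  have e3 := H5.B24.e_ne2 hG h
  have e4 := h.two_le_e
  have e5 : Nat.card h.H ∣ 10 := e_dvd h
  obtain ⟨x, k⟩ := D1.exists_ctx (G := G) (p := 23) (by decide) (by rw [hG]; decide)
    (by rw [hG]; decide)
  have e6 := not23 hG k h (by decide)
  have he : Nat.card h.H = 5 ∨ Nat.card h.H = 10 := by
    have := Nat.le_of_dvd (by decide) e5
    interval_cases Nat.card h.H <;> omega
  have A := not_no hG h he
  have B : ∀ n, n = Nat.card (Sylow 11 G) * Nat.card h.K → n / Nat.card h.K % 11 = 1 :=
    fun n e => by rwa [e, Nat.mul_div_cancel _ Nat.card_pos]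
  rw [hG] at e1
  obtain e | e := he <;> rw [e] at A e1
  · have c := List.all_eq_true.1 ec5 _ (mem_dv (by decide) (Dvd.intro_left _
      (show Nat.card (Sylow 11 G) * Nat.card h.K = 4451328 by nlinarith)))
    simp only [B 4451328 (by nlinarith), bne_self_eq_false, Bool.false_or, Bool.or_eq_true,
      List.contains_iff_mem, List.mem_cons, List.not_mem_nil, or_false, beq_iff_eq] at c
    exfalso
    obtain (c | c | c | c | c | c | c | c | c) | c := c
    on_goal 10 => omega
    all_goals
      rw [c] at A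
      refine A ?_ fun i hi m hm => by
        simp only [List.mem_cons, List.not_mem_nil, or_false] at hi
        obtain rfl | rfl | rfl := hi <;> simp [nd] <;> omega
    exacts [no5_2, no5_24, no5_112, no5_189, no5_288, no5_1344, no5_3456, no5_16128, no5_193536]
  · have c := List.all_eq_true.1 ec10 _ (mem_dv (by decide) (Dvd.intro_left _
      (show Nat.card (Sylow 11 G) * Nat.card h.K = 2225664 by nlinarith)))
    simp only [B 2225664 (by nlinarith), bne_self_eq_false, Bool.false_or, Bool.or_eq_true,
      List.contains_iff_mem, List.mem_cons, List.not_mem_nil, or_false, beq_iff_eq] at c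
    obtain (c | c) | c := c
    · exact ⟨e, c⟩
    on_goal 2 => omega
    exfalso
    obtain c | c | c | c | c | c | c := c
    all_goals
      rw [c] at A
      refine A ?_ fun i hi m hm => by
        simp only [List.mem_cons, List.not_mem_nil, or_false] at hi
        obtain rfl | rfl | rfl := hi <;> simp [nd] <;> omega
    exacts [no10_12, no10_56, no10_144, no10_672, no10_1728, no10_8064, no10_96768]

end Cfsg.Agent.H2.B24
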