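import Cfsg.Agent.H5.MwS

/-! Staged kernel searches over the principal blocks for the primes 5, 11, 23. -/

set_option autoImplicit false

namespace Cfsg.Agent.H2.B24

open Cfsg.Agent.H2.D1 Cfsg.Agent.H5.MW

/-- Weight, packed costs, shifted linear term, data. -/
structure E (α : Type) where
  w : ℕ
  c : ℕ
  v : ℕ
  j : α

inductive Tb (α : Type) where
  | nil : Tb α
  | cons (w c v : ℕ) (j : α) (t : Tb α) : Tb α

def toT {α : Type} : List (E α) → Tb α
  | [] => .nil
  | a :: X => .cons a.w a.c a.v a.j (toT X)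

noncomputable def fN (n : ℕ) (k : ℕ → Bool) : Bool :=
  Nat.rec false (fun m _ => k m) (Nat.add n 1)

theorem fN_eq (n : ℕ) (k : ℕ → Bool) : fN n k = k n := by cases n <;> rfl

noncomputable def scan {α : Type} (z : Bool) (w need : ℕ) (F : ℕ → ℕ → α → Bool)
    (R : ℕ → ℕ → ℕ → α → Tb α → Bool) (X : Tb α) : Bool :=
  Tb.rec z (fun w' c v j t ih => Bool.rec (Bool.rec ih true (R w' c v j t))
    (Bool.rec ih (Bool.rec ih true (F w' c j)) (Nat.beq v need)) (Nat.ble w w')) X

noncomputable def rs {α : Type} (mask tgt : ℕ) (fin : ℕ → ℕ → ℕ → List α → Bool) (f : ℕ) :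
    Tb α → ℕ → ℕ → ℕ → List α → Bool :=
  Nat.rec (fun _ _ _ _ _ => true) (fun _ ih X w s L acc => fN w fun w => fN s fun s =>
    fN L fun L => fN (Nat.sub tgt L) fun need => scan (fin w s L acc) w need
      (fun w' c j => Bool.rec false (Bool.rec false (fin 0 (Nat.add c s) tgt (j :: acc))
        (Nat.beq (Nat.land (Nat.add c s) mask) 0)) (Nat.beq w' w))
      (fun w' c v j t => Bool.rec false (ih (.cons w' c v j t) (Nat.sub w w') (Nat.add c s)
        (Nat.add v L) (j :: acc)) (Nat.beq (Nat.land (Nat.add c s) mask) 0)) X) f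

theorem rs_cons {α : Type} {mask tgt : ℕ} {fin : ℕ → ℕ → ℕ → List α → Bool} {f w s L : ℕ}
    {a : E α} {X : List (E α)} {acc : List α}
    (h : rs mask tgt fin (f + 1) (toT X) w s L acc = true ∨
      (a.c + s) &&& mask = 0 ∧ (a.w < w ∧
        rs mask tgt fin f (toT (a :: X)) (w - a.w) (a.c + s) (a.v + L) (a.j :: acc) = true ∨
      a.w = w ∧ a.v + L = tgt ∧ fin 0 (a.c + s) tgt (a.j :: acc) = true)) :
    rs mask tgt fin (f + 1) (toT (a :: X)) w s L acc = true := by
  change (Bool.rec (Bool.rec (rs mask tgt fin (f + 1) (toT X) w s L acc) true (Bool.rec false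
      (rs mask tgt fin f (toT (a :: X)) (w - a.w) (a.c + s) (a.v + L) (a.j :: acc))
      (Nat.beq ((a.c + s) &&& mask) 0)))
    (Bool.rec (rs mask tgt fin (f + 1) (toT X) w s L acc)
      (Bool.rec (rs mask tgt fin (f + 1) (toT X) w s L acc) true (Bool.rec false (Bool.rec false
        (fin 0 (a.c + s) tgt (a.j :: acc)) (Nat.beq ((a.c + s) &&& mask) 0)) (Nat.beq a.w w)))
      (Nat.beq a.v (tgt - L))) (Nat.ble w a.w) : Bool) = true
  obtain h | ⟨h0, ⟨h1, h2⟩ | ⟨h1, h2, h3⟩⟩ := h
  · rw [h]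
    generalize (Bool.rec _ _ (Nat.beq a.w w) : Bool) = b
    generalize (Bool.rec false (rs _ _ _ f _ _ _ _ _) _ : Bool) = b'
    cases b <;> cases b' <;> cases Nat.ble w a.w <;> cases Nat.beq a.v (tgt - L) <;> rfl
  · rw [h0, h2, show Nat.ble w a.w = false by simpa [← Bool.not_eq_true] using h1]
    rfl
  · rw [h0, h3, ← h1, ← h2, Nat.add_sub_cancel, Nat.beq_refl, Nat.beq_refl, Nat.beq_refl,
      Nat.ble_eq_true_of_le le_rfl]

theorem rs_sound {ι : Type*} {β : Type} {mask tgt : ℕ} {fin : ℕ → ℕ → ℕ → List β → Bool}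
    (ent : ι → E β) (Q : ι → Prop) (T : List ι) (s0 L0 : ℕ) (A : List β)
    (hwt : ∀ i ∈ T, 0 < (ent i).w) (hL : (T.map fun i => (ent i).v).sum + L0 = tgt)
    (hok : ∀ l : List ι, l.Subperm T → ((l.map fun i => (ent i).c).sum + s0) &&& mask = 0)
    (hfin : ∀ l1 l2 : List ι, (l2 ++ l1).Perm T → (∀ i ∈ l2, Q i) →
      fin (l2.map fun i => (ent i).w).sum ((l1.map fun i => (ent i).c).sum + s0)
        ((l1.map fun i => (ent i).v).sum + L0) (l1.map (fun i => (ent i).j) ++ A) = true)
    (f : ℕ) (X : List (E β)) (l acc : List ι) (hT : (l ++ acc).Perm T)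
    (h1 : ∀ i ∈ l, ent i ∈ X ∨ Q i) :
    rs mask tgt fin f (toT X) (l.map fun i => (ent i).w).sum ((acc.map fun i => (ent i).c).sum + s0)
      ((acc.map fun i => (ent i).v).sum + L0) (acc.map (fun i => (ent i).j) ++ A) = true := by
  classical
  induction f generalizing X l acc with
  | zero => rfl
  | succ f ih =>
    induction X with
    | nil => exact hfin acc l hT fun i hi => by simpa using h1 i hi
    | cons a X ihX =>
      refine rs_cons ?_
      by_cases ha : ∃ i ∈ l, ent i = a
      · obtain ⟨i, hi, rfl⟩ := ha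
        have hp : (l.erase i ++ i :: acc).Perm T :=
          (List.perm_middle.trans ((List.perm_cons_erase hi).symm.append_right acc)).trans hT
        have hs := ((List.perm_cons_erase hi).map fun i => (ent i).w).sum_eq
        rw [List.map_cons, List.sum_cons] at hs
        have := ih (ent i :: X) _ _ hp fun b hb => h1 b (List.mem_of_mem_erase hb)
        have h2 := hok (i :: acc) ((List.sublist_append_right _ _).subperm.trans hp.subperm)
        simp only [List.map_cons, List.sum_cons, add_assoc, List.cons_append] at this h2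
        refine Or.inr ⟨h2, ?_⟩
        cases e : l.erase i with
        | nil =>
          rw [e] at hp hs
          have h3 := hfin (i :: acc) [] hp (by simp)
          have h4 := (hp.map fun i => (ent i).v).sum_eq
          simp only [List.map_cons, List.sum_cons, add_assoc, List.cons_append, List.nil_append,
            List.map_nil, List.sum_nil] at h3 h4 hs
          have h5 : (ent i).v + ((acc.map fun i => (ent i).v).sum + L0) = tgt := by omega
          exact Or.inr ⟨by omega, h5, h5 ▸ h3⟩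
        | cons j l' =>
          have hj := hwt j (hp.subset (by simp [e]))
          refine Or.inl ⟨by rw [hs, e]; simp; omega, ?_⟩
          rwa [hs, Nat.add_sub_cancel_left]
      · exact Or.inl (ihX fun i hi => (h1 i hi).imp_left fun h =>
          (List.mem_cons.1 h).resolve_left fun e => ha ⟨i, hi, e⟩)

theorem rs_start {ι : Type*} {β : Type} {mask tgt f w s0 L0 : ℕ} {fin : ℕ → ℕ → ℕ → List β → Bool}
    {X : List (E β)} {A : List β} (ent : ι → E β) (Q : ι → Prop) (T : List ι)
    (hw : w = (T.map fun i => (ent i).w).sum) (h1 : ∀ i ∈ T, ent i ∈ X ∨ Q i)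
    (hwt : ∀ i ∈ T, 0 < (ent i).w) (hL : (T.map fun i => (ent i).v).sum + L0 = tgt)
    (hok : ∀ l : List ι, l.Subperm T → ((l.map fun i => (ent i).c).sum + s0) &&& mask = 0)
    (hfin : ∀ l1 l2 : List ι, (l2 ++ l1).Perm T → (∀ i ∈ l2, Q i) →
      fin (l2.map fun i => (ent i).w).sum ((l1.map fun i => (ent i).c).sum + s0)
        ((l1.map fun i => (ent i).v).sum + L0) (l1.map (fun i => (ent i).j) ++ A) = true) :
    rs mask tgt fin f (toT X) w s0 L0 A = true := by
  have := rs_sound ent Q T s0 L0 A hwt hL hok hfin f X T [] (by simp) h1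
  rwa [List.map_nil, List.map_nil, List.map_nil, List.sum_nil, zero_add, zero_add, ← hw] at this

/-- Evaluates the numbers of a table once. -/
noncomputable def fL {α : Type} (X : List (E α)) : (List (E α) → Bool) → Bool :=
  List.rec (fun k => k []) (fun a _ ih k => fN a.w fun w => fN a.c fun c => fN a.v fun v =>
    ih fun Y => k (⟨w, c, v, a.j⟩ :: Y)) X

theorem fL_eq {α : Type} (X : List (E α)) (k : List (E α) → Bool) : fL X k = k X := by
  induction X generalizing k with
  | nil => rfl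
  | cons a X ih =>
    change fN a.w (fun w => fN a.c fun c => fN a.v fun v => fL X fun Y => k (⟨w, c, v, a.j⟩ :: Y)) = _
    simp only [fN_eq, ih]

noncomputable def fT {α : Type} (X : List (E α)) : (Tb α → Bool) → Bool :=
  List.rec (fun k => k .nil) (fun a _ ih k => fN a.w fun w => fN a.c fun c => fN a.v fun v =>
    ih fun Y => k (.cons w c v a.j Y)) X

theorem fT_eq {α : Type} (X : List (E α)) (k : Tb α → Bool) : fT X k = k (toT X) := by
  induction X generalizing k with
  | nil => rfl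
  | cons a X ih => exact ih _

def ch {α β : Type} (cand : α → List β) (fin : List β → Bool) : List α → List β → Bool
  | [], acc => fin acc
  | a :: l, acc => (cand a).any fun v => ch cand fin l (v :: acc)

theorem ch_sound {ι : Type*} {α β : Type} {cand : α → List β} {fin : List β → Bool}
    (ent : ι → α) (y : ι → β) (l : List ι) (acc : List β) (h1 : ∀ i ∈ l, y i ∈ cand (ent i))
    (h3 : fin (l.reverse.map y ++ acc) = true) : ch cand fin (l.map ent) acc = true := by
  induction l generalizing acc with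
  | nil => simpa [ch] using h3
  | cons i l ih =>
    simp only [List.map_cons, ch, List.any_eq_true]
    exact ⟨y i, h1 i (by simp), ih _ (fun j hj => h1 j (by simp [hj])) (by simpa using h3)⟩

noncomputable def vp {α : Type} (tgt : ℕ) (fin : ℕ → List α → Bool) (Z : List (Tb α)) :
    ℕ → ℕ → List α → Bool :=
  List.rec (fun B L acc => Bool.rec false (fin B acc) (Nat.beq L tgt)) (fun X _ ih B L acc =>
    fN B fun B => fN L fun L => Tb.rec false (fun w _ v j _ ihX => Bool.rec ihX (Bool.rec ihX true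
      (ih (Nat.sub B w) (Nat.add v L) (j :: acc))) (Nat.ble w B)) X) Z

theorem vp_cons {α : Type} {tgt B L : ℕ} {fin : ℕ → List α → Bool} {Z : List (Tb α)}
    {X : List (E α)} {acc : List α} {a : E α} (ha : a ∈ X) (h1 : a.w ≤ B)
    (h : vp tgt fin Z (B - a.w) (a.v + L) (a.j :: acc) = true) :
    vp tgt fin (toT X :: Z) B L acc = true := by
  induction X with
  | nil => simp at ha
  | cons b X ih =>
    change (Bool.rec (vp tgt fin (toT X :: Z) B L acc) (Bool.rec (vp tgt fin (toT X :: Z) B L acc)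
      true (vp tgt fin Z (B - b.w) (b.v + L) (b.j :: acc))) (Nat.ble b.w B) : Bool) = true
    obtain rfl | ha := List.mem_cons.1 ha
    · rw [h, Nat.ble_eq_true_of_le h1]
    · rw [ih ha]
      generalize vp tgt fin Z _ _ _ = c
      cases c <;> cases Nat.ble b.w B <;> rfl

theorem vp_sound {ι : Type*} {α : Type} {tgt : ℕ} {fin : ℕ → List α → Bool}
    (cand : ι → List (E α)) (y : ι → E α) (l : List ι) (B L : ℕ) (acc : List α)
    (h1 : ∀ i ∈ l, y i ∈ cand i) (h2 : (l.map fun i => (y i).v).sum + L = tgt)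
    (h3 : fin B ((l.reverse.map fun i => (y i).j) ++ acc) = true) :
    vp tgt fin (l.map fun i => toT (cand i)) ((l.map fun i => (y i).w).sum + B) L acc = true := by
  induction l generalizing acc L with
  | nil =>
    change (Bool.rec false (fin (0 + B) acc) (Nat.beq L tgt) : Bool) = true
    rw [← h2, zero_add, show fin B acc = true from h3]
    simp
  | cons i l ih =>
    simp only [List.map_cons, List.sum_cons, add_assoc] at h2 ⊢
    refine vp_cons (h1 i (by simp)) (by omega) ?_
    rw [Nat.add_sub_cancel_left]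
    exact ih _ _ (fun j hj => h1 j (by simp [hj])) (by omega) (by simpa using h3)

noncomputable def fZ {α : Type} (Z : List (List (E α))) : (List (Tb α) → Bool) → Bool :=
  List.rec (fun k => k []) (fun X _ ih k => fT X fun Y => ih fun W => k (Y :: W)) Z

theorem fZ_eq {α : Type} (Z : List (List (E α))) (k : List (Tb α) → Bool) :
    fZ Z k = k (Z.map toT) := by
  induction Z generalizing k with
  | nil => rfl
  | cons X Z ih =>
    change fT X (fun Y => fZ Z fun W => k (Y :: W)) = _
    simp only [fT_eq, ih, List.map_cons]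

abbrev P := ℤ × ℤ

/-- Degree; coefficients at 5, 11 and 23. -/
abbrev J := ℕ × P × P × P

def pack : List ℕ → ℕ
  | [] => 0
  | x :: l => x + 64 * pack l

theorem land_pack {l b : List ℕ} (h : List.Forall₂ (fun x y => x ≤ y ∧ y < 32) l b) :
    (pack l + pack (b.map (31 - ·))) &&& pack (b.map fun _ => 32) = 0 := by
  induction h with
  | nil => rfl
  | @cons x y l b h _ ih =>
    simp only [pack, List.map_cons]
    generalize pack l = u at *
    generalize pack (b.map (31 - ·)) = v at *
    generalize pack (b.map fun _ => 32) = m at *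
    have e1 := Nat.and_div_two_pow (a := x + 64 * u + (31 - y + 64 * v)) (b := 32 + 64 * m) (n := 6)
    have e2 := Nat.and_mod_two_pow (a := x + 64 * u + (31 - y + 64 * v)) (b := 32 + 64 * m) (n := 6)
    rw [show (x + 64 * u + (31 - y + 64 * v)) / 2 ^ 6 = u + v by omega,
      show (32 + 64 * m) / 2 ^ 6 = m by omega, ih] at e1
    have e3 : ∀ k < 32, k &&& 32 = 0 := by decide
    rw [show (32 + 64 * m) % 2 ^ 6 = 32 by omega, e3 _ (by omega)] at e2
    omega

theorem sum_pack {ι : Type*} (F : List (ι → ℕ)) (l : List ι) :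
    (l.map fun i => pack (F.map (· i))).sum = pack (F.map fun f => (l.map f).sum) := by
  induction F with
  | nil => simp [pack]
  | cons f F ih => simp only [List.map_cons, pack, List.sum_map_add, List.sum_map_mul_left, ih]

def n1 (a : P) : ℕ := a.1.natAbs * a.1.natAbs
def n2 (a : P) : ℕ := a.2.natAbs * a.2.natAbs
def n3 (a : P) : ℕ := (a.1 - a.2).natAbs * (a.1 - a.2).natAbs

def fa (i : J) : P := i.2.1
def fb (i : J) : P := i.2.2.1
def fc (i : J) : P := i.2.2.2

def CF : List (J → ℕ) := [n1 ∘ fc, n2 ∘ fc, n3 ∘ fc, n1 ∘ fb, n2 ∘ fb, n3 ∘ fb, n1 ∘ fa, n2 ∘ fa,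
  n3 ∘ fa]

def cost (i : J) : ℕ := pack (CF.map (· i))

def bd (e e5 : ℕ) : List ℕ := [11, 11, 2, e, e, 2, e5, e5, 2]

def off (e e5 : ℕ) : ℕ := pack ((bd e e5).map (31 - ·))

def msk : ℕ := 9150170671482912

def wt (f : J → P) (i : J) : ℕ := n1 (f i) + n2 (f i)

def vl (f : J → P) (i : J) : ℕ := ((f i).1 * i.1 + 16000 * wt f i).toNat

def mkE (f : J → P) (i : J) : E J := ⟨wt f i, cost i, vl f i, i⟩

def sj {α : Type} (f : α → ℤ) (l : List α) : ℤ := (l.map f).sum

/-- Stanton's relations. -/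
def ip (f g : J → P) (l : List J) : Bool :=
  sj (fun i => (f i).1 * (g i).1) l == -1 && (sj (fun i => (f i).1 * (g i).2) l == -1 &&
    (sj (fun i => (f i).2 * (g i).1) l == -1 && sj (fun i => (f i).2 * (g i).2) l == -1))

def se (f : J → P) (l : List J) : Bool :=
  decide (sj (fun i => ((f i).1 - (f i).2) ^ 2) l < 2) || sj (fun i => ((f i).1 - (f i).2) * i.1) l == 0

def dq (f : J → P) (l : List J) : Bool :=
  sj (fun i => (f i).1 * i.1) l == 1 && sj (fun i => (f i).2 * i.1) l == 1

def vq (f : J → P) (l : List (J × ℤ)) : Bool :=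
  sj (fun i => (f i.1).1 * i.2) l == 1 && sj (fun i => (f i.1).2 * i.2) l == 1

def qq (f : J → P) (l : List (J × ℤ)) : ℤ :=
  244823040 - sj (fun i => (f i.1).1 * i.2 ^ 2 * (244823040 / i.1.1 : ℕ)) l

def ub (B : ℕ) : ℕ := ([32, 45, 64, 90, 128, 181, 256, 362, 512, 724, 1024, 1448, 2048, 2896,
  4096].find? fun r => Nat.ble B (r * r)).getD B

theorem le_ub {B v : ℕ} (h : v * v ≤ B) : v ≤ ub B := by
  unfold ub
  cases e : List.find? (fun r => Nat.ble B (r * r)) _ with
  | none => exact (Nat.le_mul_self v).trans h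
  | some r =>
    have := List.find?_some e
    exact Nat.mul_self_le_mul_self_iff.1 (h.trans (Nat.le_of_ble_eq_true this))

def sqd (d t : ℕ) : ℕ := (d - t + (t - d)) * (d - t + (t - d))

/-- The `t = d - v` for `v ≡ d mod m` with `|v| < d`, `v² ≤ B`, `d ∣ K v`. -/
def cd (K B m d : ℕ) : List ℕ := (fun q u : ℕ => ((List.range' ((d - u - 1) / q + 1) ((d + u) / q - (d - u - 1) / q)).map
    (q * ·)).filter fun t => Nat.ble (sqd d t) B) (m.lcm (d / d.gcd K)) (min (ub B) (d - 1))

theorem sqd_eq {d : ℕ} {v : ℤ} (h : v ≤ d) : sqd d (d - v).toNat = v.natAbs * v.natAbs := by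
  rw [sqd, show d - (d - v).toNat + ((d - v).toNat - d) = v.natAbs by omega]

theorem mem_cd {K B m d : ℕ} {v : ℤ} (hm : 0 < m) (h1 : (m : ℤ) ∣ d - v) (h2 : v.natAbs < d)
    (h3 : v.natAbs * v.natAbs ≤ B) (h4 : (d : ℤ) ∣ K * v) : (d - v).toNat ∈ cd K B m d := by
  have h5 : v.natAbs ≤ min (ub B) (d - 1) := le_min (le_ub h3) (by omega)
  have h0 := min_le_right (ub B) (d - 1)
  have hg := Nat.gcd_pos_of_pos_left K (by omega : 0 < d)
  have h6 : m.lcm (d / d.gcd K) ∣ (d - v).toNat := by
    refine Nat.lcm_dvd ?_ ((Nat.div_dvd_iff_dvd_mul (Nat.gcd_dvd_left _ _) hg).2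
      (Nat.dvd_gcd_mul_iff_dvd_mul.2 ?_)) <;> rw [← Int.natCast_dvd_natCast]
    · rwa [Int.toNat_of_nonneg (by omega)]
    · rw [Nat.cast_mul, Int.toNat_of_nonneg (by omega), mul_sub]
      exact dvd_sub (dvd_mul_left _ _) h4
  have hq : 0 < m.lcm (d / d.gcd K) :=
    Nat.lcm_pos hm (Nat.div_pos (Nat.gcd_le_left _ (by omega)) hg)
  simp only [cd, List.mem_filter, List.mem_map, List.mem_range'_1, Nat.ble_eq]
  refine ⟨?_, by rwa [sqd_eq (by omega)]⟩
  generalize min (ub B) (d - 1) = u at *
  generalize m.lcm (d / d.gcd K) = q at *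
  obtain ⟨k, hk⟩ := h6
  have e1 : (d - u - 1) / q < k := (Nat.div_lt_iff_lt_mul hq).2 (by rw [mul_comm, ← hk]; omega)
  have e2 : k ≤ (d + u) / q := (Nat.le_div_iff_mul_le hq).2 (by rw [mul_comm, ← hk]; omega)
  exact ⟨k, ⟨by omega, by omega⟩, hk.symm⟩

def ty (p e lo M d : ℕ) : List P := (prs e).filter fun a => typ p e lo M d a.1 a.2

def t23 (d : ℕ) : List P := ty 23 11 0 10644480 d
def z23 (d : ℕ) : List P := bif d % 23 == 0 then [(0, 0)] else []

def DG : List ℕ := dg' 244823040

def its (F : ℕ → List P) (G : ℕ → P → List P) (H : ℕ → List P) : List J :=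
  DG.flatMap fun d => (F d).flatMap fun a => (G d a).flatMap fun b => (H d).map fun c => (d, a, b, c)

theorem mem_its {F : ℕ → List P} {G : ℕ → P → List P} {H : ℕ → List P} {i : J} :
    i ∈ its F G H ↔ i.1 ∈ DG ∧ fa i ∈ F i.1 ∧ fb i ∈ G i.1 (fa i) ∧ fc i ∈ H i.1 := by
  obtain ⟨d, a, b, c⟩ := i
  simp only [its, fa, fb, fc, List.mem_flatMap, List.mem_map, Prod.mk.injEq]
  exact ⟨fun ⟨_, h1, _, h2, _, h3, _, h4, rfl, rfl, rfl, rfl⟩ => ⟨h1, h2, h3, h4⟩,
    fun ⟨h1, h2, h3, h4⟩ => ⟨_, h1, _, h2, _, h3, _, h4, rfl, rfl, rfl, rfl⟩⟩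

def cst (l : List J) : ℕ := (l.map cost).sum

def ul (g h f : J → P) (i : J) : ℕ := ((g i).1 * (h i).1 + 64 * ((g i).1 * (h i).2) +
  4096 * ((g i).2 * (h i).1) + 262144 * ((g i).2 * (h i).2) + 800000 * wt f i).toNat

def mkU (g h f : J → P) (i : J) : E J := ⟨wt f i, cost i, ul g h f i, i⟩

/-- Completes the block `f`: first the intersection of the blocks `g` and `h`, then the rest. -/
noncomputable def two (g h f : J → P) (W s0 : ℕ) (X1 X2 : List (E J)) (pre : List J)
    (fin : List J → Bool) : Bool :=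
  fT X1 fun Y1 => fT X2 fun Y2 => fN (800000 * W - 266305) fun T =>
    rs msk T (fun w s L acc => Nat.beq (Nat.add L (Nat.mul 800000 w)) T &&
      (ip g h (acc ++ pre) && (se g (acc ++ pre) && (se h (acc ++ pre) && rs msk (1 + 16000 * W)
        (fun w _ _ acc => Nat.beq w 0 && (dq f (acc ++ pre) && fin acc)) 30 Y2 w s
          ((acc ++ pre).map (vl f)).sum acc))))
      30 Y1 (W - (pre.map (wt f)).sum) (cst pre + s0) (pre.map (ul g h f)).sum []

/-- The principal 5-block with the coefficients at 23. -/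
noncomputable def core (e5 : ℕ) (fin : List J → Bool) : Bool :=
  two fa fc fa (2 * e5) (off 0 e5)
    ((its (ty 5 e5 2 48964608) (fun _ _ => [(0, 0)]) t23).map (mkU fa fc fa))
    ((its (ty 5 e5 2 48964608) (fun _ _ => [(0, 0)]) z23).map (mkE fa)) [] fin

theorem sj_perm {α : Type} (f : α → ℤ) {l l' : List α} (h : l.Perm l') : sj f l = sj f l' :=
  (h.map f).sum_eq

theorem sj_append {α : Type} (f : α → ℤ) (l l' : List α) : sj f (l ++ l') = sj f l + sj f l' := by
  simp [sj]

theorem sum_toNat {α : Type} {f : α → ℤ} {l : List α} (h : ∀ i ∈ l, 0 ≤ f i) :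
    ((l.map fun i => (f i).toNat).sum : ℤ) = sj f l := by
  induction l with
  | nil => rfl
  | cons a l ih =>
    simp only [sj, List.map_cons, List.sum_cons, Nat.cast_add] at ih ⊢
    rw [ih fun i hi => h i (by simp [hi]), Int.toNat_of_nonneg (h a (by simp))]

theorem mul_ge {a c : ℤ} {w : ℕ} (h1 : a.natAbs * a.natAbs ≤ w) (h2 : c.natAbs * c.natAbs ≤ 11) :
    -(3 * w : ℤ) ≤ a * c := by
  have h3 := (Nat.le_mul_self a.natAbs).trans h1
  have h4 : c.natAbs ≤ 3 := by nlinarith
  obtain h | h | h | h | h | h | h : c = -3 ∨ c = -2 ∨ c = -1 ∨ c = 0 ∨ c = 1 ∨ c = 2 ∨ c = 3 := by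
    omega
  all_goals subst h; omega

def Bd (g h : J → P) (i : J) : Prop :=
  n1 (g i) ≤ 11 ∧ n2 (g i) ≤ 11 ∧ n1 (h i) ≤ 11 ∧ n2 (h i) ≤ 11 ∧ i.1 ≤ 16000

theorem sum_ul {g h f : J → P} (hf : f = g ∨ f = h) {l : List J} (hb : ∀ i ∈ l, Bd g h i)
    (hip : ip g h l = true) : (l.map (ul g h f)).sum + 266305 = 800000 * (l.map (wt f)).sum := by
  simp only [ip, Bool.and_eq_true, beq_iff_eq] at hip
  have := sum_toNat (l := l) (f := fun i => (g i).1 * (h i).1 + 64 * ((g i).1 * (h i).2) +
    4096 * ((g i).2 * (h i).1) + 262144 * ((g i).2 * (h i).2) + 800000 * wt f i) fun i hi => by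
      obtain ⟨b1, b2, b3, b4, -⟩ := hb i hi
      have c1 : n1 (f i) ≤ wt f i := Nat.le_add_right _ _
      have c2 : n2 (f i) ≤ wt f i := Nat.le_add_left _ _
      obtain rfl | rfl := hf
      · linarith [mul_ge c1 b3, mul_ge c1 b4, mul_ge c2 b3, mul_ge c2 b4,
          Int.natCast_nonneg (wt f i)]
      · linarith [mul_ge c1 b1, mul_ge c1 b2, mul_ge c2 b1, mul_ge c2 b2,
          Int.natCast_nonneg (wt f i)]
  simp only [sj, List.sum_map_add, List.sum_map_mul_left] at this hip
  obtain ⟨h1, h2, h3, h4⟩ := hip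
  rw [h1, h2, h3, h4] at this
  have e : ((l.map (wt f)).sum : ℤ) = (l.map fun i => (wt f i : ℤ)).sum := by
    simp [Nat.cast_list_sum, Function.comp_def]
  unfold ul
  omega

theorem sum_vl {f : J → P} {l : List J} (hb : ∀ i ∈ l, i.1 ≤ 16000) (hd : dq f l = true) :
    (l.map (vl f)).sum = 1 + 16000 * (l.map (wt f)).sum := by
  simp only [dq, Bool.and_eq_true, beq_iff_eq] at hd
  have := sum_toNat (l := l) (f := fun i => (f i).1 * i.1 + 16000 * wt f i) fun i hi => by
    have c1 : (f i).1.natAbs ≤ wt f i := (Nat.le_mul_self _).trans (Nat.le_add_right _ _)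
    have c2 : (i.1 : ℤ) ≤ 16000 := by exact_mod_cast hb i hi
    have c3 : -(wt f i : ℤ) ≤ (f i).1 := by omega
    nlinarith [Int.natCast_nonneg i.1, Int.natCast_nonneg (wt f i)]
  simp only [sj, List.sum_map_add, List.sum_map_mul_left] at this hd
  rw [hd.1] at this
  have e : ((l.map (wt f)).sum : ℤ) = (l.map fun i => (wt f i : ℤ)).sum := by
    simp [Nat.cast_list_sum, Function.comp_def]
  unfold vl
  omega

theorem ip_drop {g h : J → P} {l1 l2 l : List J} (hp : (l2 ++ l1).Perm l)
    (h2 : ∀ i ∈ l2, g i = (0, 0) ∨ h i = (0, 0)) (hl : ip g h l = true) : ip g h l1 = true := by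
  have e : ∀ F : P → P → ℤ, (∀ a, F (0, 0) a = 0) → (∀ a, F a (0, 0) = 0) →
      sj (fun i => F (g i) (h i)) l = sj (fun i => F (g i) (h i)) l1 := fun F f1 f2 => by
    rw [← sj_perm _ hp, sj_append, sj, List.sum_eq_zero, zero_add]
    simp only [List.mem_map]
    rintro _ ⟨i, hi, rfl⟩
    obtain e | e := h2 i hi <;> simp only [e, f1, f2]
  simp only [ip] at hl ⊢
  rwa [← e (fun a b => a.1 * b.1) (by simp) (by simp), ← e (fun a b => a.1 * b.2) (by simp) (by simp),
    ← e (fun a b => a.2 * b.1) (by simp) (by simp), ← e (fun a b => a.2 * b.2) (by simp) (by simp)]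

theorem two_sound {ι : Type*} {g h f : J → P} (hf : f = g ∨ f = h) {W s0 : ℕ} {X1 X2 : List (E J)}
    {fin : List J → Bool} (en : ι → J) (T pre : List ι) (hw : ∀ i ∈ T, 0 < wt f (en i))
    (hb : ∀ i ∈ T ++ pre, Bd g h (en i)) (hW : (((T ++ pre).map en).map (wt f)).sum = W)
    (hok : ∀ l : List ι, l.Subperm (T ++ pre) → (cst (l.map en) + s0) &&& msk = 0)
    (hse : ∀ l : List ι, l.Subperm (T ++ pre) → se g (l.map en) = true ∧ se h (l.map en) = true)
    (hip : ip g h ((T ++ pre).map en) = true)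
    (hdq : ∀ l : List ι, l.Perm (T ++ pre) → dq f (l.map en) = true)
    (hX : ∀ i ∈ T, mkU g h f (en i) ∈ X1 ∨
      mkE f (en i) ∈ X2 ∧ (g (en i) = (0, 0) ∨ h (en i) = (0, 0)))
    (hfin : ∀ l : List ι, l.Perm T → fin (l.map en) = true) :
    two g h f W s0 X1 X2 (pre.map en) fin = true := by
  have hb' : ∀ l : List ι, l.Subperm (T ++ pre) → ∀ i ∈ l.map en, Bd g h i := fun l hl i hi => by
    obtain ⟨j, hj, rfl⟩ := List.mem_map.1 hi
    exact hb j (hl.subset hj)
  have hU := sum_ul hf (hb' _ (List.Subperm.refl _)) hip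
  have hV := sum_vl (fun i hi => (hb' _ (List.Subperm.refl _) i hi).2.2.2.2) (hdq _ (.refl _))
  rw [hW] at hU hV
  simp only [two, fT_eq, fN_eq]
  refine rs_start (fun i => mkU g h f (en i))
    (fun i => mkE f (en i) ∈ X2 ∧ (g (en i) = (0, 0) ∨ h (en i) = (0, 0))) T ?_ hX hw ?_ ?_ ?_
  · simp only [← hW, List.map_append, List.sum_append, List.map_map]
    exact Nat.add_sub_cancel ..
  · simp only [List.map_append, List.sum_append, List.map_map] at hU ⊢
    exact Nat.eq_sub_of_add_eq hU
  · intro l hl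
    have := hok (l ++ pre) ((List.subperm_append_right _).2 hl)
    simpa only [cst, List.map_append, List.sum_append, List.map_map, add_assoc, mkU,
      Function.comp_def] using this
  intro l1 l2 hp h2
  have p1 : (l2 ++ (l1 ++ pre)).Perm (T ++ pre) := by
    rw [← List.append_assoc]; exact hp.append_right _
  have p2 : (l1 ++ pre).Subperm (T ++ pre) := (List.sublist_append_right _ _).subperm.trans p1.subperm
  have i1 : ip g h ((l1 ++ pre).map en) = true := ip_drop (l2 := l2.map en)
    (by rw [← List.map_append]; exact p1.map en) (by simpa using fun i hi => (h2 i hi).2) hip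
  have u1 := sum_ul hf (hb' _ p2) i1
  have w1 := ((p1.map en).map (wt f)).sum_eq
  have v1 := ((p1.map en).map (vl f)).sum_eq
  rw [hW] at w1
  rw [hV] at v1
  simp only [Bool.and_eq_true, List.append_nil, mkU, ← List.map_append, i1, (hse _ p2).1,
    (hse _ p2).2, true_and]
  refine ⟨?_, ?_⟩
  · simp only [List.map_append, List.sum_append, List.map_map, Function.comp_def, Nat.add_eq,
      Nat.mul_eq, Nat.beq_eq] at u1 w1 hU ⊢
    omega
  refine rs_start (fun i => mkE f (en i)) (fun _ => False) l2 rfl (fun i hi => Or.inl (h2 i hi).1)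
    (fun i hi => hw i (hp.subset (by simp [hi]))) ?_ ?_ ?_
  · simpa only [List.map_append, List.sum_append, List.map_map, Function.comp_def, mkE] using v1
  · intro l hl
    have := hok (l ++ (l1 ++ pre)) (((List.subperm_append_right _).2 hl).trans p1.subperm)
    simpa only [cst, List.map_append, List.sum_append, List.map_map, add_assoc, mkE,
      Function.comp_def] using this
  intro m1 m2 hm h3
  obtain rfl : m2 = [] := List.eq_nil_iff_forall_not_mem.2 h3
  have q1 : (m1 ++ l1).Perm T := (hm.append_right _).trans hp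
  have q2 := hdq _ (q1.append_right pre)
  have q3 := hfin _ q1
  simp only [List.map_append] at q2 q3
  simp [mkE, q3, -List.append_assoc, q2]

def c5s (e5 : ℕ) (l : List J) : List ℕ := (dv (48964608 / e5)).filter fun k =>
  k % 11 != 0 && (48964608 / e5 / k % 5 == 1 &&
    l.all fun i => typ 5 e5 2 (48964608 / k) i.1 (fa i).1 (fa i).2)

def uf (d : ℕ) (a : P) : List P :=
  bif a.1 != a.2 || (Nat.blt 11 d && decide (44 * a.1 < d)) then [(0, 0)] else []

def CS : List ℕ := (dv 10644480).filter fun C => C % 110 == 0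

def md (i : J) : ℕ := bif fb i == (0, 0) then 4 else 44

/-- Completion of the block for 11 (`f = fb`, `W = 10`) or 23 (`f = fc`, `W = 22`). -/
noncomputable def t3 (e e5 W : ℕ) (f : J → P) (X1 X2 : List (E J)) (flt : J → Bool)
    (pre : List J) (fin : List J → Bool) : Bool :=
  two fb fc f W (off e e5) (X1.filter fun a => flt a.j) (X2.filter fun a => flt a.j) pre fin

def mkV (f : J → P) (i : J) (t : ℕ) : E (J × ℤ) :=
  ⟨sqd i.1 t, 0, ((f i).1 * (i.1 - t) + 48000).toNat, (i, i.1 - t)⟩

def vq1 (f : J → P) (l : List (J × ℤ)) : ℤ := sj (fun i => (f i.1).1 * i.2) l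

/-- The values of an involution centralizing elements of order 5 and 11. -/
noncomputable def vv (e e5 W : ℕ) (f : J → P) (X1 X2 : List (E J)) (K5 : List ℕ) (l : List J) : Bool :=
  CS.any fun C => fN C fun C => fN (244823040 / C) fun K =>
    fZ (l.map fun i => (cd K C (5 * md i) i.1).map (mkV fa i)) fun Z =>
    vp (1 + 48000 * l.length) (fun B acc => fN B fun B => vq fa acc &&
      ((K5.any fun k => (qq fa acc * k) % (5 * C ^ 2 : ℕ) == 0 &&
        (List.range (k + 1)).any fun I => qq fa acc * k == (5 * (C * I) ^ 2 : ℕ)) &&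
      t3 e e5 W f X1 X2 (fun i => !(cd K B (md i) i.1).isEmpty) l fun l' =>
        fZ (l'.map fun i => (cd K B (md i) i.1).map (mkV f i)) fun Z' =>
        vp (1 - vq1 f acc + 48000 * l'.length).toNat
          (fun _ acc' => vq f acc' && qq f acc' == 0) Z' B 0 acc)) Z (C - 1) 0 []

def nd (c : ℕ) : ℕ := bif c % 256 == 0 then c / 256 else bif c % 16 == 0 then c / 16 else c

def bs (e c : ℕ) (i : J) : List J :=
  ((bif Nat.ble 110 i.1 then ty 11 e 2 (22256640 / c) i.1 else []) ++ uf i.1 (fa i)).map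
    fun b => (i.1, fa i, b, fc i)

noncomputable def post (e c e5 : ℕ) (R : List (List J × List ℕ)) : Bool :=
  (fun (f : J → P) (W : ℕ) (t11 : ℕ → P → List P) =>
  fL ((its (fun _ => [(0, 0)]) t11 t23).map (mkU fb fc f)) fun X1 =>
  fL ((bif e == 5 then its (fun _ => [(0, 0)]) t11 z23
    else its (fun _ => [(0, 0)]) (fun _ _ => [(0, 0)]) t23).map (mkE f)) fun X2 =>
  R.any fun r => (fun K5 : List ℕ => !K5.isEmpty && ch (bs e c) (fun l =>
    (cst l + off e e5) &&& msk == 0 && (ip fa fb l && (se fb l &&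
      bif nd c % 2 == 0 then vv e e5 W f X1 X2 K5 l else
        t3 e e5 W f X1 X2 (fun _ => true) l fun _ => true))) r.1 [])
    (r.2.filter fun k => k % nd c == 0))
  (bif e == 5 then fb else fc) (bif e == 5 then 10 else 22) fun d _ => ty 11 e 2 (22256640 / c) d

def ck {α : Type} (n i : ℕ) (R : List α) : List α :=
  (R.zipIdx.filter fun r => r.2 % n == i).map Prod.fst

theorem mem_ck {α : Type} {n : ℕ} (hn : 0 < n) {R : List α} {r : α} (h : r ∈ R) :
    ∃ i < n, r ∈ ck n i R := by
  obtain ⟨k, hk, rfl⟩ := List.getElem_of_mem h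
  exact ⟨k % n, Nat.mod_lt _ hn, List.mem_map.2 ⟨(R[k], k), List.mem_filter.2
    ⟨List.mem_zipIdx_iff_getElem?.2 (by simp), by simp⟩, rfl⟩⟩

end Cfsg.Agent.H2.B24
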