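import Cfsg.Agent.H2.B24S

/-! The possible principal 5-blocks. -/

set_option autoImplicit false

namespace Cfsg.Agent.H2.B24

def j (d : ℕ) (a b c e : ℤ) : J := (d, (a, b), (0, 0), c, e)

def L2 : List (List J × List ℕ) :=
  [([j 23 0 (-1) 0 0, j 23 (-1) 0 0 0, j 24 1 1 (-1) (-1)], [9, 14, 4, 84, 24, 504, 144, 224,
    64, 1344, 384, 8064])]

theorem core2 : core 2 (fun l => !L2.contains (l, c5s 2 l)) = false := by decide +kernel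

def L4 : List (List J × List ℕ) :=
  [([j 184 1 1 0 0, j 161 (-1) (-1) 0 0, j 11 (-1) (-1) 1 0, j 11 (-1) (-1) 0 1], [27, 2, 12,
    72, 432, 32, 192, 1152]),
   ([j 46 (-1) (-1) 0 0, j 69 1 1 0 0, j 11 (-1) (-1) 1 0, j 11 (-1) (-1) 0 1], [7, 2, 42, 12,
    252, 72, 112, 32, 672, 192, 4032, 1152, 1792]),
   ([j 736 (-1) (-1) 0 0, j 759 1 1 0 0, j 11 (-1) (-1) 1 0, j 11 (-1) (-1) 0 1], [7, 2, 42,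
    12, 252, 72, 112, 32, 672]),
   ([j 644 1 1 0 0, j 621 (-1) (-1) 0 0, j 11 (-1) (-1) 1 0, j 11 (-1) (-1) 0 1], [2, 32]),
   ([j 184 1 1 0 0, j 24 1 1 (-1) (-1), j 24 1 1 (-1) (-1), j 231 (-1) (-1) (-1) (-1)], [2, 12,
    72, 32, 192, 1152]),
   ([j 1104 1 1 0 0, j 896 (-1) (-1) 1 1, j 24 1 1 (-1) (-1), j 231 (-1) (-1) (-1) (-1)], [2,
    12, 72]),
   ([j 4416 (-1) (-1) 0 0, j 896 (-1) (-1) 1 1, j 5544 1 1 (-1) (-1), j 231 (-1) (-1) (-1)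
    (-1)], [2, 12]),
   ([j 1656 (-1) (-1) 0 0, j 576 (-1) (-1) (-1) (-1), j 2464 1 1 (-3) (-3), j 231 (-1) (-1)
    (-1) (-1)], [2, 12]),
   ([j 1449 1 1 0 0, j 161 (-1) (-1) 0 0, j 1056 (-1) (-1) 2 2, j 231 (-1) (-1) (-1) (-1)], [2,
    12, 32]),
   ([j 644 1 1 0 0, j 644 1 1 0 0, j 1056 (-1) (-1) 2 2, j 231 (-1) (-1) (-1) (-1)], [2, 12,
    72, 32]),
   ([j 5796 (-1) (-1) 0 0, j 7084 1 1 0 0, j 1056 (-1) (-1) 2 2, j 231 (-1) (-1) (-1) (-1)],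
    [2, 12, 32]),
   ([j 1104 1 1 0 0, j 184 1 1 0 0, j 1056 (-1) (-1) 2 2, j 231 (-1) (-1) (-1) (-1)], [2, 12,
    72, 32]),
   ([j 736 (-1) (-1) 0 0, j 2024 1 1 0 0, j 1056 (-1) (-1) 2 2, j 231 (-1) (-1) (-1) (-1)], [2,
    12, 72, 32]),
   ([j 2576 (-1) (-1) 0 0, j 3864 1 1 0 0, j 1056 (-1) (-1) 2 2, j 231 (-1) (-1) (-1) (-1)],
    [2, 12, 72, 32]),
   ([j 2944 1 1 0 0, j 1656 (-1) (-1) 0 0, j 1056 (-1) (-1) 2 2, j 231 (-1) (-1) (-1) (-1)],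
    [2, 12]),
   ([j 12144 1 1 0 0, j 184 1 1 0 0, j 12096 (-1) (-1) 2 2, j 231 (-1) (-1) (-1) (-1)], [2]),
   ([j 10304 1 1 0 0, j 2024 1 1 0 0, j 12096 (-1) (-1) 2 2, j 231 (-1) (-1) (-1) (-1)], [2]),
   ([j 2024 1 1 0 0, j 896 (-1) (-1) 1 1, j 896 (-1) (-1) 1 1, j 231 (-1) (-1) (-1) (-1)], [2,
    12, 72]),
   ([j 414 1 1 0 0, j 161 (-1) (-1) 0 0, j 126 (-1) (-1) 1 0, j 126 (-1) (-1) 0 1], [2, 12, 32,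
    192]),
   ([j 2024 1 1 0 0, j 1771 (-1) (-1) 0 0, j 126 (-1) (-1) 1 0, j 126 (-1) (-1) 0 1], [2, 12,
    32, 192]),
   ([j 184 1 1 0 0, j 69 1 1 0 0, j 126 (-1) (-1) 1 0, j 126 (-1) (-1) 0 1], [2, 12, 32, 192]),
   ([j 506 (-1) (-1) 0 0, j 759 1 1 0 0, j 126 (-1) (-1) 1 0, j 126 (-1) (-1) 0 1], [2, 12, 32,
    192]),
   ([j 7084 1 1 0 0, j 6831 (-1) (-1) 0 0, j 126 (-1) (-1) 1 0, j 126 (-1) (-1) 0 1], [2, 32]),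
   ([j 69 1 1 0 0, j 56 (-1) (-1) 2 1, j 56 (-1) (-1) 1 2, j 44 1 1 2 2], [2, 12, 72, 32, 192,
    1152]),
   ([j 1771 (-1) (-1) 0 0, j 864 1 1 (-1) (-2), j 864 1 1 (-2) (-1), j 44 1 1 2 2], [2, 32]),
   ([j 1771 (-1) (-1) 0 0, j 13824 1 1 (-1) (-1), j 12096 (-1) (-1) 2 2, j 44 1 1 2 2], [2]),
   ([j 1449 1 1 0 0, j 896 (-1) (-1) 1 1, j 576 (-1) (-1) (-1) (-1), j 24 1 1 (-1) (-1)], [2,
    12]),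
   ([j 69 1 1 0 0, j 69 1 1 0 0, j 161 (-1) (-1) 0 0, j 24 1 1 (-1) (-1)], [2, 12, 72, 32, 192,
    1152]),
   ([j 621 (-1) (-1) 0 0, j 759 1 1 0 0, j 161 (-1) (-1) 0 0, j 24 1 1 (-1) (-1)], [2, 32]),
   ([j 184 1 1 0 0, j 46 (-1) (-1) 0 0, j 161 (-1) (-1) 0 0, j 24 1 1 (-1) (-1)], [2, 12, 72,
    32, 192, 1152]),
   ([j 644 1 1 0 0, j 506 (-1) (-1) 0 0, j 161 (-1) (-1) 0 0, j 24 1 1 (-1) (-1)], [2, 12, 72,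
    32, 192, 1152]),
   ([j 1104 1 1 0 0, j 966 (-1) (-1) 0 0, j 161 (-1) (-1) 0 0, j 24 1 1 (-1) (-1)], [2, 12, 72,
    32, 192]),
   ([j 276 (-1) (-1) 0 0, j 414 1 1 0 0, j 161 (-1) (-1) 0 0, j 24 1 1 (-1) (-1)], [2, 12, 32,
    192]),
   ([j 4416 (-1) (-1) 0 0, j 4554 1 1 0 0, j 161 (-1) (-1) 0 0, j 24 1 1 (-1) (-1)], [2, 12]),
   ([j 1104 1 1 0 0, j 644 1 1 0 0, j 1771 (-1) (-1) 0 0, j 24 1 1 (-1) (-1)], [2, 12, 72, 32,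
    192]),
   ([j 2024 1 1 0 0, j 276 (-1) (-1) 0 0, j 1771 (-1) (-1) 0 0, j 24 1 1 (-1) (-1)], [2, 12,
    72, 32, 192, 1152]),
   ([j 736 (-1) (-1) 0 0, j 2484 1 1 0 0, j 1771 (-1) (-1) 0 0, j 24 1 1 (-1) (-1)], [2, 32]),
   ([j 46 (-1) (-1) 0 0, j 46 (-1) (-1) 0 0, j 69 1 1 0 0, j 24 1 1 (-1) (-1)], [7, 2, 42, 12,
    252, 72, 112, 32, 672, 192, 4032, 1152]),
   ([j 414 1 1 0 0, j 506 (-1) (-1) 0 0, j 69 1 1 0 0, j 24 1 1 (-1) (-1)], [7, 2, 42, 12, 112,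
    32, 672, 192]),
   ([j 736 (-1) (-1) 0 0, j 644 1 1 0 0, j 69 1 1 0 0, j 24 1 1 (-1) (-1)], [2, 12, 72, 32]),
   ([j 184 1 1 0 0, j 276 (-1) (-1) 0 0, j 69 1 1 0 0, j 24 1 1 (-1) (-1)], [7, 2, 42, 12, 252,
    72, 112, 32, 672, 192, 4032, 1152]),
   ([j 2944 1 1 0 0, j 3036 (-1) (-1) 0 0, j 69 1 1 0 0, j 24 1 1 (-1) (-1)], [7, 2, 42, 12,
    252, 72]),
   ([j 2576 (-1) (-1) 0 0, j 2484 1 1 0 0, j 69 1 1 0 0, j 24 1 1 (-1) (-1)], [2, 32]),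
   ([j 736 (-1) (-1) 0 0, j 46 (-1) (-1) 0 0, j 759 1 1 0 0, j 24 1 1 (-1) (-1)], [7, 2, 42,
    12, 252, 72, 112, 32, 672]),
   ([j 276 (-1) (-1) 0 0, j 506 (-1) (-1) 0 0, j 759 1 1 0 0, j 24 1 1 (-1) (-1)], [7, 2, 42,
    12, 252, 72, 112, 32, 672, 192, 4032, 1152]),
   ([j 184 1 1 0 0, j 966 (-1) (-1) 0 0, j 759 1 1 0 0, j 24 1 1 (-1) (-1)], [2, 12, 72, 32,
    192, 1152]),
   ([j 966 (-1) (-1) 0 0, j 506 (-1) (-1) 0 0, j 1449 1 1 0 0, j 24 1 1 (-1) (-1)], [2, 12, 32,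
    192]),
   ([j 1656 (-1) (-1) 0 0, j 184 1 1 0 0, j 1449 1 1 0 0, j 24 1 1 (-1) (-1)], [2, 12, 32,
    192]),
   ([j 1104 1 1 0 0, j 2576 (-1) (-1) 0 0, j 1449 1 1 0 0, j 24 1 1 (-1) (-1)], [2, 12, 32,
    192]),
   ([j 736 (-1) (-1) 0 0, j 736 (-1) (-1) 0 0, j 1449 1 1 0 0, j 24 1 1 (-1) (-1)], [2, 12,
    32]),
   ([j 6624 1 1 0 0, j 8096 (-1) (-1) 0 0, j 1449 1 1 0 0, j 24 1 1 (-1) (-1)], [2, 12, 32]),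
   ([j 11776 (-1) (-1) 0 0, j 10304 1 1 0 0, j 1449 1 1 0 0, j 24 1 1 (-1) (-1)], [2]),
   ([j 2944 1 1 0 0, j 4416 (-1) (-1) 0 0, j 1449 1 1 0 0, j 24 1 1 (-1) (-1)], [2, 12]),
   ([j 644 1 1 0 0, j 46 (-1) (-1) 0 0, j 621 (-1) (-1) 0 0, j 24 1 1 (-1) (-1)], [2, 32]),
   ([j 1104 1 1 0 0, j 506 (-1) (-1) 0 0, j 621 (-1) (-1) 0 0, j 24 1 1 (-1) (-1)], [7, 2, 112,
    32]),
   ([j 184 1 1 0 0, j 414 1 1 0 0, j 621 (-1) (-1) 0 0, j 24 1 1 (-1) (-1)], [7, 2, 112, 32]),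
   ([j 8096 (-1) (-1) 0 0, j 8694 1 1 0 0, j 621 (-1) (-1) 0 0, j 24 1 1 (-1) (-1)], [2, 32]),
   ([j 276 (-1) (-1) 0 0, j 7084 1 1 0 0, j 6831 (-1) (-1) 0 0, j 24 1 1 (-1) (-1)], [2, 32]),
   ([j 6624 1 1 0 0, j 184 1 1 0 0, j 6831 (-1) (-1) 0 0, j 24 1 1 (-1) (-1)], [7, 2, 112, 32]),
   ([j 2944 1 1 0 0, j 3864 1 1 0 0, j 6831 (-1) (-1) 0 0, j 24 1 1 (-1) (-1)], [2]),
   ([j 1449 1 1 0 0, j 896 (-1) (-1) 1 1, j 1056 (-1) (-1) 2 2, j 504 1 1 2 2], [2, 12]),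
   ([j 6831 (-1) (-1) 0 0, j 1449 1 1 0 0, j 161 (-1) (-1) 0 0, j 5544 1 1 (-1) (-1)], [2, 32]),
   ([j 4416 (-1) (-1) 0 0, j 966 (-1) (-1) 0 0, j 161 (-1) (-1) 0 0, j 5544 1 1 (-1) (-1)], [2,
    12]),
   ([j 5796 (-1) (-1) 0 0, j 414 1 1 0 0, j 161 (-1) (-1) 0 0, j 5544 1 1 (-1) (-1)], [2, 12,
    32, 192]),
   ([j 9936 (-1) (-1) 0 0, j 4554 1 1 0 0, j 161 (-1) (-1) 0 0, j 5544 1 1 (-1) (-1)], [2, 32]),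
   ([j 4416 (-1) (-1) 0 0, j 644 1 1 0 0, j 1771 (-1) (-1) 0 0, j 5544 1 1 (-1) (-1)], [2, 12]),
   ([j 736 (-1) (-1) 0 0, j 3036 (-1) (-1) 0 0, j 1771 (-1) (-1) 0 0, j 5544 1 1 (-1) (-1)],
    [2, 12, 32]),
   ([j 2024 1 1 0 0, j 5796 (-1) (-1) 0 0, j 1771 (-1) (-1) 0 0, j 5544 1 1 (-1) (-1)], [2, 12,
    32, 192]),
   ([j 2576 (-1) (-1) 0 0, j 3036 (-1) (-1) 0 0, j 69 1 1 0 0, j 5544 1 1 (-1) (-1)], [2, 12,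
    32, 192]),
   ([j 184 1 1 0 0, j 5796 (-1) (-1) 0 0, j 69 1 1 0 0, j 5544 1 1 (-1) (-1)], [2, 12, 32,
    192]),
   ([j 8096 (-1) (-1) 0 0, j 2484 1 1 0 0, j 69 1 1 0 0, j 5544 1 1 (-1) (-1)], [2, 32]),
   ([j 5796 (-1) (-1) 0 0, j 506 (-1) (-1) 0 0, j 759 1 1 0 0, j 5544 1 1 (-1) (-1)], [2, 12,
    32, 192]),
   ([j 4416 (-1) (-1) 0 0, j 2576 (-1) (-1) 0 0, j 1449 1 1 0 0, j 5544 1 1 (-1) (-1)], [2,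
    12]),
   ([j 8096 (-1) (-1) 0 0, j 1104 1 1 0 0, j 1449 1 1 0 0, j 5544 1 1 (-1) (-1)], [2, 12, 32]),
   ([j 2944 1 1 0 0, j 9936 (-1) (-1) 0 0, j 1449 1 1 0 0, j 5544 1 1 (-1) (-1)], [2]),
   ([j 4416 (-1) (-1) 0 0, j 506 (-1) (-1) 0 0, j 621 (-1) (-1) 0 0, j 5544 1 1 (-1) (-1)],
    [2]),
   ([j 644 1 1 0 0, j 644 1 1 0 0, j 6831 (-1) (-1) 0 0, j 5544 1 1 (-1) (-1)], [2, 32]),
   ([j 5796 (-1) (-1) 0 0, j 7084 1 1 0 0, j 6831 (-1) (-1) 0 0, j 5544 1 1 (-1) (-1)], [2,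
    32]),
   ([j 1104 1 1 0 0, j 184 1 1 0 0, j 6831 (-1) (-1) 0 0, j 5544 1 1 (-1) (-1)], [2, 32]),
   ([j 736 (-1) (-1) 0 0, j 2024 1 1 0 0, j 6831 (-1) (-1) 0 0, j 5544 1 1 (-1) (-1)], [2, 32]),
   ([j 2576 (-1) (-1) 0 0, j 3864 1 1 0 0, j 6831 (-1) (-1) 0 0, j 5544 1 1 (-1) (-1)], [2,
    32]),
   ([j 2944 1 1 0 0, j 1656 (-1) (-1) 0 0, j 6831 (-1) (-1) 0 0, j 5544 1 1 (-1) (-1)], [2]),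
   ([j 184 1 1 0 0, j 1449 1 1 0 0, j 576 (-1) (-1) (-1) (-1), j 1056 (-1) (-1) 2 2], [2, 12]),
   ([j 1104 1 1 0 0, j 46 (-1) (-1) 0 0, j 161 (-1) (-1) 0 0, j 896 (-1) (-1) 1 1], [2, 12,
    72]),
   ([j 2024 1 1 0 0, j 966 (-1) (-1) 0 0, j 161 (-1) (-1) 0 0, j 896 (-1) (-1) 1 1], [2, 12,
    72]),
   ([j 644 1 1 0 0, j 414 1 1 0 0, j 161 (-1) (-1) 0 0, j 896 (-1) (-1) 1 1], [2, 12]),
   ([j 2024 1 1 0 0, j 644 1 1 0 0, j 1771 (-1) (-1) 0 0, j 896 (-1) (-1) 1 1], [27, 2, 12,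
    72]),
   ([j 4416 (-1) (-1) 0 0, j 7084 1 1 0 0, j 1771 (-1) (-1) 0 0, j 896 (-1) (-1) 1 1], [2, 12,
    72]),
   ([j 2944 1 1 0 0, j 276 (-1) (-1) 0 0, j 1771 (-1) (-1) 0 0, j 896 (-1) (-1) 1 1], [2, 12,
    72]),
   ([j 184 1 1 0 0, j 2484 1 1 0 0, j 1771 (-1) (-1) 0 0, j 896 (-1) (-1) 1 1], [2]),
   ([j 759 1 1 0 0, j 69 1 1 0 0, j 69 1 1 0 0, j 896 (-1) (-1) 1 1], [2, 12, 72]),
   ([j 621 (-1) (-1) 0 0, j 1449 1 1 0 0, j 69 1 1 0 0, j 896 (-1) (-1) 1 1], [2]),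
   ([j 414 1 1 0 0, j 414 1 1 0 0, j 69 1 1 0 0, j 896 (-1) (-1) 1 1], [2, 12]),
   ([j 184 1 1 0 0, j 644 1 1 0 0, j 69 1 1 0 0, j 896 (-1) (-1) 1 1], [2, 12, 72]),
   ([j 1104 1 1 0 0, j 276 (-1) (-1) 0 0, j 69 1 1 0 0, j 896 (-1) (-1) 1 1], [2, 12, 72]),
   ([j 3864 1 1 0 0, j 3036 (-1) (-1) 0 0, j 69 1 1 0 0, j 896 (-1) (-1) 1 1], [2, 12, 72]),
   ([j 6624 1 1 0 0, j 5796 (-1) (-1) 0 0, j 69 1 1 0 0, j 896 (-1) (-1) 1 1], [2, 12]),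
   ([j 1656 (-1) (-1) 0 0, j 2484 1 1 0 0, j 69 1 1 0 0, j 896 (-1) (-1) 1 1], [2]),
   ([j 621 (-1) (-1) 0 0, j 759 1 1 0 0, j 759 1 1 0 0, j 896 (-1) (-1) 1 1], [2]),
   ([j 184 1 1 0 0, j 46 (-1) (-1) 0 0, j 759 1 1 0 0, j 896 (-1) (-1) 1 1], [2, 12, 72]),
   ([j 644 1 1 0 0, j 506 (-1) (-1) 0 0, j 759 1 1 0 0, j 896 (-1) (-1) 1 1], [2, 12, 72]),
   ([j 1104 1 1 0 0, j 966 (-1) (-1) 0 0, j 759 1 1 0 0, j 896 (-1) (-1) 1 1], [2, 12, 72]),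
   ([j 276 (-1) (-1) 0 0, j 414 1 1 0 0, j 759 1 1 0 0, j 896 (-1) (-1) 1 1], [2, 12]),
   ([j 4416 (-1) (-1) 0 0, j 4554 1 1 0 0, j 759 1 1 0 0, j 896 (-1) (-1) 1 1], [2, 12]),
   ([j 506 (-1) (-1) 0 0, j 46 (-1) (-1) 0 0, j 1449 1 1 0 0, j 896 (-1) (-1) 1 1], [2, 12]),
   ([j 414 1 1 0 0, j 966 (-1) (-1) 0 0, j 1449 1 1 0 0, j 896 (-1) (-1) 1 1], [2, 12]),
   ([j 276 (-1) (-1) 0 0, j 276 (-1) (-1) 0 0, j 1449 1 1 0 0, j 896 (-1) (-1) 1 1], [2, 12]),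
   ([j 2484 1 1 0 0, j 3036 (-1) (-1) 0 0, j 1449 1 1 0 0, j 896 (-1) (-1) 1 1], [2]),
   ([j 736 (-1) (-1) 0 0, j 184 1 1 0 0, j 1449 1 1 0 0, j 896 (-1) (-1) 1 1], [2, 12]),
   ([j 2576 (-1) (-1) 0 0, j 2024 1 1 0 0, j 1449 1 1 0 0, j 896 (-1) (-1) 1 1], [2, 12]),
   ([j 4416 (-1) (-1) 0 0, j 3864 1 1 0 0, j 1449 1 1 0 0, j 896 (-1) (-1) 1 1], [2, 12]),
   ([j 1104 1 1 0 0, j 1656 (-1) (-1) 0 0, j 1449 1 1 0 0, j 896 (-1) (-1) 1 1], [2, 12]),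
   ([j 2024 1 1 0 0, j 506 (-1) (-1) 0 0, j 621 (-1) (-1) 0 0, j 896 (-1) (-1) 1 1], [2]),
   ([j 2484 1 1 0 0, j 966 (-1) (-1) 0 0, j 621 (-1) (-1) 0 0, j 896 (-1) (-1) 1 1], [2]),
   ([j 12144 1 1 0 0, j 10626 (-1) (-1) 0 0, j 621 (-1) (-1) 0 0, j 896 (-1) (-1) 1 1], [2]),
   ([j 1104 1 1 0 0, j 414 1 1 0 0, j 621 (-1) (-1) 0 0, j 896 (-1) (-1) 1 1], [2]),
   ([j 3036 (-1) (-1) 0 0, j 4554 1 1 0 0, j 621 (-1) (-1) 0 0, j 896 (-1) (-1) 1 1], [2]),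
   ([j 8694 1 1 0 0, j 966 (-1) (-1) 0 0, j 6831 (-1) (-1) 0 0, j 896 (-1) (-1) 1 1], [2]),
   ([j 7084 1 1 0 0, j 644 1 1 0 0, j 6831 (-1) (-1) 0 0, j 896 (-1) (-1) 1 1], [2]),
   ([j 3864 1 1 0 0, j 3864 1 1 0 0, j 6831 (-1) (-1) 0 0, j 896 (-1) (-1) 1 1], [2]),
   ([j 10304 1 1 0 0, j 2576 (-1) (-1) 0 0, j 6831 (-1) (-1) 0 0, j 896 (-1) (-1) 1 1], [2]),
   ([j 6624 1 1 0 0, j 1104 1 1 0 0, j 6831 (-1) (-1) 0 0, j 896 (-1) (-1) 1 1], [2]),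
   ([j 4416 (-1) (-1) 0 0, j 12144 1 1 0 0, j 6831 (-1) (-1) 0 0, j 896 (-1) (-1) 1 1], [2]),
   ([j 6831 (-1) (-1) 0 0, j 6831 (-1) (-1) 0 0, j 161 (-1) (-1) 0 0, j 13824 1 1 (-1) (-1)],
    [2]),
   ([j 3036 (-1) (-1) 0 0, j 10626 (-1) (-1) 0 0, j 161 (-1) (-1) 0 0, j 13824 1 1 (-1) (-1)],
    [2]),
   ([j 11776 (-1) (-1) 0 0, j 276 (-1) (-1) 0 0, j 1771 (-1) (-1) 0 0, j 13824 1 1 (-1) (-1)],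
    [2]),
   ([j 8096 (-1) (-1) 0 0, j 5796 (-1) (-1) 0 0, j 69 1 1 0 0, j 13824 1 1 (-1) (-1)], [2]),
   ([j 15456 (-1) (-1) 0 0, j 184 1 1 0 0, j 1449 1 1 0 0, j 13824 1 1 (-1) (-1)], [2]),
   ([j 2576 (-1) (-1) 0 0, j 10626 (-1) (-1) 0 0, j 621 (-1) (-1) 0 0, j 13824 1 1 (-1) (-1)],
    [2]),
   ([j 4416 (-1) (-1) 0 0, j 2576 (-1) (-1) 0 0, j 6831 (-1) (-1) 0 0, j 13824 1 1 (-1) (-1)],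
    [2]),
   ([j 8096 (-1) (-1) 0 0, j 1104 1 1 0 0, j 6831 (-1) (-1) 0 0, j 13824 1 1 (-1) (-1)], [7,
    2]),
   ([j 2944 1 1 0 0, j 9936 (-1) (-1) 0 0, j 6831 (-1) (-1) 0 0, j 13824 1 1 (-1) (-1)], [7,
    2]),
   ([j 276 (-1) (-1) 0 0, j 1771 (-1) (-1) 0 0, j 1024 1 1 0 (-1), j 1024 1 1 (-1) 0], [])]

theorem core4 : core 4 (fun l => !L4.contains (l, c5s 4 l)) = false := by decide +kernel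

end Cfsg.Agent.H2.B24
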