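import Cfsg.Agent.H2.B24T

/-! The form of the kernel results. -/

set_option autoImplicit false

namespace Cfsg.Agent.H2.B24

def No (e c : ℕ) : Prop := ∀ r, (r ∈ L4 → ∃ R, r ∈ R ∧ post e c 4 R = false) ∧
  (r ∈ L2 → ∃ R, r ∈ R ∧ post e c 2 R = false)

theorem no_of {e c n : ℕ} (hn : 0 < n) (h4 : ∀ i < n, post e c 4 (ck n i L4) = false)
    (h2 : post e c 2 L2 = false) : No e c := fun _ =>
  ⟨fun h => (mem_ck hn h).elim fun i h => ⟨_, h.2, h4 i h.1⟩, fun h => ⟨_, h, h2⟩⟩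

end Cfsg.Agent.H2.B24
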