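import Cfsg.Agent.H2.D1L33d
import Cfsg.Agent.H9.FT.CF6

/-! Groups with a character of `p`-defect zero and a Sylow `p`-subgroup of order `p`. -/

set_option autoImplicit false

namespace Cfsg.Agent.H2.D1

open Cfsg Cfsg.Agent.H3 Finset Subgroup MulAction
open Cfsg.Agent.H9.FT (irr deg Ker dot)

universe u

variable {G : Type u} [Group G] [Finite G] {p : ℕ} [hp : Fact p.Prime] {x : G}

theorem irr_top {χ : G → ℂ} : χ ∈ irr (⊤ : Subgroup G) ↔ IsIrrCharacter G χ :=
  H9.FT.mem_irr.trans ⟨fun h => isIrrCharacter_comp (topEquiv (G := G)).symm.toMonoidHom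
    topEquiv.symm.surjective h.2, fun h => ⟨fun x hx => absurd (mem_top x) hx,
      isIrrCharacter_comp (⊤ : Subgroup G).subtype (fun g => ⟨⟨g, trivial⟩, rfl⟩) h⟩⟩

theorem deg_dg (χ : IrrCharacter G) : deg (χ : G → ℂ) = dg χ := H9.FT.deg_eq_of (dg_eq χ)

theorem hasDeg_iff {m : ℕ} : HasDeg G m ↔ ∃ χ ∈ irr (⊤ : Subgroup G), m ∣ deg χ :=
  ⟨fun ⟨χ, h⟩ => ⟨χ, irr_top.2 χ.2, deg_dg χ ▸ h⟩,
    fun ⟨χ, h, e⟩ => ⟨⟨χ, irr_top.1 h⟩, deg_dg ⟨χ, irr_top.1 h⟩ ▸ e⟩⟩

omit [Finite G] in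
theorem normalIn_top (N : Subgroup G) [N.Normal] : H7.NormalIn N ⊤ :=
  ⟨le_top, by rw [normalizer_eq_top]⟩

theorem exists_over {K L : Subgroup G} (h : H7.NormalIn K L) {θ : G → ℂ} (hθ : θ ∈ irr K) :
    ∃ χ ∈ irr L, dot K χ θ ≠ 0 ∧ deg θ ∣ deg χ := by
  obtain ⟨χ, hχ, e⟩ := H9.FT.exists_irr_over' h.1 hθ
  have e' := mt H9.FT.dot_symm_zero e
  exact ⟨χ, hχ, e', (dvd_mul_left _ _).trans (H9.FT.deg_dvd_of_over h hχ hθ e')⟩

theorem Ctx.not_normal (h : Ctx p x) (hd : HasDeg G p) : ¬ (zpowers x).Normal := fun hN => by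
  classical
  have := Fintype.ofFinite G
  obtain ⟨χ, d, hd⟩ := hd
  have h0 : ∀ u ∈ zpowers x, u ≠ 1 → (χ : G → ℂ) u = 0 := fun u hu u1 =>
    irr_eq_zero_of_defect_zero hp.out χ.2 (dg_eq χ) (fun k hk e => h.nsq (by
      rw [hk, hd, sq, mul_assoc]; exact mul_dvd_mul_left p (e.mul_left d)))
      (h.of_mem hu u1).ord.symm.dvd
  have h1 : (χ : G → ℂ) 1 ≠ 0 := by rw [dg_eq]; exact_mod_cast (dg_pos χ).ne'
  rcases avgFun_irr (zpowers x) χ.2 with e | e
  · have := congrFun e 1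
    rw [avgFun, sum_eq_single 1 (fun u _ u1 => by
      rw [mul_one]; exact h0 _ u.2 fun e => u1 (Subtype.ext e)) (by simp)] at this
    simp [h1, h.card_zp, hp.out.ne_zero] at this
  · exact h1 ((e x (mem_zpowers x)).symm.trans (h0 x (mem_zpowers x) h.ne_one))

/-- The normal closure of a Sylow subgroup of order `p` and its `p'`-core. -/
structure LM (p : ℕ) (x : G) (L M : Subgroup G) (S : Type u) [Group S] : Prop where
  nL : L.Normal
  nM : M.Normal
  le : M ≤ L
  mem : x ∈ L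
  cop : ¬ p ∣ Nat.card M
  min : ∀ N : Subgroup G, N.Normal → p ∣ Nat.card N → L ≤ N
  max : ∀ N : Subgroup G, N.Normal → N ≤ L → ¬ p ∣ Nat.card N → N ≤ M
  simple : IsSimpleGroup S
  card : Nat.card M * Nat.card S = Nat.card L
  hom : ∃ π : L →* S, Function.Surjective π

theorem Ctx.mem_of_normal (h : Ctx p x) {N : Subgroup G} (hN : N.Normal) (h1 : p ∣ Nat.card N) :
    x ∈ N := by
  obtain ⟨y, y1, hy⟩ := exists_orderOf_eq_mem hp.out h1
  obtain ⟨g, hg⟩ := h.exists_conj_mem (isPElt_of_orderOf hy)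
  exact zpowers_le.2 (hN.conj_mem y y1 g) (h.mem_zp hg fun e => hp.out.one_lt.ne' (by
    rw [← hy, orderOf_eq_one_iff, ← conj_eq_one_iff (a := g), e]))

theorem Ctx.exists_LM (h : Ctx p x) : ∃ (L M : Subgroup G) (S : Type u) (_ : Group S)
    (_ : Finite S), LM p x L M S := by
  let L := normalClosure ({x} : Set G)
  have hx : x ∈ L := subset_normalClosure rfl
  have := H7.pPrimeCore_characteristic p L
  have hc : Nat.card ((pPrimeCore p L).map L.subtype) = Nat.card (pPrimeCore p L) :=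
    card_map_of_injective (subtype_injective _)
  have hM : ¬ p ∣ Nat.card (pPrimeCore p L) :=
    hp.out.coprime_iff_not_dvd.1 (H7.pPrimeCore_coprime p L).symm
  have hL : p ∣ Nat.card L := h.ord ▸ orderOf_dvd_natCard _ hx
  have hx' : Ctx p (⟨x, hx⟩ : L) :=
    ⟨h.odd, (orderOf_coe _).symm.trans h.ord, fun e => h.nsq (e.trans (card_subgroup_dvd_card L))⟩
  refine ⟨L, (pPrimeCore p L).map L.subtype, L ⧸ pPrimeCore p L, inferInstance, inferInstance,
    inferInstance, inferInstance, map_subtype_le _, hx, hc ▸ hM, fun N hN e =>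
      normalClosure_le_normal (Set.singleton_subset_iff.2 (h.mem_of_normal hN e)),
    fun N hN h1 e => ?_, ?_, by rw [hc, mul_comm, ← card_eq_card_quotient_mul_card_subgroup],
    _, QuotientGroup.mk'_surjective _⟩
  · rw [← map_subgroupOf_eq_of_le h1]
    refine map_mono (H7.le_pPrimeCore inferInstance ?_)
    rw [Nat.card_congr (subgroupOfEquivOfLe h1).toEquiv]
    exact (hp.out.coprime_iff_not_dvd.2 e).symm
  · have : Nontrivial (L ⧸ pPrimeCore p L) := QuotientGroup.nontrivial_iff.2 fun e =>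
      hM (by rwa [e, card_top])
    refine ⟨fun K hK => ?_⟩
    by_cases e : p ∣ Nat.card (K.comap (QuotientGroup.mk' (pPrimeCore p L)))
    · refine Or.inr (comap_injective (QuotientGroup.mk'_surjective _) ?_)
      rw [comap_top, eq_top_iff]
      rintro ⟨g, hg⟩ -
      have h1 : L ≤ (K.comap (QuotientGroup.mk' (pPrimeCore p L))).map L.subtype :=
        (closure_le _).2 fun y hy => by
          have h2 : y ∈ L := conjugatesOfSet_subset_normalClosure hy
          obtain ⟨z, hz, hy⟩ := Group.mem_conjugatesOfSet_iff.1 hy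
          rw [show z = x from hz] at hy
          have h3 : Ctx p (⟨y, h2⟩ : L) := ⟨h.odd, (orderOf_coe _).symm.trans
            ((orderOf_eq_of_isConj hy).symm.trans h.ord), hx'.nsq⟩
          exact mem_map_of_mem L.subtype (h3.mem_of_normal inferInstance e)
      exact (mem_map_iff_mem (subtype_injective L)).1 (h1 hg)
    · refine Or.inl (eq_bot_iff.2 fun k hk => ?_)
      obtain ⟨k, rfl⟩ := QuotientGroup.mk'_surjective _ k
      exact (QuotientGroup.eq_one_iff k).2
        (H7.le_pPrimeCore inferInstance (hp.out.coprime_iff_not_dvd.2 e).symm hk)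

namespace LM

variable {L M : Subgroup G} {S : Type u} [Group S] [Finite S] (h : LM p x L M S)
include h

omit hp in
theorem lift {m : ℕ} (hm : HasDeg S m) : ∃ θ ∈ irr L, m ∣ deg θ := by
  obtain ⟨χ, hχ⟩ := hm
  obtain ⟨π, hπ⟩ := h.hom
  refine ⟨extendByZero L fun g => (χ : S → ℂ) (π g), H9.FT.mem_irr.2
    ⟨fun g hg => extendByZero_of_notMem L _ hg, by
      simpa only [extendByZero_coe] using isIrrCharacter_comp π hπ χ.2⟩, ?_⟩
  rwa [H9.FT.deg_eq_of (n := dg χ) (by
    rw [← dg_eq, ← map_one π]; exact extendByZero_coe L _ 1)]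

omit hp in
theorem hasDeg {m : ℕ} (hm : HasDeg S m) : HasDeg G m := by
  have := h.nL
  obtain ⟨θ, h1, h2⟩ := h.lift hm
  obtain ⟨χ, h3, -, h4⟩ := exists_over (normalIn_top L) h1
  exact hasDeg_iff.2 ⟨χ, h3, h2.trans h4⟩

omit hp [Finite S] in
theorem card_dvd : Nat.card M * Nat.card S ∣ Nat.card G := h.card ▸ card_subgroup_dvd_card L

omit [Finite S] in
theorem dvd (hx : Ctx p x) : p ∣ Nat.card S :=
  (hp.out.dvd_mul.1 (h.card ▸ hx.ord ▸ orderOf_dvd_natCard _ h.mem)).resolve_left h.cop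

omit hp in
theorem ns_of_card [NS S] (e : Nat.card S = Nat.card G) : Nonempty (G ≃* S) := by
  obtain ⟨π, hπ⟩ := h.hom
  have h1 : L = ⊤ := eq_top_of_card_eq _ (le_antisymm (card_le_card_group L)
    (e ▸ Nat.card_le_card_of_surjective π hπ))
  subst h1
  exact ⟨topEquiv.symm.trans (MulEquiv.ofBijective π
    ((Nat.bijective_iff_surjective_and_card π).2 ⟨hπ, by rw [card_top, e]⟩))⟩

end LM

end Cfsg.Agent.H2.D1
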