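import Cfsg.Agent.H2.D1Non1

/-! The `p`-solvable case. -/

set_option autoImplicit false

namespace Cfsg.Agent.H2.D1

open Cfsg Cfsg.Agent.H3 Finset Subgroup MulAction
open Cfsg.Agent.H9.FT (irr deg Ker dot)

universe u

variable {G : Type u} [Group G] [Finite G] {p : ℕ} [hp : Fact p.Prime] {x : G}

theorem Ctx.exists_syl (h : Ctx p x) {M : Subgroup G} [M.Normal] (hM : ¬ p ∣ Nat.card M) (r : ℕ)
    [hr : Fact r.Prime] : ∃ Q : Subgroup G, Q ≤ M ∧ IsPGroup r Q ∧ x ∈ normalizer (Q : Set G) ∧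
      ¬ r ∣ Q.relIndex M ∧ normalizer (Q : Set G) ⊔ M = ⊤ ∧ ∃ j,
        (centralizer {x}).relIndex Q = r ^ j ∧ r ^ j ∣ Nat.card Q ∧ r ^ j % p = 1 := by
  have hx := h.isPElt (mem_zpowers x)
  obtain ⟨Q, hQ⟩ := exists_sylow_normalized (A := zpowers x) (K := M) hx.isPGroup_zpowers
    (by rw [normalizer_eq_top]; exact le_top) hM r
  refine ⟨_, map_subtype_le _, Q.2.map _, hQ (mem_zpowers x), ?_, Q.normalizer_sup_eq_top, ?_⟩
  · rw [relIndex, subgroupOf, comap_map_eq_self_of_injective (subtype_injective M)]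
    exact Q.not_dvd_index
  have h1 := card_modEq_cent hx (hQ (mem_zpowers x))
  have h2 : IsPGroup r ((Q : Subgroup M).map M.subtype) := Q.2.map _
  have h3 := card_dvd_of_le (map_subtype_le (Q : Subgroup M))
  generalize (Q : Subgroup M).map M.subtype = R at h1 h2 h3
  have h4 := card_mul_rel (inf_le_left : R ⊓ centralizer {x} ≤ R)
  rw [inf_relIndex_left] at h4
  obtain ⟨n, hn⟩ := h2.exists_card_eq
  obtain ⟨j, -, hj⟩ := (Nat.dvd_prime_pow hr.out).1 (hn ▸ Dvd.intro_left _ h4)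
  refine ⟨j, hj, hj ▸ Dvd.intro_left _ h4, ?_⟩
  rw [← h4, hj] at h1
  have h5 : r ^ j ≡ 1 [MOD p] := Nat.ModEq.cancel_left_of_coprime (hp.out.coprime_iff_not_dvd.2
    fun e => hM (e.trans ((card_dvd_of_le inf_le_left).trans h3))) (by rwa [mul_one])
  exact Eq.trans h5 (Nat.mod_eq_of_lt hp.out.one_lt)

theorem Ctx.not_dvd_rel (h : Ctx p x) {M : Subgroup G} [M.Normal] (hM : ¬ p ∣ Nat.card M) {r : ℕ}
    (hr : r.Prime) (hj : ∀ j, 0 < j → r ^ j ∣ Nat.card M → r ^ j % p ≠ 1) :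
    ¬ r ∣ (centralizer {x}).relIndex M := fun e => by
  have := Fact.mk hr
  obtain ⟨Q, h1, -, -, h2, -, j, h3, h4, h5⟩ := h.exists_syl hM r
  obtain rfl : j = 0 := by_contra fun e => hj j (Nat.pos_of_ne_zero e) (h4.trans (card_dvd_of_le h1)) h5
  exact h2 (e.trans (relIndex_dvd_of_le_left M (relIndex_eq_one.1 h3)))

theorem Ctx.le_cent (h : Ctx p x) {M : Subgroup G} [M.Normal] (hM : ¬ p ∣ Nat.card M)
    (hj : ∀ d, IsPrimePow d → d ∣ Nat.card M → d % p ≠ 1) : M ≤ centralizer {x} :=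
  relIndex_eq_one.1 (by_contra fun e => by
    obtain ⟨r, hr, e⟩ := Nat.exists_prime_and_dvd e
    exact h.not_dvd_rel hM hr (fun j h0 => hj _ ((isPrimePow_nat_iff _).2 ⟨r, j, hr, h0, rfl⟩)) e)

namespace LM

variable {L M : Subgroup G} {S : Type u} [Group S] [Finite S] (h : LM p x L M S)
include h

theorem not_le (hx : Ctx p x) (hd : HasDeg G p) (hc : ∀ a b : S, a * b = b * a) :
    ¬ M ≤ centralizer {x} := fun e => by
  have := h.simple
  have h1 : p = Nat.card S := by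
    let _ : CommGroup S := { (inferInstance : Group S) with mul_comm := hc }
    exact (Nat.prime_dvd_prime_iff_eq hp.out IsSimpleGroup.prime_card).1 (h.dvd hx)
  have h2 : L ≤ centralizer {x} := (eq_of_le_of_card_ge inf_le_left (by
    rw [← h.card, ← h1]
    exact Nat.le_of_dvd Nat.card_pos ((hp.out.coprime_iff_not_dvd.2 h.cop).symm.mul_dvd_of_dvd_of_dvd
      (card_dvd_of_le (le_inf h.le e)) (hx.ord ▸ orderOf_dvd_natCard _
        ⟨h.mem, mem_centralizer_singleton_iff.2 rfl⟩)))).ge.trans inf_le_right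
  refine hx.not_normal hd ⟨fun u hu g => ?_⟩
  rw [← ((hx.isPElt hu).conj g).pPart_eq]
  exact hx.pPart_mem_zp (mem_centralizer_singleton_iff.1
    (h2 (h.nL.conj_mem _ (zpowers_le.2 h.mem hu) g))).symm

theorem comm_case (hx : Ctx p x) (hd : HasDeg G p) (hc : ∀ a b : S, a * b = b * a) {q k : ℕ}
    [hq : Fact q.Prime] (h1 : ∀ d, IsPrimePow d → d ∣ Nat.card G → d % p = 1 → d = q ^ k)
    (hk : ¬ q ^ (k + 1) ∣ Nat.card G) {m : ℕ} (h2 : q ∣ m) (h3 : m.Coprime p) (h4 : HasDeg G m) :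
    HasDeg G (m * p) := by
  have := h.nM
  have h5 : ∀ r j, r.Prime → 0 < j → r ^ j ∣ Nat.card M → r ^ j % p = 1 → r ^ j = q ^ k :=
    fun r j hr h0 e => h1 _ ((isPrimePow_nat_iff _).2 ⟨r, j, hr, h0, rfl⟩)
      (e.trans (card_subgroup_dvd_card M))
  have h6 : ∀ r, r.Prime → r ≠ q → ¬ r ∣ (centralizer {x}).relIndex M := fun r hr e =>
    hx.not_dvd_rel h.cop hr fun j h0 e1 e2 => e ((Nat.prime_dvd_prime_iff_eq hr hq.out).1
      (hr.dvd_of_dvd_pow (h5 r j hr h0 e1 e2 ▸ dvd_pow_self r h0.ne')))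
  obtain ⟨Q, q1, q2, q3, q4, q5, j, q6, q7, q8⟩ := hx.exists_syl h.cop q
  have h0 : 0 < j := Nat.pos_of_ne_zero (by
    rintro rfl
    refine h.not_le hx hd hc (relIndex_eq_one.1 (by_contra fun e => ?_))
    obtain ⟨r, hr, e⟩ := Nat.exists_prime_and_dvd e
    obtain rfl : r = q := by_contra fun e' => h6 r hr e' e
    exact q4 (e.trans (relIndex_dvd_of_le_left M (relIndex_eq_one.1 q6))))
  rw [h5 q j hq.out h0 (q7.trans (card_dvd_of_le q1)) q8] at q6 q7
  have h7 : Q ⊓ centralizer {x} = ⊥ := by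
    refine (q2.to_inf_left (K := centralizer {x})).card_eq_or_dvd.elim card_eq_one.1 fun e => ?_
    have h4 := card_mul_rel (inf_le_left : Q ⊓ centralizer {x} ≤ Q)
    rw [inf_relIndex_left, q6] at h4
    exact absurd ((pow_succ' q k ▸ h4 ▸ mul_dvd_mul_right e _ : q ^ (k + 1) ∣ Nat.card Q).trans
      (card_subgroup_dvd_card Q)) hk
  have h8 : x ∈ (normalizer (Q : Set G)).normalCore := fun g => by
    have e : g⁻¹ ∈ ((M ⊔ normalizer (Q : Set G) : Subgroup G) : Set G) := by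
      rw [sup_comm, q5]; trivial
    rw [normal_mul] at e
    obtain ⟨a, ha, n, hn, e⟩ := e
    obtain ⟨b, hb, c, hc, rfl⟩ := H7.exists_mul_of_coprime_relIndex (A := Q)
      (B := centralizer {x} ⊓ M) q1 inf_le_right (Nat.coprime_of_dvd fun r hr e1 e2 => by
        rw [inf_relIndex_right] at e2
        obtain rfl : r = q := by_contra fun e' => h6 r hr e' e2
        exact q4 e1) ha
    have e' : g * x * g⁻¹ = (c * n)⁻¹ * (b⁻¹ * (x * b)) * (c * n) := by
      rw [← inv_inv g, ← e]; group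
    rw [e', ← mem_centralizer_singleton_iff.1 hb.1, inv_mul_cancel_left]
    exact mul_mem (mul_mem (inv_mem (mul_mem (le_normalizer hc) hn)) q3)
      (mul_mem (le_normalizer hc) hn)
  have : Q.Normal := normalizer_eq_top_iff.1 (by
    rw [← q5, left_eq_sup]
    exact h.le.trans ((h.min _ inferInstance (hx.ord ▸ orderOf_dvd_natCard _ h8)).trans
      (normalCore_le _)))
  obtain ⟨χ, hχ⟩ := h4
  refine ⟨χ, h3.mul_dvd_of_dvd_of_dvd hχ (hx.dvd_of_van fun u hu u1 => H9.FT.eq_zero_of_fpf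
    (normalIn_top Q) (irr_top.2 χ.2) (fun e => hk ?_) fun a ha c => mem_bot.1 (h7 ▸ ⟨ha,
      mem_centralizer_singleton_iff.2 ((hx.comm_iff hu u1).1 c.symm).symm⟩))⟩
  obtain ⟨ψ, hψ, e⟩ := exists_irr_quotient Q χ.2 e
  rw [← Q.index_mul_card, pow_succ']
  refine mul_dvd_mul (h2.trans (hχ.trans ?_)) q7
  rw [← dg_of (χ := ⟨ψ, hψ⟩) ((e 1).trans (dg_eq χ))]
  exact dg_dvd _

end LM

end Cfsg.Agent.H2.D1
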