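import Cfsg.Agent.H2.D1Non2
import Cfsg.Agent.H3.ClassSize2

/-! Groups of order `360` with a composition factor of order `60`. -/

set_option autoImplicit false

namespace Cfsg.Agent.H2.D1

open Cfsg Cfsg.Agent.H3 Finset Subgroup MulAction
open Cfsg.Agent.H9.FT (irr deg Ker dot irrK)

universe u

variable {G : Type u} [Group G] [Finite G]

theorem pp_check {n p e : ℕ} (h : 0 < n ∧ n < 6000 ∧ ∀ r ∈ Nat.divisors n, r ≠ 1 →
    (∀ s ∈ [2, 3, 5, 7], s ∣ r → s = r) → ∀ j ∈ range 13, r ^ (j + 1) ∣ n → r ^ (j + 1) % p = 1 →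
      r ^ (j + 1) = e) (d : ℕ) (h1 : IsPrimePow d) (h2 : d ∣ n) (h3 : d % p = 1) : d = e := by
  obtain ⟨r, j, hr, h0, rfl⟩ := (isPrimePow_nat_iff _).1 h1
  obtain ⟨j, rfl⟩ := Nat.exists_eq_succ_of_ne_zero h0.ne'
  refine h.2.2 r (Nat.mem_divisors.2 ⟨(dvd_pow_self r h0.ne').trans h2, h.1.ne'⟩) hr.ne_one
    (fun s hs e => ((Nat.dvd_prime hr).1 e).resolve_left (by rintro rfl; simp at hs)) j
    (mem_range.2 (lt_of_not_ge fun e => ?_)) h2 h3
  have := (Nat.pow_le_pow_right two_pos (show 13 ≤ j + 1 by omega)).trans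
    ((Nat.pow_le_pow_left hr.two_le _).trans (Nat.le_of_dvd h.1 h2))
  omega

theorem prime_dvd_card {α : Type*} [MulAction G α] {p : ℕ} (hp : p.Prime) {g : G}
    (hg : orderOf g = p) (X : Finset α) (h1 : ∀ a ∈ X, g • a ∈ X) (h2 : ∀ a ∈ X, g • a ≠ a) :
    p ∣ #X := by
  refine dvd_card_of_orbits (H := zpowers g) X (fun u a ha => ?_) fun a ha => ?_
  · obtain ⟨u, hu⟩ := u
    obtain ⟨k, rfl⟩ := (Submonoid.mem_powers_iff _ _).1 (mem_powers_iff_mem_zpowers.2 hu)
    change g ^ k • a ∈ X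
    clear hu
    induction k with
    | zero => simpa
    | succ k ih => rw [pow_succ', mul_smul]; exact h1 _ ih
  · have := (stabilizer (zpowers g) a).index_dvd_card
    rw [Nat.card_zpowers, hg, Nat.dvd_prime hp] at this
    refine (this.resolve_left fun e => h2 a ha ?_).symm.dvd
    exact (index_eq_one.1 e ▸ mem_top _ : (⟨g, mem_zpowers g⟩ : zpowers g) ∈ stabilizer _ a)

theorem LM.exists_three {x : G} {L M : Subgroup G} {S : Type u} [Group S] (h : LM 5 x L M S)
    (hx : Ctx 5 x) (hd : HasDeg G 5) (hn : Nat.card G = 360) (hS : Nat.card S = 60) :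
    ∃ k : G, orderOf k = 3 ∧ Commute x k ∧ (zpowers k).Normal := by
  classical
  have := h.nM
  have := h.nL
  have := Fintype.ofFinite (Sylow 5 G)
  have h1 : L.index * Nat.card M = 6 := by
    have := L.index_mul_card
    rw [← h.card, hS, hn, ← mul_assoc] at this
    omega
  have h2 : M ≤ hx.K := fun g hg => hx.mem_K.2 ⟨(mem_centralizer_singleton_iff.1 (hx.le_cent h.cop
    (fun d d1 d2 d3 => by
      rw [pp_check (n := 6) (p := 5) (e := 0) (by decide +kernel) d d1
        (d2.trans (Dvd.intro_left _ h1)) d3] at d3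
      omega) hg)).symm, (isPReg_iff_not_dvd (by norm_num)).2 fun e =>
        h.cop (e.trans (orderOf_dvd_natCard _ hg))⟩
  have h3 := hx.card_eq
  have h4 := card_subgroup_dvd_card hx.H
  rw [Nat.card_eq_fintype_card (α := (ZMod 5)ˣ), ZMod.card_units] at h4
  have h5 := hx.syl.card_eq_index_normalizer
  have h6 : L.index ∣ Nat.card (normalizer (hx.syl : Set G)) := by
    rw [← relIndex_top_right, ← hx.syl.normalizer_sup_eq_top' (zpowers_le.2 h.mem),
      relIndex_sup_right]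
    exact relIndex_dvd_card _ _
  have h7 := (normalizer (hx.syl : Set G)).index_mul_card
  have h8 : Nat.card (Sylow 5 G) ≠ 1 := fun e =>
    hx.not_normal hd (normalizer_eq_top_iff.1 (index_eq_one.1 (h5.symm.trans e)))
  rw [← h5, hn] at h7
  rw [hn] at h3
  have h9 : Nat.card (Sylow 5 G) = 6 := by
    refine ((by decide +kernel : ∀ m ∈ Nat.divisors 360, m % 5 = 1 → m ≠ 1 → m = 36 ∨ m = 6) _
      (Nat.mem_divisors.2 ⟨Dvd.intro _ h7, by norm_num⟩) (card_sylow_modEq_one 5 G) h8).resolve_left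
      fun e => ?_
    rw [e] at h3 h7
    have e1 : Nat.card M ∣ 2 := (card_dvd_of_le h2).trans (Dvd.intro_left (Nat.card hx.H) (by
      rw [mul_assoc] at h3; omega))
    rw [show Nat.card (normalizer (hx.syl : Set G)) = 10 by omega] at h6
    rcases (Nat.dvd_prime Nat.prime_two).1 e1 with e | e <;> rw [e] at h1
    exacts [by rw [show L.index = 6 by omega] at h6; omega,
      by rw [show L.index = 3 by omega] at h6; omega]
  obtain ⟨k, k1, hk⟩ := exists_orderOf_eq_mem Nat.prime_three (H := hx.K) (by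
    rw [h9, mul_assoc] at h3
    exact ((by decide : Nat.Coprime 3 4).coprime_dvd_right h4).dvd_of_dvd_mul_left ⟨4, by omega⟩)
  have c := (hx.mem_K.1 k1).1
  have hfix : ∀ Q : Sylow 5 G, x • Q = Q → Q = hx.syl := fun Q e => Sylow.ext (eq_of_le_of_card_ge
    (zpowers_le.2 (mem_syl Q (hx.isPElt (mem_zpowers x)) (Sylow.smul_eq_iff_mem_normalizer.1 e)))
    (Nat.card_congr (Q.equiv hx.syl).toEquiv).le).symm
  have hk1 : ∀ Q : Sylow 5 G, k • Q = Q := by
    let F : Finset (Sylow 5 G) := {Q | k • Q = Q}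
    have f1 : hx.syl ∈ F := mem_filter.2 ⟨mem_univ _, Sylow.smul_eq_iff_mem_normalizer.2
      (mem_normalizer_fintype (by
        rintro _ ⟨i, rfl⟩
        rw [← (c.zpow_left i).eq, mul_inv_cancel_right]
        exact ⟨i, rfl⟩))⟩
    have f2 := prime_dvd_card Nat.prime_three hk Fᶜ (fun Q hQ => by simpa [F] using hQ)
      fun Q hQ => by simpa [F] using hQ
    have f3 := prime_dvd_card Nat.prime_five hx.ord (F.erase hx.syl) (fun Q hQ => by
      simp only [F, mem_erase, mem_filter, mem_univ, true_and] at hQ ⊢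
      refine ⟨fun e => hQ.1 (smul_left_cancel x (e.trans ?_)), by
        rw [smul_smul, ← c.eq, mul_smul, hQ.2]⟩
      exact (Sylow.smul_eq_iff_mem_normalizer.2 (le_normalizer (mem_zpowers x))).symm)
      fun Q hQ e => (mem_erase.1 hQ).1 (hfix Q e)
    have f4 := card_pos.2 ⟨_, f1⟩
    have f5 := card_le_univ F
    rw [card_erase_of_mem f1] at f3
    rw [card_compl] at f2
    rw [← Nat.card_eq_fintype_card, h9] at f2 f5
    have f6 : F = univ := eq_univ_of_card F (by rw [← Nat.card_eq_fintype_card, h9]; omega)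
    exact fun Q => (mem_filter.1 (f6 ▸ mem_univ Q : Q ∈ F)).2
  let K := (toPermHom G (Sylow 5 G)).ker
  have k2 : k ∈ K := Equiv.ext hk1
  have k3 : Nat.card K ∣ 6 := by
    rw [← h1, mul_comm, ← card_mul_rel (inf_le_left : K ⊓ L ≤ K), inf_relIndex_left]
    refine mul_dvd_mul (card_dvd_of_le (h.max _ inferInstance inf_le_right fun e => h8 ?_))
      (relIndex_dvd_index_of_normal _ _)
    exact Nat.card_eq_one_iff_exists.2 ⟨hx.syl, fun Q => hfix Q
      (Equiv.congr_fun (h.min _ inferInstance e h.mem).1 Q)⟩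
  have k4 := card_mul_rel (zpowers_le.2 k2)
  rw [Nat.card_zpowers, hk] at k4
  have k5 : ∀ u ∈ K, u * u ∈ zpowers k := fun u hu => by
    rcases (Nat.dvd_prime Nat.prime_two).1 (Nat.dvd_of_mul_dvd_mul_left three_pos (k4 ▸ k3))
      with e | e
    exacts [relIndex_eq_one.1 e (mul_mem hu hu), mul_self_mem_of_index_two e ⟨u, hu⟩]
  refine ⟨k, hk, c, ⟨?_⟩⟩
  rintro _ ⟨i, rfl⟩ g
  rw [← conj_zpow]
  refine zpow_mem (IsPReg.mem_of_sq ?_ (k5 _ ((inferInstance : K.Normal).conj_mem _ k2 g))) i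
  rw [IsPReg, ← orderOf_eq_of_isConj (isConj_iff.2 ⟨g, rfl⟩), hk]
  decide

end Cfsg.Agent.H2.D1
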