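import Cfsg.Agent.H2.D1Non3
import Cfsg.Agent.H7.BG.PGroup

/-! Groups of order `360` with a composition factor of order `60`: degrees. -/

set_option autoImplicit false

namespace Cfsg.Agent.H2.D1

open Cfsg Cfsg.Agent.H3 Finset Subgroup MulAction
open Cfsg.Agent.H9.FT hiding one

universe u

variable {G : Type u} [Group G] [Finite G]

theorem central_val {ψ : G → ℂ} (hψ : ψ ∈ irr (⊤ : Subgroup G)) {k : G} (hc : ∀ g, Commute g k) :
    ∃ ω : ℂ, ω ^ orderOf k = 1 ∧ ∀ i : ℕ, ψ (k ^ i) = ψ 1 * ω ^ i := by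
  have : (zpowers k).Normal := ⟨by
    rintro _ ⟨i, rfl⟩ g
    rw [((hc g).zpow_right i).eq, mul_inv_cancel_right]
    exact ⟨i, rfl⟩⟩
  obtain ⟨θ, hθ, e⟩ := exists_irr_under (K := zpowers k) le_top (irr_Ch hψ) (irr_ne_zero hψ)
  have h1 := res_eq_of_invariant (normalIn_top _) hψ hθ (inertia_eq_self_iff.2 fun g _ =>
    cj_of_centralizes (CF_supp (irr_CF hθ)) (by
      rintro _ ⟨i, rfl⟩
      exact ((hc g).zpow_right i).symm.eq)) e
  have h2 := irr_lin_of_comm inferInstance hθ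
  refine ⟨θ k, lin_pow_orderOf (irr_Ch hθ) h2 (mem_zpowers k), fun i => ?_⟩
  rw [← res_of_mem ψ (pow_mem (mem_zpowers k) i), ← res_one_apply (zpowers k) ψ, h1, Pi.smul_apply,
    Pi.smul_apply, h2, lin_pow (irr_Ch hθ) h2 (mem_zpowers k), smul_eq_mul, smul_eq_mul, mul_one]

theorem exists_lin {T : Subgroup G} {k : G} (hk : orderOf k = 3) (h1 : k ∈ T)
    (h2 : ∀ g ∈ T, Commute g k) (h3 : ¬ 27 ∣ Nat.card G) :
    ∃ μ ∈ irr T, μ 1 = 1 ∧ μ k ≠ 1 := by
  have : Fact (Nat.Prime 3) := ⟨Nat.prime_three⟩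
  by_contra! e
  have h4 : k ∈ ⁅T, T⁆ := mem_of_irrK_eq (normalIn_der T) fun χ hχ => by
      rw [irrK_lin le_rfl hχ, e χ (irrK_subset _ _ hχ) (irrK_lin le_rfl hχ)]
  obtain ⟨P⟩ : Nonempty (Sylow 3 T) := inferInstance
  obtain ⟨n, hn⟩ := P.2.exists_card_eq
  have h5 : IsMulCommutative P := H7.abel_of_card_dvd_sq (p := 3) (hn ▸ pow_dvd_pow 3
    (le_of_not_gt fun e => h3 ((pow_dvd_pow 3 e).trans (hn ▸ (card_subgroup_dvd_card _).trans
      (card_subgroup_dvd_card T)))))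
  have h6 := pow_index_eq_one_of_comm (H := P) (z := ⟨k, h1⟩) (fun a ha b hb =>
    congrArg Subtype.val (h5.is_comm.comm (⟨a, ha⟩ : P) ⟨b, hb⟩))
    (mem_center_iff.2 fun g => Subtype.ext (h2 g g.2))
    ((mem_map_iff_mem (subtype_injective T)).1 (T.map_subtype_commutator ▸ h4))
  exact P.not_dvd_index (hk.symm.dvd.trans (orderOf_dvd_of_pow_eq_one (congrArg Subtype.val h6)))

theorem LM.not_sixty {x : G} {L M : Subgroup G} {S : Type u} [Group S] [Finite S] [NS S]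
    (h : LM 5 x L M S) (hx : Ctx 5 x) (hn : Nat.card G = 360) (hS : Nat.card S = 60)
    (h10 : HasDeg G 10) (h6 : ¬ HasDeg G 6) : False := by
  classical
  have := Fintype.ofFinite G
  have := h.nL
  obtain ⟨k, hk, c, hN⟩ := h.exists_three hx (h10.imp fun _ e => dvd_trans (by decide) e) hn hS
  let T := centralizer (zpowers k : Set G)
  have hT : ∀ g, g ∈ T ↔ Commute g k := fun g => ⟨fun e => (e k (mem_zpowers k)).symm, fun e => by
    rintro _ ⟨i, rfl⟩
    exact (e.zpow_right i).symm.eq⟩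
  have kT := (hT k).2 (Commute.refl k)
  have LT : L ≤ T := h.min T inferInstance (hx.ord ▸ orderOf_dvd_natCard _ ((hT x).2 c))
  obtain ⟨μ, m1, m2, m3⟩ := exists_lin hk kT (fun g => (hT g).1) (by rw [hn]; decide)
  have k3 : k ^ 3 = 1 := hk ▸ pow_orderOf_eq_one k
  have h3 : HasDeg S 3 := (sh60 hS).of_mem (by decide)
  by_cases e : ∀ g, Commute g k
  · rw [show T = ⊤ from eq_top_iff.2 fun g _ => (hT g).2 (e g)] at m1
    have m4 : μ k ^ 3 = 1 := hk ▸ lin_pow_orderOf (irr_Ch m1) m2 (mem_top k)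
    have m5 : μ k ^ 2 + μ k + 1 = 0 := (mul_eq_zero.1 (show (μ k - 1) * _ = 0 by
      linear_combination m4)).resolve_left (sub_ne_zero.2 m3)
    have key : ∀ ψ ∈ irr (⊤ : Subgroup G), deg ψ ∈ (irrK ⊤ (zpowers k)).image deg := fun ψ hψ => by
      obtain ⟨ω, w1, w2⟩ := central_val hψ e
      have w3 : ∀ φ ∈ irr (⊤ : Subgroup G), ∀ j : ℕ, φ = ψ * μ ^ j → ω * μ k ^ j = 1 →
          deg ψ ∈ (irrK ⊤ (zpowers k)).image deg := fun φ f1 j f2 f3 => by
        refine mem_image.2 ⟨φ, mem_irrK.2 ⟨f1, fun u hu => ?_⟩, deg_congr (by simp [f2, m2])⟩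
        obtain ⟨i, rfl⟩ := (Submonoid.mem_powers_iff _ _).1 (mem_powers_iff_mem_zpowers.2 hu)
        simp only [f2, Pi.mul_apply, Pi.pow_apply, w2, m2, lin_pow (irr_Ch m1) m2 (mem_top k)]
        rw [← pow_mul, mul_comm i, pow_mul, mul_assoc, ← mul_pow, f3, one_pow, one_pow]
      have m6 := irr_mul_lin hψ (irr_Ch m1) m2
      rw [hk] at w1
      rcases mul_eq_zero.1 (show (ω * μ k ^ 0 - 1) * ((ω * μ k ^ 1 - 1) * (ω * μ k ^ 2 - 1)) = 0 by
        linear_combination w1 + (ω - 1) * ω ^ 2 * m4 - (ω - 1) * ω * m5) with e | e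
      · exact w3 _ hψ 0 (by simp) (sub_eq_zero.1 e)
      rcases mul_eq_zero.1 e with e | e
      · exact w3 _ m6 1 (by simp) (sub_eq_zero.1 e)
      · exact w3 _ (irr_mul_lin m6 (irr_Ch m1) m2) 2 (by rw [sq, mul_assoc]) (sub_eq_zero.1 e)
    have h7 := (sum_image_le_of_nonneg (g := deg) (f := fun d => d ^ 2)
      fun _ _ => Nat.zero_le _).trans_eq (sum_irrK_deg_sq (normalIn_top (zpowers k)))
    have h8 := (zpowers k).index_mul_card
    rw [Nat.card_zpowers, hk, hn, ← relIndex_top_right] at h8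
    obtain ⟨a, a1, a2⟩ := hasDeg_iff.1 (h.hasDeg h3)
    obtain ⟨b, b1, b2⟩ := hasDeg_iff.1 (h.hasDeg (m := 4) ((sh60 hS).of_mem (by decide)))
    obtain ⟨d, d1, d2⟩ := hasDeg_iff.1 h10
    have a3 : ¬ 6 ∣ deg a := fun e => h6 (hasDeg_iff.2 ⟨a, a1, e⟩)
    have h9 := (sum_le_sum_of_subset (s := {1, deg a, deg b, deg d}) (by
      simp only [insert_subset_iff, singleton_subset_iff]
      exact ⟨deg_one (⊤ : Subgroup G) ▸ key _ (one_irr ⊤), key a a1, key b b1, key d d1⟩)).trans h7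
    have a4 := Nat.le_of_dvd (deg_irr_pos a1) a2
    have b4 := Nat.le_of_dvd (deg_irr_pos b1) b2
    have d4 := Nat.le_of_dvd (deg_irr_pos d1) d2
    have d5 : deg d = 10 := by
      have := (single_le_sum (fun _ _ => Nat.zero_le _) (key d d1)).trans h7
      have : deg d < 11 := by nlinarith
      omega
    rw [sum_insert (by simp; omega), sum_insert (by simp; omega), sum_pair (by omega)] at h9
    nlinarith
  · push Not at e
    obtain ⟨g, hg⟩ := e
    have e1 : g * k * g⁻¹ = k ^ 2 := by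
      obtain ⟨i, hi, e⟩ := mem_image.1 (mem_zpowers_iff_mem_range_orderOf.1
        (hN.conj_mem _ (mem_zpowers k) g))
      rw [hk, mem_range] at hi
      interval_cases i
      · rw [pow_zero, eq_comm, conj_eq_one_iff] at e
        simp [e] at hk
      · exact absurd (mul_inv_eq_iff_eq_mul.1 (e.symm.trans (pow_one k))) hg
      · exact e.symm
    obtain ⟨θ, t1, t2⟩ := h.lift h3
    obtain ⟨ψ, p1, -, p2⟩ := exists_over (L := T) ⟨LT, by rw [normalizer_eq_top]; exact le_top⟩ t1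
    obtain ⟨φ, f1, f2, f3⟩ : ∃ φ ∈ irr T, 3 ∣ deg φ ∧ φ k ≠ φ 1 := by
      by_cases e : ψ k = ψ 1
      · refine ⟨ψ * μ, irr_mul_lin p1 (irr_Ch m1) m2, ?_, ?_⟩
        · rw [deg_congr (ψ := ψ) (by rw [Pi.mul_apply, m2, mul_one])]
          exact t2.trans p2
        · rw [Pi.mul_apply, Pi.mul_apply, e, m2]
          exact fun e => m3 (mul_left_cancel₀ (irr_one_ne p1) e)
      · exact ⟨ψ, p1, t2.trans p2, e⟩
    obtain ⟨χ, c1, c2, c3⟩ := exists_over (normalIn_top T) f1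
    have c4 := sum_normal_mul' (normalIn_top (zpowers k)) c1 (mem_top 1) fun e =>
      f3 (Ker.of_under le_top (irr_Ch c1) f1 c2 (zpowers_le.2 kT) e k (mem_zpowers k))
    simp only [mul_one] at c4
    rw [sum_fs_subgroup, sum_zpowers, hk] at c4
    simp only [sum_range_succ, range_zero, sum_empty, pow_zero, pow_one, ← e1, zero_add,
      CF_top_conj (irr_CF c1), deg_eq (irr_Ch c1)] at c4
    refine h6 (hasDeg_iff.2 ⟨χ, c1, (by decide : Nat.Coprime 2 3).mul_dvd_of_dvd_of_dvd ?_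
      (f2.trans c3)⟩)
    refine Int.natCast_dvd_natCast.1 (dvd_of_mem_radI Nat.prime_two ?_)
    rw [show (((deg χ : ℕ) : ℤ) : ℂ) = (2 : ℕ) * -χ k by push_cast; linear_combination c4]
    exact radI_mul (natCast_mem_radI 2) (ZI_isIntegral (irr_ZI c1) k).neg

end Cfsg.Agent.H2.D1
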