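import Cfsg.Agent.H2.D1Non4

/-! Small simple groups are determined by their order and character degree graph. -/

set_option autoImplicit false

namespace Cfsg.Agent.H2.D1

open Cfsg Cfsg.Agent.H3 Finset Subgroup MulAction

universe u v

variable {G : Type u} [Group G] [Finite G]

theorem uniq {S : Type v} [Group S] [Finite S] [NS G] [NS S] (h : Nat.card G = Nat.card S)
    (h1 : Nat.card G < 6000) : Nonempty (G ≃* S) := by
  by_cases e1 : Nat.card G = 60
  · exact ⟨(H4.Small.alt5_of_simple e1).some.trans (H4.Small.alt5_of_simple (h ▸ e1)).some.symm⟩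
  by_cases e2 : Nat.card G = 2520
  · exact ⟨(iso_A7 e2).some.trans (iso_A7 (h ▸ e2)).some.symm⟩
  by_cases e3 : Nat.card G = 5616
  · exact ⟨(iso_L33' e3).some.trans (iso_L33' (h ▸ e3)).some.symm⟩
  refine (isL2 h1 e1 e2 e3).iso (isL2 (h ▸ h1) (h ▸ e1) (h ▸ e2) (h ▸ e3)) h ?_ h1
  have := card_mem_surv h1
  simp only [surv, List.mem_cons, List.not_mem_nil, or_false] at this
  omega

theorem not_2520 {x y : G} {L M L' M' : Subgroup G} {S S' : Type u} [Group S] [Group S']
    (h : LM 5 x L M S) (h' : LM 7 y L' M' S') (hn : Nat.card G = 2520)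
    (h1 : Nat.card S = 60 ∨ Nat.card S = 360) (h2 : Nat.card S' = 168 ∨ Nat.card S' = 504) :
    False := by
  have := h.nL
  have := h'.nL
  have a1 := h.card_dvd
  have b1 := h'.card_dvd
  have a2 : 60 ∣ Nat.card S := by omega
  have b2 : 168 ∣ Nat.card S' := by omega
  rw [hn] at a1 b1
  have a3 : Nat.card M ∣ 42 :=
    Nat.dvd_of_mul_dvd_mul_right (by norm_num) ((mul_dvd_mul_left _ a2).trans a1)
  have b3 : Nat.card M' ∣ 15 :=
    Nat.dvd_of_mul_dvd_mul_right (by norm_num) ((mul_dvd_mul_left _ b2).trans b1)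
  have a4 : 60 ∣ Nat.card L := h.card ▸ a2.mul_left _
  have b4 : 168 ∣ Nat.card L' := h'.card ▸ b2.mul_left _
  have a5 : ¬ 7 ∣ Nat.card L := fun e => by
    rw [← h.card, (by norm_num : Nat.Prime 7).dvd_mul] at e
    exact absurd (b4.trans ((card_dvd_of_le (h'.min M h.nM (e.resolve_right (by omega)))).trans a3))
      (by decide)
  have b5 : ¬ 5 ∣ Nat.card L' := fun e => by
    rw [← h'.card, Nat.prime_five.dvd_mul] at e
    exact absurd (a4.trans ((card_dvd_of_le (h.min M' h'.nM (e.resolve_right (by omega)))).trans b3))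
      (by decide)
  have c1 : Nat.card (L ⊓ L' : Subgroup G) ∣ 3 := Nat.dvd_gcd
    ((card_dvd_of_le (h.max _ inferInstance inf_le_left fun e =>
      b5 (e.trans (card_dvd_of_le inf_le_right)))).trans a3)
    ((card_dvd_of_le (h'.max _ inferInstance inf_le_right fun e =>
      a5 (e.trans (card_dvd_of_le inf_le_left)))).trans b3)
  have c2 : L.index ∣ 42 := Nat.dvd_of_mul_dvd_mul_right (by norm_num)
    ((mul_dvd_mul_left _ a4).trans (L.index_mul_card.trans hn).dvd)
  rw [← card_mul_rel (inf_le_right : L ⊓ L' ≤ L'), inf_relIndex_right] at b4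
  exact absurd (b4.trans (mul_dvd_mul c1 ((relIndex_dvd_index_of_normal _ _).trans c2))) (by decide)

variable {p : ℕ} [hp : Fact p.Prime]

/-- The composition factor of order divisible by `p` is not abelian. -/
def NC (G : Type u) [Group G] (p : ℕ) : Prop := ∀ (x : G) (L M : Subgroup G) (S : Type u) [Group S]
  [Finite S], Ctx p x → LM p x L M S → ¬ ∀ a b : S, a * b = b * a

theorem nc_of_none {n : ℕ} (hn : Nat.card G = n) (hd : HasDeg G p) (h : 0 < n ∧ n < 6000 ∧
    ∀ r ∈ Nat.divisors n, r ≠ 1 → (∀ s ∈ [2, 3, 5, 7], s ∣ r → s = r) → ∀ j ∈ range 13,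
      r ^ (j + 1) ∣ n → r ^ (j + 1) % p = 1 → r ^ (j + 1) = 0) : NC G p :=
  fun _ _ M _ _ _ hx hL hc => by
    have := hL.nM
    refine hL.not_le hx hd hc (hx.le_cent hL.cop fun d d1 d2 d3 => ?_)
    rw [pp_check h d d1 (hn ▸ d2.trans (card_subgroup_dvd_card M)) d3] at d3
    simp at d3

theorem nc_of_deg {n : ℕ} (hn : Nat.card G = n) (hd : HasDeg G p) (q k : ℕ) {m : ℕ}
    (hq : q.Prime) (h : (0 < n ∧ n < 6000 ∧
    ∀ r ∈ Nat.divisors n, r ≠ 1 → (∀ s ∈ [2, 3, 5, 7], s ∣ r → s = r) → ∀ j ∈ range 13,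
      r ^ (j + 1) ∣ n → r ^ (j + 1) % p = 1 → r ^ (j + 1) = q ^ k) ∧ ¬ q ^ (k + 1) ∣ n ∧ q ∣ m ∧
      m.gcd p = 1) (h1 : HasDeg G m) (h2 : ¬ HasDeg G (m * p)) : NC G p :=
  fun _ _ _ _ _ _ hx hL hc => by
    have := Fact.mk hq
    exact h2 (hL.comm_case hx hd hc (hn ▸ pp_check h.1) (hn ▸ h.2.1) h.2.2.1 h.2.2.2 h1)

theorem NC.exists {n : ℕ} (hn : Nat.card G = n) (h : NC G p) {l : List ℕ}
    (h0 : n < 6000 ∧ p ≠ 2 ∧ p ∣ n ∧ ¬ p ^ 2 ∣ n ∧
      ∀ s ∈ surv, s ∣ n → p ∣ s → s ≠ 1344 → s ≠ n → s ∈ l) (hG : ¬ NS G) :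
    ∃ (x : G) (L M : Subgroup G) (S : Type u) (_ : Group S) (_ : Finite S) (_ : NS S),
      Ctx p x ∧ LM p x L M S ∧ Nat.card S ∈ l := by
  obtain ⟨x, hx⟩ := exists_ctx (G := G) h0.2.1 (hn ▸ h0.2.2.1) (hn ▸ h0.2.2.2.1)
  obtain ⟨L, M, S, _, _, hL⟩ := hx.exists_LM
  have : NS S := { hL.simple with nc := by simpa using h x L M S hx hL }
  have h1 : Nat.card S ∣ n := (Dvd.intro_left _ rfl).trans (hn ▸ hL.card_dvd)
  refine ⟨x, L, M, S, _, ‹_›, this, hx, hL, h0.2.2.2.2 _ (card_mem_surv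
    ((Nat.le_of_dvd (hn ▸ Nat.card_pos) h1).trans_lt h0.1)) h1 (hL.dvd hx) ne_1344 fun e => ?_⟩
  obtain ⟨f⟩ := hL.ns_of_card (e.trans hn.symm)
  obtain ⟨a, b, hab⟩ := NS.nc (G := S)
  exact hG { f.isSimpleGroup with
    nc := ⟨f.symm a, f.symm b, fun e => hab (by simpa using congrArg f e)⟩ }

theorem NC.ns {n : ℕ} (hn : Nat.card G = n) (h : NC G p)
    (h0 : n < 6000 ∧ p ≠ 2 ∧ p ∣ n ∧ ¬ p ^ 2 ∣ n ∧
      ∀ s ∈ surv, s ∣ n → p ∣ s → s ≠ 1344 → s ≠ n → s ∈ ([] : List ℕ)) : NS G := by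
  by_contra hG
  obtain ⟨_, _, _, _, _, _, _, -, -, e⟩ := h.exists hn h0 hG
  simp at e

theorem ns_of_deg {S : Type v} [Group S] [Finite S] [NS S] (h : Nat.card G = Nat.card S)
    (h1 : Nat.card S < 6000) (hP : ∀ p, p.Prime → HasDeg S p → HasDeg G p)
    (hE : ∀ p q, p.Prime → q.Prime → p ≠ q → (HasDeg G (p * q) ↔ HasDeg S (p * q))) : NS G := by
  have p7 : Nat.Prime 7 := by norm_num
  have h2 := card_mem_surv h1
  simp only [surv, List.mem_cons, List.not_mem_nil, or_false] at h2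
  have sq : ∀ {m : ℕ}, Nat.card S < m ^ 2 → ¬ HasDeg G m := fun e e' => (h ▸ e'.sq_le).not_gt e
  rcases h2 with e | e | e | e | e | e | e | e | e | e | e | e <;> have hn := h.trans e
  · exact (nc_of_none hn (hP 5 Fact.out ((sh60 e).hasDeg e (by decide)))
      (by decide +kernel)).ns hn (by decide +kernel)
  · exact (nc_of_deg hn (hP 7 Fact.out ((sh168 e).hasDeg e (by decide))) 2 3 Nat.prime_two
      (by decide +kernel) (hP 2 Nat.prime_two ((sh168 e).of_mem (by decide)))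
      (sq (by rw [e]; decide))).ns hn (by decide +kernel)
  · by_contra hG
    obtain ⟨x, L, M, T, _, _, _, hx, hL, e'⟩ := (nc_of_none hn (hP 5 Fact.out
      ((sh360 e).hasDeg e (by decide))) (by decide +kernel)).exists hn (l := [60])
      (by decide +kernel) hG
    exact hL.not_sixty hx hn (List.mem_singleton.1 e')
      ((hE 2 5 Nat.prime_two Nat.prime_five (by decide)).2 (hasDeg_360 e)) fun e' =>
      (sh360 e).not_hasDeg (by decide) (by decide) (by rw [e]; decide) (by decide)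
        ((hE 2 3 Nat.prime_two Nat.prime_three (by decide)).1 e')
  · by_contra hG
    obtain ⟨x, L, M, T, _, _, _, hx, hL, e'⟩ := (nc_of_deg hn (hP 7 Fact.out
      ((sh504 e).hasDeg e (by decide))) 2 3 Nat.prime_two (by decide +kernel)
      (hP 2 Nat.prime_two ((sh504 e).of_mem (by decide))) fun e' => not_hasDeg_504 e
        ((hE 2 7 Nat.prime_two p7 (by decide)).1 e')).exists hn (l := [168])
      (by decide +kernel) hG
    exact (sh504 e).not_hasDeg (by decide) (by decide) (by rw [e]; decide) (by decide)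
      ((hE 2 3 Nat.prime_two Nat.prime_three (by decide)).1
        (hL.hasDeg ((sh168 (List.mem_singleton.1 e')).of_mem (by decide))))
  · exact (nc_of_none hn (hP 11 Fact.out ((sh660 e).hasDeg e (by decide)))
      (by decide +kernel)).ns hn (by decide +kernel)
  · exact (nc_of_none hn (hP 13 Fact.out ((sh1092 e).hasDeg e (by decide)))
      (by decide +kernel)).ns hn (by decide +kernel)
  · exact absurd e ne_1344
  · exact (nc_of_none hn (hP 17 Fact.out ((sh2448 e).hasDeg e (by decide)))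
      (by decide +kernel)).ns hn (by decide +kernel)
  · by_contra hG
    obtain ⟨x, L, M, T, _, _, _, hx, hL, e'⟩ := (nc_of_none hn (hP 5 Fact.out
      ((sh2520' e).hasDeg e (by decide))) (by decide +kernel)).exists hn (l := [60, 360])
      (by decide +kernel) hG
    obtain ⟨y, L', M', T', _, _, _, hy, hL', e''⟩ := (nc_of_deg hn (hP 7 Fact.out
      ((sh2520 e).hasDeg e (by decide))) 2 3 Nat.prime_two (by decide +kernel)
      ((hE 2 5 Nat.prime_two Nat.prime_five (by decide)).2 (exists_a7 e).1)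
      (sq (by rw [e]; decide))).exists hn (l := [168, 504]) (by decide +kernel) hG
    exact not_2520 hL hL' hn (by simpa using e') (by simpa using e'')
  · exact (nc_of_none hn (hP 19 Fact.out ((sh3420 e).hasDeg e (by decide)))
      (by decide +kernel)).ns hn (by decide +kernel)
  · exact (nc_of_none hn (hP 17 Fact.out ((sh4080 e).hasDeg e (by decide)))
      (by decide +kernel)).ns hn (by decide +kernel)
  · exact (nc_of_deg hn (hP 13 Fact.out ((sh5616 e).hasDeg e (by decide))) 3 3 Nat.prime_three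
      (by decide +kernel) ((hE 2 3 Nat.prime_two Nat.prime_three (by decide)).2
        ((sh5616 e).of_mem (by decide))) (sq (by rw [e]; decide))).ns hn (by decide +kernel)

theorem hasDeg_iff_mem {m : ℕ} : (∃ d ∈ charDegrees G, m ∣ d) ↔ HasDeg G m :=
  ⟨fun ⟨_, ⟨χ, e⟩, h⟩ => ⟨χ, deg_dg χ ▸ (e ▸ h : m ∣ charDegree (χ : G → ℂ))⟩,
    fun ⟨χ, h⟩ => ⟨_, ⟨χ, deg_dg χ⟩, h⟩⟩

theorem iso_of_graph {S : Type v} [Group S] [Finite S] [IsSimpleGroup S] (hS : ¬ IsMulCommutative S)
    (hlt : Nat.card S < 6000) (hcard : Nat.card G = Nat.card S)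
    (h1 : degreePrimes G = degreePrimes S) (h2 : degreeGraph G = degreeGraph S) :
    Nonempty (G ≃* S) := by
  have : NS S := { nc := by_contra fun e => hS ⟨⟨by simpa using e⟩⟩ }
  have := ns_of_deg hcard hlt (fun p hp e => hasDeg_iff_mem.1
    (h1.ge (⟨hp, hasDeg_iff_mem.2 e⟩ : p ∈ degreePrimes S)).2) fun p q hp hq e => by
      have : (degreeGraph G).Adj p q ↔ (degreeGraph S).Adj p q := by rw [h2]
      simpa only [degreeGraph, hasDeg_iff_mem, hp, hq, e, ne_eq, not_false_eq_true, true_and]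
        using this
  exact uniq hcard (hcard ▸ hlt)

end Cfsg.Agent.H2.D1
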