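import Cfsg.Agent.H1.ElDef

set_option autoImplicit false

namespace Cfsg.Agent.H1.El

open MulAction

variable {G : Type*} [Group G] [Finite G]

theorem idx_orb {T : Type*} [MulAction G T] (a : T) :
    (stabilizer G a).index = Nat.card (orbit G a) := by
  rw [index_stabilizer, Nat.card_coe_set_eq]

/-- a `p`-group with an orbit of size at most `p` -/
theorem orbp {T : Type*} [MulAction G T] {p : ℕ} (hp : p.Prime) (hE : IsPGroup p G) (a : T)
    (ho : Nat.card (orbit G a) ≤ p) :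
    (stabilizer G a).Normal ∧ (∀ u : G, u ^ p • a = a) ∧ ∀ u v : G, (u * v) • a = (v * u) • a := by
  have := Fact.mk hp
  obtain ⟨n, hn⟩ := hE.index (stabilizer G a)
  have h1 : n ≤ 1 := by
    rw [← idx_orb, hn] at ho
    exact (Nat.pow_le_pow_iff_right hp.one_lt).1 (by simpa using ho)
  rcases Nat.le_one_iff_eq_zero_or_eq_one.1 h1 with rfl | rfl
  · have ht : stabilizer G a = ⊤ := Subgroup.index_eq_one.1 (by simpa using hn)
    have hf : ∀ u : G, u • a = a := fun u => mem_stabilizer_iff.1 (ht ▸ Subgroup.mem_top u)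
    exact ⟨ht ▸ inferInstance, fun u => hf _, fun u v => by rw [hf, hf]⟩
  · rw [pow_one] at hn
    obtain ⟨m, hm⟩ := IsPGroup.iff_card.1 hE
    have hd : p ∣ Nat.card G := hn ▸ Subgroup.index_dvd_card _
    have hm0 : m ≠ 0 := by
      rintro rfl
      rw [hm, pow_zero] at hd
      exact hp.one_lt.ne' (Nat.dvd_one.1 hd)
    have hN : (stabilizer G a).Normal :=
      Subgroup.normal_of_index_eq_minFac_card (by rw [hn, hm, hp.pow_minFac hm0])
    refine ⟨hN, fun u => ?_, fun u v => ?_⟩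
    · have := (stabilizer G a).pow_index_mem u
      rwa [hn] at this
    · have hc : IsCyclic (G ⧸ stabilizer G a) := isCyclic_of_prime_card (p := p) hn
      obtain ⟨g, hg⟩ := hc.exists_generator
      obtain ⟨i, hi⟩ := hg (u : G ⧸ stabilizer G a)
      obtain ⟨j, hj⟩ := hg (v : G ⧸ stabilizer G a)
      have : ((u * v : G) : G ⧸ stabilizer G a) = ((v * u : G) : G ⧸ stabilizer G a) := by
        rw [QuotientGroup.mk_mul, QuotientGroup.mk_mul, ← hi, ← hj]
        exact zpow_mul_comm g i j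
      have h2 := mem_stabilizer_iff.1 (QuotientGroup.eq.1 this)
      rw [mul_smul, inv_smul_eq_iff] at h2
      exact h2.symm

/-- EA -/
theorem ea {Ω : Type*} [MulAction G Ω] [FaithfulSMul G Ω] {p : ℕ} (hp : p.Prime) (E : Subgroup G)
    (hE : IsPGroup p E) (ho : ∀ a : Ω, Nat.card (MulAction.orbit E a) ≤ p) :
    (∀ u ∈ E, ∀ v ∈ E, u * v = v * u) ∧ ∀ u ∈ E, u ^ p = 1 := by
  refine ⟨fun u hu v hv => eq_of_smul_eq_smul (α := Ω) fun a => ?_,
    fun u hu => eq_of_smul_eq_smul (α := Ω) fun a => ?_⟩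
  · exact (orbp hp hE a (ho a)).2.2 ⟨u, hu⟩ ⟨v, hv⟩
  · rw [one_smul]
    exact (orbp hp hE a (ho a)).2.1 ⟨u, hu⟩

theorem mv_orb {T : Type*} [MulAction G T] {a b : T} (hN : (stabilizer G a).Normal)
    (hb : b ∈ orbit G a) {u : G} (hu : u • b = b) : u • a = a := by
  obtain ⟨d, rfl⟩ := hb
  have h1 : d⁻¹ * u * d ∈ stabilizer G a := by
    rw [mem_stabilizer_iff, mul_smul, mul_smul, inv_smul_eq_iff]
    exact hu
  simpa [mul_assoc] using hN.conj_mem _ h1 d

/-- LQ -/
theorem lq {T : Type*} [MulAction G T] [Fintype T] {q : ℕ} (hq : q.Prime) (q2 : q ≠ 2)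
    (K : Subgroup G) (O : Finset T) (hO : O.card = 2 * q) (inv : ∀ k ∈ K, ∀ a ∈ O, k • a ∈ O)
    (tr : ∀ a ∈ O, ∀ b ∈ O, ∃ k ∈ K, k • a = b) :
    ∃ u ∈ K, (∃ n, u ^ q ^ n = 1) ∧ (∀ a ∈ O, u • a ≠ a) ∧ ∀ a ∈ O, u ^ q • a = a := by
  classical
  have := Fact.mk hq
  have q3 : 3 ≤ q := by have := hq.two_le; omega
  obtain ⟨Q⟩ : Nonempty (Sylow q K) := inferInstance
  set D : Subgroup K := Q.1 with hD
  have hp : IsPGroup q D := Q.2
  have sub : ∀ a ∈ O, orbit D a ⊆ (O : Set T) := by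
    rintro a ha _ ⟨d, rfl⟩
    exact inv _ d.1.2 a ha
  have mv : ∀ a ∈ O, ∃ d : D, d • a ≠ a := by
    intro a ha
    by_contra hc
    push Not at hc
    have h1 : D ≤ stabilizer K a := fun d hd => hc ⟨d, hd⟩
    have h2 : orbit K a = (O : Set T) := by
      ext b
      constructor
      · rintro ⟨k, rfl⟩
        exact inv _ k.2 a ha
      · intro hb
        obtain ⟨k, hk, rfl⟩ := tr a ha b hb
        exact ⟨⟨k, hk⟩, rfl⟩
    have h3 : (stabilizer K a).index = 2 * q := by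
      rw [index_stabilizer, h2, Set.ncard_coe_finset, hO]
    exact Q.not_dvd_index ((Dvd.intro_left 2 h3.symm).trans (Subgroup.index_dvd_of_le h1))
  have cq : ∀ a ∈ O, (orbit D a).ncard = q := by
    intro a ha
    obtain ⟨n, hn⟩ := hp.index (stabilizer D a)
    have h1 : (orbit D a).ncard ≤ 2 * q := by
      rw [← hO, ← Set.ncard_coe_finset]
      exact Set.ncard_le_ncard (sub a ha)
    rw [← index_stabilizer, hn] at h1 ⊢
    have h0 : n ≠ 0 := by
      rintro rfl
      obtain ⟨d, hd⟩ := mv a ha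
      have ht : stabilizer D a = ⊤ := Subgroup.index_eq_one.1 (by simpa using hn)
      exact hd (mem_stabilizer_iff.1 (ht ▸ Subgroup.mem_top d))
    have h2 : n < 2 := by
      by_contra hc
      have : q ^ 2 ≤ q ^ n := Nat.pow_le_pow_right hq.pos (by omega)
      nlinarith
    obtain rfl : n = 1 := by omega
    exact pow_one q
  have op := fun a ha => orbp hq hp a (by rw [Nat.card_coe_set_eq, cq a ha])
  obtain ⟨a1, h1⟩ : O.Nonempty := Finset.card_pos.1 (by omega)
  have hd : ((O : Set T) \ orbit D a1).ncard = q := by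
    rw [Set.ncard_diff (sub a1 h1), Set.ncard_coe_finset, hO, cq a1 h1]
    omega
  obtain ⟨a2, h2, h2'⟩ : ((O : Set T) \ orbit D a1).Nonempty :=
    Set.nonempty_of_ncard_ne_zero (by omega)
  have he : orbit D a2 = (O : Set T) \ orbit D a1 := by
    refine Set.eq_of_subset_of_ncard_le (fun b hb => ⟨sub a2 h2 hb, fun hb' => h2' ?_⟩)
      (by rw [hd, cq a2 h2])
    rw [← orbit_eq_iff.2 hb', orbit_eq_iff.2 hb]
    exact mem_orbit_self a2
  obtain ⟨u, hu1, hu2⟩ : ∃ u : D, u • a1 ≠ a1 ∧ u • a2 ≠ a2 := by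
    obtain ⟨u1, m1⟩ := mv a1 h1
    obtain ⟨u2, m2⟩ := mv a2 h2
    by_cases c1 : u1 • a2 = a2
    · by_cases c2 : u2 • a1 = a1
      · refine ⟨u1 * u2, by rwa [mul_smul, c2], fun h => m2 ?_⟩
        rw [mul_smul] at h
        exact smul_left_cancel u1 (h.trans c1.symm)
      · exact ⟨u2, c2, m2⟩
    · exact ⟨u1, m1, c1⟩
  refine ⟨u.1.1, u.1.2, ?_, fun a ha h => ?_, fun a ha => (op a ha).2.1 u⟩
  · obtain ⟨n, hn⟩ := hp u
    exact ⟨n, congrArg (fun y : D => y.1.1) hn⟩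
  · by_cases c : a ∈ orbit D a1
    · exact hu1 (mv_orb (op a1 h1).1 c h)
    · exact hu2 (mv_orb (op a2 h2).1 (he ▸ ⟨ha, c⟩) h)

end Cfsg.Agent.H1.El
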