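import Cfsg.Agent.H2.ElA

set_option autoImplicit false
set_option linter.unusedSectionVars false

namespace Cfsg.Agent.H1.El

open MulAction
open scoped Pointwise

variable {G : Type*} [Group G] [Finite G]

theorem aii_syl {p : ℕ} (hp : p.Prime) (P : Sylow p G) (W A B : Subgroup G) (hA : IsPGroup p A)
    (hB : IsPGroup p B) (AW : A ≤ W) (BW : B ≤ W) :
    ∃ c ∈ W, ∃ k : G, (∀ a ∈ A, k * (c * a * c⁻¹) * k⁻¹ ∈ (P : Subgroup G)) ∧
      ∀ b ∈ B, k * b * k⁻¹ ∈ (P : Subgroup G) := by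
  have := Fact.mk hp
  obtain ⟨Q1, h1⟩ := (hA.comap_subtype (K := W)).exists_le_sylow
  obtain ⟨Q2, h2⟩ := (hB.comap_subtype (K := W)).exists_le_sylow
  obtain ⟨c, hc⟩ := exists_smul_eq W Q1 Q2
  obtain ⟨Q, h3⟩ := (Q2.2.map W.subtype).exists_le_sylow
  obtain ⟨k, hk⟩ := exists_smul_eq G Q P
  have key : ∀ y : W, y ∈ (Q2 : Subgroup W) → k * y.1 * k⁻¹ ∈ (P : Subgroup G) := fun y hy => by
    rw [← hk, Sylow.coe_subgroup_smul]
    exact Subgroup.smul_mem_pointwise_smul _ (MulAut.conj k) _ (h3 ⟨y, hy, rfl⟩)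
  refine ⟨c, c.2, k, fun a ha => key (c * ⟨a, AW ha⟩ * c⁻¹) ?_, fun b hb => key ⟨b, BW hb⟩ (h2 hb)⟩
  rw [← hc, Sylow.coe_subgroup_smul]
  exact Subgroup.smul_mem_pointwise_smul _ (MulAut.conj c) _ (h1 (show a ∈ A from ha))

theorem aii_surj {X Y : Set G} (hc : Y.ncard ≤ X.ncard) {g : G} (h : ∀ x ∈ X, g * x * g⁻¹ ∈ Y) :
    ∀ y ∈ Y, g⁻¹ * y * g ∈ X := by
  have he : (MulAut.conj g) '' X = Y := by
    refine Set.eq_of_subset_of_ncard_le ?_ ?_
    · rintro _ ⟨x, hx, rfl⟩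
      exact h x hx
    · rwa [Set.ncard_image_of_injective _ (MulAut.conj g).injective]
  intro y hy
  rw [← he] at hy
  obtain ⟨x, hx, rfl⟩ := hy
  simpa [mul_assoc] using hx

variable {Ω : Type*} [MulAction G Ω] [FaithfulSMul G Ω] [Fintype Ω] [DecidableEq Ω] {p q : ℕ}

theorem aii_card (E : Subgroup G) (b : Ω) :
    ((E ⊓ stabilizer G b : Subgroup G) : Set G).ncard * Nat.card (orbit E b) = Nat.card E := by
  rw [← idx_orb, ← (stabilizer E b).card_mul_index, ← Nat.card_coe_set_eq]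
  congr 1
  exact Nat.card_congr ⟨fun x => ⟨⟨x.1, x.2.1⟩, x.2.2⟩, fun x => ⟨x.1.1, x.1.2, x.2⟩,
    fun _ => rfl, fun _ => rfl⟩

/-- the data of cases A and II -/
structure AII (p q : ℕ) (Ω : Type*) [MulAction G Ω] [Fintype Ω] (P : Sylow p G) (E : Subgroup G) :
    Prop extends Bas G Ω p q where
  pg : IsPGroup p E
  om : ∀ y ∈ (P : Subgroup G), y ^ p = 1 → y ∈ E
  ho : ∀ a : Ω, Nat.card (orbit E a) = p
  comm : ∀ u ∈ E, ∀ v ∈ E, u * v = v * u
  ex : ∀ u ∈ E, u ^ p = 1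

variable {P : Sylow p G} {E : Subgroup G}

theorem AII.eqc (h : AII p q Ω P E) (a b : Ω) :
    ((E ⊓ stabilizer G a : Subgroup G) : Set G).ncard =
      ((E ⊓ stabilizer G b : Subgroup G) : Set G).ncard := by
  have h1 := aii_card E a
  have h2 := aii_card E b
  rw [h.ho] at h1 h2
  exact Nat.eq_of_mul_eq_mul_right h.hp.pos (h1.trans h2.symm)

theorem AII.cj1 (h : AII p q Ω P E) (a b : Ω) : ∃ g : G, g • a = b ∧
    (∀ e ∈ E ⊓ stabilizer G a, g * e * g⁻¹ ∈ E ⊓ stabilizer G b) ∧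
    ∀ e ∈ E ⊓ stabilizer G b, g⁻¹ * e * g ∈ E ⊓ stabilizer G a := by
  obtain ⟨g, rfl⟩ := h.tr a b
  obtain ⟨c, hc, k, h1, h2⟩ := aii_syl h.hp P (stabilizer G (g • a))
    ((E ⊓ stabilizer G a).map (MulAut.conj g).toMonoidHom) (E ⊓ stabilizer G (g • a))
    ((h.pg.to_le inf_le_left).map _) (h.pg.to_le inf_le_left)
    (by
      rintro _ ⟨e, he, rfl⟩
      have : e • a = a := he.2
      simp [mem_stabilizer_iff, mul_smul, this]) inf_le_right
  have hc' : c • g • a = g • a := hc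
  have h3 : ∀ e ∈ E ⊓ stabilizer G (g • a), k * e * k⁻¹ ∈ E ⊓ stabilizer G (k • g • a) := by
    intro e he
    have : e • g • a = g • a := he.2
    refine ⟨h.om _ (h2 e he) (by rw [conj_pow, h.ex e he.1]; simp), ?_⟩
    simp [mem_stabilizer_iff, mul_smul, this]
  have h4 := aii_surj (h.eqc _ _).le h3
  have h5 : ∀ e ∈ E ⊓ stabilizer G a,
      (c * g) * e * (c * g)⁻¹ ∈ E ⊓ stabilizer G (g • a) := by
    intro e he
    have h6 : e • a = a := he.2
    have h7 := h1 _ ⟨e, he, rfl⟩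
    have h8 : k * (c * (MulAut.conj g).toMonoidHom e * c⁻¹) * k⁻¹ =
        (k * c * g) * e * (k * c * g)⁻¹ := by simp [mul_assoc]
    rw [h8] at h7
    have h9 := h4 ((k * c * g) * e * (k * c * g)⁻¹)
      ⟨h.om _ h7 (by rw [conj_pow, h.ex e he.1]; simp), by
        have : c⁻¹ • g • a = g • a := inv_smul_eq_iff.2 hc'.symm
        simp [mem_stabilizer_iff, mul_smul, h6, hc', this]⟩
    simpa [mul_assoc] using h9
  exact ⟨c * g, by rw [mul_smul, hc'], h5, aii_surj (h.eqc _ _).le h5⟩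

/-- fixed points of `E_b` -/
def FX (E : Subgroup G) (b : Ω) : Set Ω := {c | ∀ e ∈ E ⊓ stabilizer G b, e • c = c}

theorem AII.fxc (h : AII p q Ω P E) (a b : Ω) : (FX E a).ncard ≤ (FX E b).ncard := by
  obtain ⟨g, -, -, h2⟩ := h.cj1 a b
  refine Set.ncard_le_ncard_of_injOn (fun c => g • c) (fun c hc e he => ?_)
    (fun _ _ _ _ h => smul_left_cancel g h)
  have := hc _ (h2 e he)
  rwa [mul_smul, mul_smul, inv_smul_eq_iff] at this

theorem AII.cnt (h : AII p q Ω P E) (a : Ω) : (FX E a).ncard ≤ 2 * q := by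
  classical
  have := Fintype.ofFinite G
  set EF : Finset G := Finset.univ.filter (· ∈ E) with hEF
  have cE : EF.card = Nat.card E := by
    rw [← Set.ncard_coe_finset, ← Nat.card_coe_set_eq]
    exact Nat.card_congr (Equiv.subtypeEquivRight (by simp [hEF]))
  have h1 : ∑ e ∈ EF, (Finset.univ.filter fun b : Ω => e • b = b).card =
      ∑ b : Ω, (EF.filter fun e => e • b = b).card := by
    simp only [Finset.card_filter]
    exact Finset.sum_comm
  have h2 : ∀ b : Ω, (EF.filter fun e => e • b = b).card * p = Nat.card E := fun b => by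
    rw [← aii_card E b, h.ho, ← Set.ncard_coe_finset]
    congr 2
    ext e
    simp [hEF, mem_stabilizer_iff]
  have h3 : (∑ b : Ω, (EF.filter fun e => e • b = b).card) * p = 2 * p * q * Nat.card E := by
    rw [Finset.sum_mul, Finset.sum_congr rfl fun b _ => h2 b]
    simp [h.card]
  have h4 : EF.card * (FX E a).ncard ≤
      ∑ e ∈ EF, (Finset.univ.filter fun b : Ω => e • b = b).card := by
    rw [← smul_eq_mul]
    refine Finset.card_nsmul_le_sum _ _ _ fun e he => ?_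
    have he' : e ∈ E := by simpa [hEF] using he
    obtain ⟨b, hb⟩ : ∃ b : Ω, e • b = b := by
      by_cases e1 : e = 1
      · exact ⟨a, by rw [e1, one_smul]⟩
      · have := Fact.mk h.hp
        exact h.el e (by rw [orderOf_eq_prime (h.ex e he') e1]; exact h.hp)
    refine (h.fxc a b).trans ?_
    rw [← Set.ncard_coe_finset]
    exact Set.ncard_le_ncard fun c hc => by simpa using hc e ⟨he', hb⟩
  rw [h1, cE] at h4
  have h5 := Nat.mul_le_mul_right p h4
  rw [h3] at h5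
  have h6 : 0 < Nat.card E * p := Nat.mul_pos Nat.card_pos h.hp.pos
  exact Nat.le_of_mul_le_mul_left (by nlinarith) h6

theorem AII.sub (h : AII p q Ω P E) {b c : Ω} (hc : c ∈ FX E b) : orbit E c ⊆ FX E b := by
  rintro _ ⟨v, rfl⟩ e he
  show e • v.1 • c = v.1 • c
  rw [← mul_smul, h.comm e he.1 v.1 v.2, mul_smul, hc e he]

theorem AII.nc (h : AII p q Ω P E) (b : Ω) : (orbit E b).ncard = p := by
  rw [← Nat.card_coe_set_eq, h.ho]

theorem AII.p_lt (h : AII p q Ω P E) (b : Ω) : p ≤ 2 * q := by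
  rw [← h.nc b]
  exact (Set.ncard_le_ncard (h.sub fun e he => he.2)).trans (h.cnt b)

theorem AII.fx (h : AII p q Ω P E) {b c : Ω} (hc : c ∈ FX E b) : c ∈ orbit E b := by
  by_contra hn
  have hd : Disjoint (orbit E b) (orbit E c) := Set.disjoint_left.2 fun z h1 h2 => hn (by
    rw [← orbit_eq_iff.2 h1, orbit_eq_iff.2 h2]
    exact mem_orbit_self c)
  have h1 := Set.ncard_le_ncard (Set.union_subset (h.sub (b := b) fun e he => he.2) (h.sub hc))
  rw [Set.ncard_union_eq hd, h.nc, h.nc] at h1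
  have := h.cnt b
  have := h.qp
  omega

theorem aii_smul {n : G} (hn : n ∈ Subgroup.normalizer (E : Set G)) (b : Ω) :
    n • orbit E b = orbit E (n • b) := by
  ext c
  constructor
  · rintro ⟨_, ⟨e, rfl⟩, rfl⟩
    refine ⟨⟨n * e.1 * n⁻¹, (Subgroup.mem_normalizer_iff.1 hn _).1 e.2⟩, ?_⟩
    show (n * e.1 * n⁻¹) • n • b = n • e.1 • b
    simp [mul_smul]
  · rintro ⟨e, rfl⟩
    refine ⟨(n⁻¹ * e.1 * n) • b,
      ⟨⟨n⁻¹ * e.1 * n, (Subgroup.mem_normalizer_iff''.1 hn _).1 e.2⟩, rfl⟩, ?_⟩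
    show n • (n⁻¹ * e.1 * n) • b = e.1 • n • b
    simp [mul_smul]

theorem AII.trN (h : AII p q Ω P E) (a b : Ω) :
    ∃ n ∈ Subgroup.normalizer (E : Set G), n • a ∈ orbit E b := by
  obtain ⟨g, rfl, -, h2⟩ := h.cj1 a b
  obtain ⟨c, hc, k, h3, h4⟩ := aii_syl h.hp P
    (Subgroup.centralizer ((E ⊓ stabilizer G (g • a) : Subgroup G) : Set G))
    (E.map (MulAut.conj g).toMonoidHom) E (h.pg.map _) h.pg
    (by
      rintro _ ⟨e, he, rfl⟩ y hy
      have := h.comm _ (h2 y hy).1 e he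
      show y * (g * e * g⁻¹) = (g * e * g⁻¹) * y
      calc _ = g * (g⁻¹ * y * g * e) * g⁻¹ := by group
        _ = _ := by rw [this]; group)
    (fun e he y hy => h.comm y hy.1 e he)
  have h5 := aii_surj (X := (E : Set G)) (Y := (E : Set G)) le_rfl (g := k) fun e he =>
    h.om _ (h4 e he) (by rw [conj_pow, h.ex e he]; simp)
  refine ⟨c * g, Subgroup.mem_normalizer_fintype fun e he => ?_, h.fx fun e he => ?_⟩
  · have h7 := h3 _ ⟨e, he, rfl⟩
    have h8 : k * (c * (MulAut.conj g).toMonoidHom e * c⁻¹) * k⁻¹ =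
        (k * c * g) * e * (k * c * g)⁻¹ := by simp [mul_assoc]
    rw [h8] at h7
    have h9 := h5 _ (h.om _ h7 (by rw [conj_pow, h.ex e he]; simp))
    simpa [mul_assoc] using h9
  · have h6 : e • g • a = g • a := he.2
    rw [mul_smul, ← mul_smul e c, hc e he, mul_smul, h6]

theorem AII.triv (h : AII p q Ω P E) {w : G} (hw : w ∈ Subgroup.normalizer (E : Set G)) {m : ℕ}
    (hm : w ^ q ^ m = 1) {b : Ω} (hb : w • orbit E b = orbit E b) : w • b = b := by
  have := Fact.mk h.hq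
  have hD : IsPGroup q (Subgroup.zpowers w) := by
    rintro ⟨_, i, rfl⟩
    refine ⟨m, Subtype.ext ?_⟩
    show (w ^ i) ^ q ^ m = 1
    rw [← zpow_natCast, ← zpow_mul, mul_comm, zpow_mul, zpow_natCast, hm, one_zpow]
  have hle : Subgroup.zpowers w ≤ stabilizer G (orbit E b) := by
    rw [Subgroup.zpowers_le]
    exact hb
  let S : SubMulAction (Subgroup.zpowers w) Ω := ⟨orbit E b, fun d x hx => by
    have h1 : d.1 • orbit E b = orbit E b := hle d.2
    show d.1 • x ∈ orbit E b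
    rw [← h1]
    exact Set.smul_mem_smul_set hx⟩
  have h1 := hD.card_modEq_card_fixedPoints S
  have h2 : Nat.card S = p := h.ho b
  rw [h2] at h1
  have h3 : 1 < Nat.card (fixedPoints (Subgroup.zpowers w) S) := by
    have a1 := h.p_lt b
    have a2 := h.qp
    have a3 := h.hp.eq_two_or_odd
    have a4 := h.hq.eq_two_or_odd
    have a5 := h.q2
    have a6 := h.hq.two_le
    by_contra hc
    have a7 : p % q = Nat.card (fixedPoints (Subgroup.zpowers w) S) := by
      rw [h1, Nat.mod_eq_of_lt (by omega)]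
    rw [Nat.mod_eq_sub_mod a2.le, Nat.mod_eq_of_lt (by omega)] at a7
    omega
  obtain ⟨⟨⟨x, hx⟩, fx⟩, ⟨⟨y, hy⟩, fy⟩, hxy⟩ := (Finite.one_lt_card_iff_nontrivial.1 h3).exists_pair_ne
  have wx : w • x = x := congrArg Subtype.val (fx ⟨w, Subgroup.mem_zpowers w⟩)
  have wy : w • y = y := congrArg Subtype.val (fy ⟨w, Subgroup.mem_zpowers w⟩)
  have hne : x ≠ y := fun e => hxy (Subtype.ext (Subtype.ext e))
  have hx' : orbit E x = orbit E b := orbit_eq_iff.2 hx
  obtain ⟨⟨e, he⟩, rfl⟩ : y ∈ orbit E x := hx' ▸ hy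
  change w • e • x = e • x at wy
  change x ≠ e • x at hne
  have hs : ∀ z ∈ orbit E x, (e⁻¹ * (w * e * w⁻¹)) • z = z := fun z hz =>
    h.sub (b := x) (fun e he => he.2) hz _
      ⟨E.mul_mem (E.inv_mem he) ((Subgroup.mem_normalizer_iff.1 hw _).1 he), by
        have : w⁻¹ • x = x := inv_smul_eq_iff.2 wx.symm
        simp [mem_stabilizer_iff, mul_smul, this, wy]⟩
  have hk : ∀ k : ℕ, w • e ^ k • x = e ^ k • x := by
    intro k
    induction k with
    | zero => simpa using wx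
    | succ k ih =>
      have h4 := hs (e ^ k • x) ⟨⟨e ^ k, E.pow_mem he k⟩, rfl⟩
      rw [mul_smul, inv_smul_eq_iff, mul_smul, mul_smul, inv_smul_eq_iff.2 ih.symm] at h4
      rwa [pow_succ', mul_smul]
  have e1 : e ≠ 1 := by
    rintro rfl
    exact hne (one_smul _ _).symm
  have := Fact.mk h.hp
  have ho : orbit (Subgroup.zpowers e) x = orbit E x := by
    refine Set.eq_of_subset_of_ncard_le ?_ ?_
    · rintro _ ⟨d, rfl⟩
      exact ⟨⟨d.1, (Subgroup.zpowers_le.2 he) d.2⟩, rfl⟩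
    · rw [h.nc, ← index_stabilizer]
      have h5 := (stabilizer (Subgroup.zpowers e) x).index_dvd_card
      rw [Nat.card_zpowers, orderOf_eq_prime (h.ex e he) e1] at h5
      rcases (Nat.dvd_prime h.hp).1 h5 with h6 | h6
      · have h7 : (⟨e, Subgroup.mem_zpowers e⟩ : Subgroup.zpowers e) ∈
            stabilizer (Subgroup.zpowers e) x := Subgroup.index_eq_one.1 h6 ▸ Subgroup.mem_top _
        exact absurd (Eq.symm h7) hne
      · exact h6.ge
  obtain ⟨⟨d, hd⟩, hdb⟩ : b ∈ orbit (Subgroup.zpowers e) x := by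
    rw [ho, hx']
    exact mem_orbit_self b
  obtain ⟨k, rfl⟩ := mem_powers_iff_mem_zpowers.2 hd
  change e ^ k • x = b at hdb
  rw [← hdb, hk]

theorem AII.false (h : AII p q Ω P E) : False := by
  classical
  set O : Finset (Set Ω) := Finset.univ.image fun b : Ω => orbit E b with hO
  have mO : ∀ s, s ∈ O ↔ ∃ b, orbit E b = s := by simp [hO]
  have cO : O.card = 2 * q := by
    have h1 := Finset.card_eq_sum_card_image (fun b : Ω => orbit E b) Finset.univ
    rw [Finset.sum_congr rfl (g := fun _ => p) fun s hs => ?_] at h1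
    · rw [Finset.card_univ, h.card, Finset.sum_const, smul_eq_mul] at h1
      exact Nat.eq_of_mul_eq_mul_right h.hp.pos (by rw [← h1]; ring)
    · obtain ⟨b, rfl⟩ := (mO s).1 hs
      rw [← h.nc b, ← Set.ncard_coe_finset]
      congr 1
      ext c
      simp [orbit_eq_iff]
  obtain ⟨u, hu, ⟨m, hm⟩, mv, fx⟩ := lq h.hq h.q2 (Subgroup.normalizer (E : Set G)) O cO
    (fun k hk s hs => by
      obtain ⟨b, rfl⟩ := (mO s).1 hs
      exact (mO _).2 ⟨k • b, (aii_smul hk b).symm⟩)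
    (fun s hs t ht => by
      obtain ⟨a, rfl⟩ := (mO s).1 hs
      obtain ⟨b, rfl⟩ := (mO t).1 ht
      obtain ⟨n, hn, h1⟩ := h.trN a b
      exact ⟨n, hn, by rw [aii_smul hn, orbit_eq_iff.2 h1]⟩)
  have h1 : u ^ q = 1 := eq_of_smul_eq_smul (α := Ω) fun b => by
    rw [one_smul]
    refine h.triv (Subgroup.pow_mem _ hu q) (m := m) ?_ (fx _ ((mO _).2 ⟨b, rfl⟩))
    rw [← pow_mul, mul_comm, pow_mul, hm, one_pow]
  have := Fact.mk h.hq
  obtain ⟨s, hs⟩ : O.Nonempty := Finset.card_pos.1 (by have := h.hq.pos; omega)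
  have u1 : u ≠ 1 := by
    rintro rfl
    exact mv s hs (one_smul _ _)
  obtain ⟨a, ha⟩ := h.el u (by rw [orderOf_eq_prime h1 u1]; exact h.hq)
  exact mv _ ((mO _).2 ⟨a, rfl⟩) (by rw [aii_smul hu, ha])

/-- AII: cases A and II -/
theorem Bas.aii (h : Bas G Ω p q) (P : Sylow p G) (E : Subgroup G) (le : E ≤ P)
    (om : ∀ y ∈ (P : Subgroup G), y ^ p = 1 → y ∈ E)
    (ho : ∀ a : Ω, Nat.card (MulAction.orbit E a) = p) : False :=
  have pg : IsPGroup p E := P.2.to_le le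
  have k := ea h.hp E pg fun a => (ho a).le
  AII.false (Ω := Ω) (P := P) ⟨h, pg, om, ho, k.1, k.2⟩

end Cfsg.Agent.H1.El
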