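import Cfsg.Agent.H4.LeechIdB

/-!
# Invariant self-orthogonal families of words of length 24 span the Golay code
-/

set_option autoImplicit false

namespace Cfsg.Agent.H2.End

open Finset Matrix Equiv Cfsg.Agent.H4 Cfsg.Agent.H4.Golay Module

/-- The cyclic shift of the 24 points. -/
def sft : Perm GolayPt := (Equiv.subRight (1 : ZMod 23)).optionCongr

theorem sft_pow : sft ^ 23 = 1 := by decide +kernel

theorem finrank_golay : finrank (ZMod 2) golayCode ≤ 12 := by
  classical
  have e : word '' {r | r ∈ rows} = ((rows.map word).toFinset : Set (GolayPt → ZMod 2)) := by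
    ext w; simp
  rw [code_eq, e]
  refine (finrank_span_finset_le_card _).trans ?_
  exact (List.toFinset_card_le _).trans (by simp [rows])

theorem finrank_eq {U : Submodule (ZMod 2) (GolayPt → ZMod 2)} (h0 : ∀ c ∈ U, c none = 0)
    (h1 : ∀ c ∈ U, ∑ p, c p = 0) (sh : ∀ c ∈ U, c ∘ sft ∈ U) (hne : U ≠ ⊥)
    (hle : finrank (ZMod 2) U ≤ 12) : finrank (ZMod 2) U = 11 := by
  classical
  have : Fact (Nat.Prime 23) := ⟨by norm_num⟩
  let f : Function.End U := fun c => ⟨c.1 ∘ sft, sh _ c.2⟩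
  have it : ∀ n (c : U), ((f ^ n) c).1 = c.1 ∘ ⇑(sft ^ n) := fun n => by
    induction n with
    | zero => intro c; rfl
    | succ n ih => intro c; rw [pow_succ, pow_succ']; exact ih (f c)
  have h23 : f ^ 23 ^ 1 = 1 := funext fun c => Subtype.ext (by rw [it, pow_one, sft_pow]; rfl)
  have := Fintype.ofFinite U
  have h := Perm.card_fixedPoints_modEq (p := 23) (n := 1) (f := f) h23
  have e : Fintype.card f.fixedPoints = 1 := by
    refine Fintype.card_eq_one_iff.2 ⟨⟨0, rfl⟩, fun ⟨c, hc⟩ => Subtype.ext (Subtype.ext ?_)⟩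
    have k : ∀ i : ZMod 23, c.1 (some (i - 1)) = c.1 (some i) := fun i =>
      congrFun (congrArg Subtype.val hc) (some i)
    have k' : ∀ n : ℕ, c.1 (some (n : ZMod 23)) = c.1 (some 0) := fun n => by
      induction n with
      | zero => simp
      | succ n ih => rw [← k, Nat.cast_succ, add_sub_cancel_right, ih]
    have k2 : ∀ i : ZMod 23, c.1 (some i) = c.1 (some 0) := fun i => by
      rw [← k' i.val, ZMod.natCast_zmod_val]
    have h2 := h1 _ c.2
    rw [Fintype.sum_option, h0 _ c.2, zero_add, sum_congr rfl fun i _ => k2 i, sum_const, card_univ,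
      ZMod.card, nsmul_eq_mul, show ((23 : ℕ) : ZMod 2) = 1 from rfl, one_mul] at h2
    funext p
    cases p with
    | none => exact h0 _ c.2
    | some i => exact (k2 i).trans h2
  rw [e, Module.card_eq_pow_finrank (K := ZMod 2), ZMod.card] at h
  have h3 : finrank (ZMod 2) U ≠ 0 := fun h => hne (Submodule.finrank_eq_zero.1 h)
  generalize finrank (ZMod 2) U = k at *
  interval_cases k <;> first | rfl | exact absurd rfl h3 | exact absurd h (by decide)

theorem code_main (O : Set (GolayPt → ZMod 2)) (ev : ∀ a ∈ O, ∀ b ∈ O, a ⬝ᵥ b = 0)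
    (sh : ∀ a ∈ O, a ∘ sft ∈ O) (two : ∃ a ∈ O, ∃ b ∈ O, a ≠ b ∧ a none = b none) :
    ∃ π : Perm GolayPt, π none = none ∧
      ∀ g : Perm GolayPt, (∀ a ∈ O, a ∘ ⇑g⁻¹ ∈ O) → π⁻¹ * g * π ∈ M24 := by
  have wt : ∀ a ∈ O, ∑ p, a p = 0 := fun a ha => by
    rw [← ev a ha a ha]
    exact sum_congr rfl fun p _ => (by decide : ∀ x : ZMod 2, x = x * x) _
  have z2 : ∀ x : ZMod 2, x + x = 0 := by decide
  let C : Set (GolayPt → ZMod 2) := {c | ∃ a ∈ O, ∃ b ∈ O, a none = b none ∧ c = a + b}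
  let U := Submodule.span (ZMod 2) C
  have h0 : ∀ c ∈ C, c none = 0 := by
    rintro _ ⟨a, -, b, -, e, rfl⟩
    rw [Pi.add_apply, e, z2]
  have h1 : ∀ c ∈ C, ∑ p, c p = 0 := by
    rintro _ ⟨a, ha, b, hb, -, rfl⟩
    simp only [Pi.add_apply, sum_add_distrib, wt a ha, wt b hb, add_zero]
  have oc : ∀ c ∈ C, ∀ d ∈ O, c ⬝ᵥ d = 0 := by
    rintro _ ⟨a, ha, b, hb, -, rfl⟩ d hd
    rw [add_dotProduct, ev a ha d hd, ev b hb d hd, add_zero]
  have shC : ∀ c ∈ C, c ∘ sft ∈ C := by
    rintro _ ⟨a, ha, b, hb, e, rfl⟩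
    exact ⟨_, sh a ha, _, sh b hb, e, rfl⟩
  obtain ⟨π, π0, -, hπ⟩ := LeechId.cyc C h0 h1 (by
    rintro c hc _ ⟨a, ha, b, hb, -, rfl⟩
    have := oc c hc a ha
    have := oc c hc b hb
    show (a + b) ⬝ᵥ c = 0
    rw [add_dotProduct, dotProduct_comm a, dotProduct_comm b]
    simp [*]) fun c hc => ⟨_, shC c hc, fun _ => rfl⟩
  let φ := LinearEquiv.funCongrLeft (ZMod 2) (ZMod 2) π
  have hφ : ∀ c, φ c = c ∘ π := fun _ => rfl
  have hU : U.map φ.toLinearMap ≤ golayCode := by
    rw [Submodule.map_le_iff_le_comap]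
    exact Submodule.span_le.2 hπ
  have ind : ∀ {P : (GolayPt → ZMod 2) → Prop}, (∀ c ∈ C, P c) → P 0 →
      (∀ a b, P a → P b → P (a + b)) → ∀ c ∈ U, P c := fun {P} k1 k2 k3 c hc => by
    induction hc using Submodule.span_induction with
    | mem x hx => exact k1 x hx
    | zero => exact k2
    | add x y _ _ hx hy => exact k3 x y hx hy
    | smul r x _ hx =>
      rcases (by decide : ∀ r : ZMod 2, r = 0 ∨ r = 1) r with rfl | rfl
      · rwa [zero_smul]
      · rwa [one_smul]
  have U0 : ∀ c ∈ U, c none = 0 :=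
    ind h0 rfl fun a b ha hb => by rw [Pi.add_apply, ha, hb, add_zero]
  have r11 : finrank (ZMod 2) U = 11 := by
    refine finrank_eq U0 (ind h1 (by simp) fun a b ha hb => ?_)
      (ind (fun c hc => Submodule.subset_span (shC c hc)) U.zero_mem fun a b => U.add_mem) ?_ ?_
    · simp only [Pi.add_apply, sum_add_distrib, ha, hb, add_zero]
    · obtain ⟨a, ha, b, hb, hab, e⟩ := two
      intro hb'
      have : a + b ∈ U := Submodule.subset_span ⟨a, ha, b, hb, e, rfl⟩
      rw [hb', Submodule.mem_bot] at this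
      refine hab (funext fun p => ?_)
      exact (by decide : ∀ x y : ZMod 2, x + y = 0 → x = y) _ _ (congrFun this p)
    · rw [← LinearEquiv.finrank_map_eq φ U]
      exact (Submodule.finrank_mono hU).trans finrank_golay
  have one : (1 : GolayPt → ZMod 2) ∈ golayCode := Submodule.subset_span (.inr rfl)
  have top : U.map φ.toLinearMap ⊔ Submodule.span (ZMod 2) {1} = golayCode := by
    have lt : U.map φ.toLinearMap < U.map φ.toLinearMap ⊔ Submodule.span (ZMod 2) {1} := by
      refine lt_of_le_of_ne le_sup_left fun e => ?_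
      have : (1 : GolayPt → ZMod 2) ∈ U.map φ.toLinearMap :=
        e ▸ Submodule.mem_sup_right (Submodule.mem_span_singleton_self _)
      obtain ⟨c, hc, e⟩ := this
      have := congrFun e none
      rw [LinearEquiv.coe_coe, hφ, Function.comp_apply, π0, U0 c hc] at this
      exact zero_ne_one this
    have := Submodule.finrank_lt_finrank_of_lt lt
    rw [LinearEquiv.finrank_map_eq φ U, r11] at this
    exact Submodule.eq_of_le_of_finrank_le (sup_le hU (Submodule.span_le.2 (by simpa using one)))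
      (finrank_golay.trans this)
  have dec : ∀ w ∈ golayCode, ∃ c ∈ U, w = c ∘ π ∨ w = c ∘ π + 1 := fun w hw => by
    rw [← top, Submodule.mem_sup] at hw
    obtain ⟨_, ⟨c, hc, rfl⟩, _, hz, rfl⟩ := hw
    obtain ⟨r, rfl⟩ := Submodule.mem_span_singleton.1 hz
    refine ⟨c, hc, ?_⟩
    rcases (by decide : ∀ r : ZMod 2, r = 0 ∨ r = 1) r with rfl | rfl
    · exact .inl (by rw [zero_smul, add_zero]; rfl)
    · exact .inr (by rw [one_smul]; rfl)
  have memO : ∀ a ∈ O, a ∘ π ∈ golayCode := fun a ha => by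
    refine L3.mem_code_of fun r hr => ?_
    obtain ⟨c, hc, e⟩ := dec _ (rows_mem r hr)
    have k1 : (c ∘ π) ⬝ᵥ (a ∘ π) = 0 := by
      rw [comp_equiv_dotProduct_comp_equiv]
      exact ind (P := fun c => c ⬝ᵥ a = 0) (fun c hc => oc c hc a ha) (zero_dotProduct _)
        (fun x y hx hy => by rw [add_dotProduct, hx, hy, add_zero]) c hc
    rcases e with e | e <;> rw [e]
    · exact k1
    · rw [add_dotProduct, k1, zero_add, one_dotProduct]
      exact (Equiv.sum_comp π a).trans (wt a ha)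
  refine ⟨π, π0, fun g hg => mem_M24_of fun r hr => ?_⟩
  obtain ⟨c, hc, e⟩ := dec _ (rows_mem r hr)
  have k : (c ∘ π) ∘ ⇑(π⁻¹ * g * π)⁻¹ ∈ golayCode := by
    have : (c ∘ π) ∘ ⇑(π⁻¹ * g * π)⁻¹ = (c ∘ ⇑g⁻¹) ∘ π := by
      funext p; simp
    rw [this]
    refine ind (P := fun c => (c ∘ ⇑g⁻¹) ∘ π ∈ golayCode) ?_ golayCode.zero_mem
      (fun a b => golayCode.add_mem) c hc
    rintro _ ⟨a, ha, b, hb, -, rfl⟩
    exact golayCode.add_mem (memO _ (hg a ha)) (memO _ (hg b hb))
  rcases e with e | e <;> rw [e]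
  · exact k
  · exact golayCode.add_mem k one

end Cfsg.Agent.H2.End
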