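import Mathlib

/-!
# Intersection numbers of the Steiner system S(4, 7, 23)
-/

set_option autoImplicit false

namespace Cfsg.Agent.H2.End

open Finset

variable {Ω : Type*} [Fintype Ω] [DecidableEq Ω] {D : Finset (Finset Ω)} {k : ℕ}

theorem cnt_rec (hk : ∀ B ∈ D, B.card = k) (s : Finset Ω) :
    (D.filter (s ⊆ ·)).card * (k - s.card) = ∑ v ∈ sᶜ, (D.filter (insert v s ⊆ ·)).card := by
  simp only [card_filter]
  rw [sum_comm, sum_mul]
  refine sum_congr rfl fun B hB => ?_
  by_cases h : s ⊆ B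
  · rw [if_pos h, one_mul, ← hk B hB, ← card_sdiff_of_subset h, ← card_filter]
    congr 1
    ext v
    simp [insert_subset_iff, h, and_comm]
  · simp [insert_subset_iff, h]

theorem cnt_step (hk : ∀ B ∈ D, B.card = k) {j c : ℕ}
    (h : ∀ s : Finset Ω, s.card = j + 1 → (D.filter (s ⊆ ·)).card = c) {s : Finset Ω}
    (hs : s.card = j) : (D.filter (s ⊆ ·)).card * (k - j) = (Fintype.card Ω - j) * c := by
  rw [← hs, cnt_rec hk, sum_congr rfl fun v hv => h _ (by
    rw [card_insert_of_notMem (mem_compl.1 hv), hs]), sum_const, card_compl, smul_eq_mul]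

omit [Fintype Ω] in
theorem cnt_sum {B : Finset Ω} {w : Ω} (hw : w ∉ B) {j c : ℕ}
    (h : ∀ s : Finset Ω, s.card = j + 1 → (D.filter (s ⊆ ·)).card = c) :
    ∑ X ∈ D.filter (w ∈ ·), (X ∩ B).card.choose j = B.card.choose j * c := by
  have : ∀ X ∈ D.filter (w ∈ ·), (X ∩ B).card.choose j =
      ∑ U ∈ powersetCard j B, if U ⊆ X then 1 else 0 := fun X _ => by
    rw [← card_filter, ← card_powersetCard]
    congr 1
    ext U
    simp only [mem_powersetCard, mem_filter, subset_inter_iff]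
    tauto
  rw [sum_congr rfl this, sum_comm, ← card_powersetCard, ← smul_eq_mul, ← sum_const]
  refine sum_congr rfl fun U hU => ?_
  rw [mem_powersetCard] at hU
  rw [← card_filter, filter_filter, ← h (insert w U) (by
    rw [card_insert_of_notMem fun h => hw (hU.1 h), hU.2])]
  simp only [insert_subset_iff]

omit [Fintype Ω] in
theorem cnt_one {t : ℕ} (ex : ∀ s : Finset Ω, s.card = t → ∃ B ∈ D, s ⊆ B)
    (uq : ∀ B ∈ D, ∀ B' ∈ D, t ≤ (B ∩ B').card → B = B') (s : Finset Ω) (hs : s.card = t) :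
    (D.filter (s ⊆ ·)).card = 1 := by
  obtain ⟨B, hB, h⟩ := ex s hs
  refine card_eq_one.2 ⟨B, eq_singleton_iff_unique_mem.2 ⟨mem_filter.2 ⟨hB, h⟩, fun X hX => ?_⟩⟩
  rw [mem_filter] at hX
  exact uq X hX.1 B hB (hs ▸ card_le_card (subset_inter hX.2 h))

theorem odd_inter (hΩ : Fintype.card Ω = 23) (h7 : ∀ B ∈ D, B.card = 7)
    (ex : ∀ s : Finset Ω, s.card = 4 → ∃ B ∈ D, s ⊆ B)
    (uq : ∀ B ∈ D, ∀ B' ∈ D, 4 ≤ (B ∩ B').card → B = B') {B B' : Finset Ω} (hB : B ∈ D)
    (hB' : B' ∈ D) : Odd (B' ∩ B).card := by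
  by_cases e : B' = B
  · rw [e, inter_self, h7 B hB]; decide
  have c4 := cnt_one ex uq
  have c3 : ∀ s : Finset Ω, s.card = 3 → (D.filter (s ⊆ ·)).card = 5 := fun s hs => by
    have := cnt_step h7 c4 hs; omega
  have c2 : ∀ s : Finset Ω, s.card = 2 → (D.filter (s ⊆ ·)).card = 21 := fun s hs => by
    have := cnt_step h7 c3 hs; omega
  have c1 : ∀ s : Finset Ω, s.card = 1 → (D.filter (s ⊆ ·)).card = 77 := fun s hs => by
    have := cnt_step h7 c2 hs; omega
  obtain ⟨w, hw', hw⟩ : ∃ w ∈ B', w ∉ B := by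
    by_contra h
    push Not at h
    exact e (eq_of_subset_of_card_le h (by rw [h7 B hB, h7 B' hB']))
  have s0 := cnt_sum hw c1
  have s1 := cnt_sum hw c2
  have s2 := cnt_sum hw c3
  have s3 := cnt_sum hw c4
  rw [h7 B hB] at s0 s1 s2 s3
  have le3 : ∀ X ∈ D.filter (w ∈ ·), (X ∩ B).card ≤ 3 := fun X hX => by
    rw [mem_filter] at hX
    by_contra h
    exact hw (uq X hX.1 B hB (by omega) ▸ hX.2)
  have key := (sum_eq_sum_iff_of_le (s := D.filter (w ∈ ·))
    (f := fun X => (X ∩ B).card.choose 1 + 4 * (X ∩ B).card.choose 3)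
    (g := fun X => (X ∩ B).card.choose 0 + 2 * (X ∩ B).card.choose 2) fun X hX => by
      have := le3 X hX
      generalize (X ∩ B).card = i at *
      interval_cases i <;> decide).1 (by
        simp only [sum_add_distrib, ← mul_sum, s0, s1, s2, s3]; decide) B' (mem_filter.2 ⟨hB', hw'⟩)
  have := le3 B' (mem_filter.2 ⟨hB', hw'⟩)
  generalize (B' ∩ B).card = i at *
  interval_cases i <;> first | decide | exact absurd key (by decide)

end Cfsg.Agent.H2.End
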