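import Mathlib

/-!
# A finite check on circulant Gram matrices of size twenty-three
-/

set_option autoImplicit false

namespace Cfsg.Agent.H2.F23

/-- The conclusion of the check. -/
def cc (f : ℕ → ℕ) : Bool :=
  (List.range' 1 11).all (fun i => f i == 2) || (List.range' 1 11).all (fun i => f i == 1) ||
    (List.range' 1 11).any fun a => (f a == 1 || f a == 3) &&
      (List.range' 1 11).all fun i => i == a || f i == 2

/-- The pruning test. -/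
def cok (a1 a2 a3 a4 a5 a6 a7 a8 a9 a10 a11 s : ℕ) : Bool :=
  Nat.ble a1 396 && Nat.ble a2 396 && Nat.ble a3 396 && Nat.ble a4 396 && Nat.ble a5 396 &&
    Nat.ble a6 396 && Nat.ble a7 396 && Nat.ble a8 396 && Nat.ble a9 396 && Nat.ble a10 396 &&
    Nat.ble a11 396 && Nat.ble s 12

theorem cok_iff (a1 a2 a3 a4 a5 a6 a7 a8 a9 a10 a11 s : ℕ) : cok a1 a2 a3 a4 a5 a6 a7 a8 a9 a10 a11 s = true ↔
    a1 ≤ 396 ∧ a2 ≤ 396 ∧ a3 ≤ 396 ∧ a4 ≤ 396 ∧ a5 ≤ 396 ∧ a6 ≤ 396 ∧ a7 ≤ 396 ∧ a8 ≤ 396 ∧ a9 ≤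
    396 ∧ a10 ≤ 396 ∧ a11 ≤ 396 ∧ s ≤ 12 := by
  simp only [cok, Bool.and_eq_true, Nat.ble_eq, and_assoc]

/-- Level `11` of the search. -/
def cg11 (l : List ℕ) (a1 a2 a3 a4 a5 a6 a7 a8 a9 a10 a11 s : ℕ) : Bool :=
  bif cok a1 a2 a3 a4 a5 a6 a7 a8 a9 a10 a11 s then
    cc fun i => l.getD (11 - i) 0
  else true

theorem cs11 (n p q : ℕ → ℕ) (r : ∀ i, 0 < i → i < 12 → (n i = 1 ∧ p i = 0 ∧ q i = 2) ∨ (n i = 2 ∧
    p i = 1 ∧ q i = 1) ∨ (n i = 3 ∧ p i = 2 ∧ q i = 0)) (l : List ℕ) (a1 a2 a3 a4 a5 a6 a7 a8 a9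
    a10 a11 s : ℕ) (h : cg11 l a1 a2 a3 a4 a5 a6 a7 a8 a9 a10 a11 s = true) (h0 : a1 ≤ 396) (h1 :
    a2 ≤ 396) (h2 : a3 ≤ 396) (h3 : a4 ≤ 396) (h4 : a5 ≤ 396) (h5 : a6 ≤ 396) (h6 : a7 ≤ 396) (h7
    : a8 ≤ 396) (h8 : a9 ≤ 396) (h9 : a10 ≤ 396) (h10 : a11 ≤ 396) (h11 : s ≤ 12) :
    (cc fun i => (l).getD (11 - i) 0) = true := by
  rw [cg11, (cok_iff ..).mpr ⟨by clear * - h0; omega,
    by clear * - h1; omega,
    by clear * - h2; omega,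
    by clear * - h3; omega,
    by clear * - h4; omega,
    by clear * - h5; omega,
    by clear * - h6; omega,
    by clear * - h7; omega,
    by clear * - h8; omega,
    by clear * - h9; omega,
    by clear * - h10; omega,
    by clear * - h11; omega⟩, cond_true] at h
  exact h

/-- Level `10` of the search. -/
def cg10 (l : List ℕ) (a1 a2 a3 a4 a5 a6 a7 a8 a9 a10 a11 s : ℕ) : Bool :=
  bif cok a1 a2 a3 a4 a5 a6 a7 a8 a9 a10 a11 s then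
    cg11 (1 :: l) (Nat.add a1 100) (Nat.add a2 0) (Nat.add a3 92) (Nat.add a4 0) (Nat.add a5 78)
      (Nat.add a6 0) (Nat.add a7 58) (Nat.add a8 0) (Nat.add a9 34) (Nat.add a10 0) (Nat.add a11
      6) (Nat.add s 0) &&
    cg11 (2 :: l) (Nat.add a1 50) (Nat.add a2 48) (Nat.add a3 46) (Nat.add a4 44) (Nat.add a5 39)
      (Nat.add a6 34) (Nat.add a7 29) (Nat.add a8 24) (Nat.add a9 17) (Nat.add a10 10) (Nat.add
      a11 3) (Nat.add s 1) &&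
    cg11 (3 :: l) (Nat.add a1 0) (Nat.add a2 96) (Nat.add a3 0) (Nat.add a4 88) (Nat.add a5 0)
      (Nat.add a6 68) (Nat.add a7 0) (Nat.add a8 48) (Nat.add a9 0) (Nat.add a10 20) (Nat.add a11
      0) (Nat.add s 2)
  else true

theorem cs10 (n p q : ℕ → ℕ) (r : ∀ i, 0 < i → i < 12 → (n i = 1 ∧ p i = 0 ∧ q i = 2) ∨ (n i = 2 ∧
    p i = 1 ∧ q i = 1) ∨ (n i = 3 ∧ p i = 2 ∧ q i = 0)) (l : List ℕ) (a1 a2 a3 a4 a5 a6 a7 a8 a9
    a10 a11 s : ℕ) (h : cg10 l a1 a2 a3 a4 a5 a6 a7 a8 a9 a10 a11 s = true) (h0 : a1 + 50 * q 11 ≤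
    396) (h1 : a2 + 48 * p 11 ≤ 396) (h2 : a3 + 46 * q 11 ≤ 396) (h3 : a4 + 44 * p 11 ≤ 396) (h4 :
    a5 + 39 * q 11 ≤ 396) (h5 : a6 + 34 * p 11 ≤ 396) (h6 : a7 + 29 * q 11 ≤ 396) (h7 : a8 + 24 *
    p 11 ≤ 396) (h8 : a9 + 17 * q 11 ≤ 396) (h9 : a10 + 10 * p 11 ≤ 396) (h10 : a11 + 3 * q 11 ≤
    396) (h11 : s + p 11 ≤ 12) :
    (cc fun i => (n 11 :: l).getD (11 - i) 0) = true := by
  rw [cg10, (cok_iff ..).mpr ⟨by clear * - h0; omega,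
    by clear * - h1; omega,
    by clear * - h2; omega,
    by clear * - h3; omega,
    by clear * - h4; omega,
    by clear * - h5; omega,
    by clear * - h6; omega,
    by clear * - h7; omega,
    by clear * - h8; omega,
    by clear * - h9; omega,
    by clear * - h10; omega,
    by clear * - h11; omega⟩, cond_true] at h
  simp only [Bool.and_eq_true, Nat.add_eq] at h
  rcases r 11 (by norm_num) (by norm_num) with ⟨e, e1, e2⟩ | ⟨e, e1, e2⟩ | ⟨e, e1, e2⟩ <;> rw [e]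
  · exact cs11 n p q r _ _ _ _ _ _ _ _ _ _ _ _ _ h.1.1
      (by rw [e2] at h0; exact h0) (by rw [e1] at h1; exact h1)
      (by rw [e2] at h2; exact h2) (by rw [e1] at h3; exact h3)
      (by rw [e2] at h4; exact h4) (by rw [e1] at h5; exact h5)
      (by rw [e2] at h6; exact h6) (by rw [e1] at h7; exact h7)
      (by rw [e2] at h8; exact h8) (by rw [e1] at h9; exact h9)
      (by rw [e2] at h10; exact h10) (by rw [e1] at h11; exact h11)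
  · exact cs11 n p q r _ _ _ _ _ _ _ _ _ _ _ _ _ h.1.2
      (by rw [e2] at h0; exact h0) (by rw [e1] at h1; exact h1)
      (by rw [e2] at h2; exact h2) (by rw [e1] at h3; exact h3)
      (by rw [e2] at h4; exact h4) (by rw [e1] at h5; exact h5)
      (by rw [e2] at h6; exact h6) (by rw [e1] at h7; exact h7)
      (by rw [e2] at h8; exact h8) (by rw [e1] at h9; exact h9)
      (by rw [e2] at h10; exact h10) (by rw [e1] at h11; exact h11)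
  · exact cs11 n p q r _ _ _ _ _ _ _ _ _ _ _ _ _ h.2
      (by rw [e2] at h0; exact h0) (by rw [e1] at h1; exact h1)
      (by rw [e2] at h2; exact h2) (by rw [e1] at h3; exact h3)
      (by rw [e2] at h4; exact h4) (by rw [e1] at h5; exact h5)
      (by rw [e2] at h6; exact h6) (by rw [e1] at h7; exact h7)
      (by rw [e2] at h8; exact h8) (by rw [e1] at h9; exact h9)
      (by rw [e2] at h10; exact h10) (by rw [e1] at h11; exact h11)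

/-- Level `9` of the search. -/
def cg9 (l : List ℕ) (a1 a2 a3 a4 a5 a6 a7 a8 a9 a10 a11 s : ℕ) : Bool :=
  bif cok a1 a2 a3 a4 a5 a6 a7 a8 a9 a10 a11 s then
    cg10 (1 :: l) (Nat.add a1 92) (Nat.add a2 0) (Nat.add a3 34) (Nat.add a4 6) (Nat.add a5 0)
      (Nat.add a6 78) (Nat.add a7 0) (Nat.add a8 100) (Nat.add a9 0) (Nat.add a10 58) (Nat.add a11
      0) (Nat.add s 0) &&
    cg10 (2 :: l) (Nat.add a1 46) (Nat.add a2 34) (Nat.add a3 17) (Nat.add a4 3) (Nat.add a5 24)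
      (Nat.add a6 39) (Nat.add a7 48) (Nat.add a8 50) (Nat.add a9 44) (Nat.add a10 29) (Nat.add
      a11 10) (Nat.add s 1) &&
    cg10 (3 :: l) (Nat.add a1 0) (Nat.add a2 68) (Nat.add a3 0) (Nat.add a4 0) (Nat.add a5 48)
      (Nat.add a6 0) (Nat.add a7 96) (Nat.add a8 0) (Nat.add a9 88) (Nat.add a10 0) (Nat.add a11
      20) (Nat.add s 2)
  else true

theorem cs9 (n p q : ℕ → ℕ) (r : ∀ i, 0 < i → i < 12 → (n i = 1 ∧ p i = 0 ∧ q i = 2) ∨ (n i = 2 ∧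
    p i = 1 ∧ q i = 1) ∨ (n i = 3 ∧ p i = 2 ∧ q i = 0)) (l : List ℕ) (a1 a2 a3 a4 a5 a6 a7 a8 a9
    a10 a11 s : ℕ) (h : cg9 l a1 a2 a3 a4 a5 a6 a7 a8 a9 a10 a11 s = true) (h0 : a1 + 46 * q 10 +
    50 * q 11 ≤ 396) (h1 : a2 + 34 * p 10 + 48 * p 11 ≤ 396) (h2 : a3 + 17 * q 10 + 46 * q 11 ≤
    396) (h3 : a4 + 3 * q 10 + 44 * p 11 ≤ 396) (h4 : a5 + 24 * p 10 + 39 * q 11 ≤ 396) (h5 : a6 +
    39 * q 10 + 34 * p 11 ≤ 396) (h6 : a7 + 48 * p 10 + 29 * q 11 ≤ 396) (h7 : a8 + 50 * q 10 + 24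
    * p 11 ≤ 396) (h8 : a9 + 44 * p 10 + 17 * q 11 ≤ 396) (h9 : a10 + 29 * q 10 + 10 * p 11 ≤ 396)
    (h10 : a11 + 10 * p 10 + 3 * q 11 ≤ 396) (h11 : s + p 10 + p 11 ≤ 12) :
    (cc fun i => (n 11 :: n 10 :: l).getD (11 - i) 0) = true := by
  rw [cg9, (cok_iff ..).mpr ⟨by clear * - h0; omega,
    by clear * - h1; omega,
    by clear * - h2; omega,
    by clear * - h3; omega,
    by clear * - h4; omega,
    by clear * - h5; omega,
    by clear * - h6; omega,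
    by clear * - h7; omega,
    by clear * - h8; omega,
    by clear * - h9; omega,
    by clear * - h10; omega,
    by clear * - h11; omega⟩, cond_true] at h
  simp only [Bool.and_eq_true, Nat.add_eq] at h
  rcases r 10 (by norm_num) (by norm_num) with ⟨e, e1, e2⟩ | ⟨e, e1, e2⟩ | ⟨e, e1, e2⟩ <;> rw [e]
  · exact cs10 n p q r _ _ _ _ _ _ _ _ _ _ _ _ _ h.1.1
      (by rw [e2] at h0; exact h0) (by rw [e1] at h1; exact h1)
      (by rw [e2] at h2; exact h2) (by rw [e2] at h3; exact h3)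
      (by rw [e1] at h4; exact h4) (by rw [e2] at h5; exact h5)
      (by rw [e1] at h6; exact h6) (by rw [e2] at h7; exact h7)
      (by rw [e1] at h8; exact h8) (by rw [e2] at h9; exact h9)
      (by rw [e1] at h10; exact h10) (by rw [e1] at h11; exact h11)
  · exact cs10 n p q r _ _ _ _ _ _ _ _ _ _ _ _ _ h.1.2
      (by rw [e2] at h0; exact h0) (by rw [e1] at h1; exact h1)
      (by rw [e2] at h2; exact h2) (by rw [e2] at h3; exact h3)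
      (by rw [e1] at h4; exact h4) (by rw [e2] at h5; exact h5)
      (by rw [e1] at h6; exact h6) (by rw [e2] at h7; exact h7)
      (by rw [e1] at h8; exact h8) (by rw [e2] at h9; exact h9)
      (by rw [e1] at h10; exact h10) (by rw [e1] at h11; exact h11)
  · exact cs10 n p q r _ _ _ _ _ _ _ _ _ _ _ _ _ h.2
      (by rw [e2] at h0; exact h0) (by rw [e1] at h1; exact h1)
      (by rw [e2] at h2; exact h2) (by rw [e2] at h3; exact h3)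
      (by rw [e1] at h4; exact h4) (by rw [e2] at h5; exact h5)
      (by rw [e1] at h6; exact h6) (by rw [e2] at h7; exact h7)
      (by rw [e1] at h8; exact h8) (by rw [e2] at h9; exact h9)
      (by rw [e1] at h10; exact h10) (by rw [e1] at h11; exact h11)

/-- Level `8` of the search. -/
def cg8 (l : List ℕ) (a1 a2 a3 a4 a5 a6 a7 a8 a9 a10 a11 s : ℕ) : Bool :=
  bif cok a1 a2 a3 a4 a5 a6 a7 a8 a9 a10 a11 s then
    cg9 (1 :: l) (Nat.add a1 78) (Nat.add a2 0) (Nat.add a3 0) (Nat.add a4 92) (Nat.add a5 0)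
      (Nat.add a6 58) (Nat.add a7 6) (Nat.add a8 0) (Nat.add a9 100) (Nat.add a10 0) (Nat.add a11
      34) (Nat.add s 0) &&
    cg9 (2 :: l) (Nat.add a1 39) (Nat.add a2 10) (Nat.add a3 24) (Nat.add a4 46) (Nat.add a5 48)
      (Nat.add a6 29) (Nat.add a7 3) (Nat.add a8 34) (Nat.add a9 50) (Nat.add a10 44) (Nat.add a11
      17) (Nat.add s 1) &&
    cg9 (3 :: l) (Nat.add a1 0) (Nat.add a2 20) (Nat.add a3 48) (Nat.add a4 0) (Nat.add a5 96)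
      (Nat.add a6 0) (Nat.add a7 0) (Nat.add a8 68) (Nat.add a9 0) (Nat.add a10 88) (Nat.add a11
      0) (Nat.add s 2)
  else true

theorem cs8 (n p q : ℕ → ℕ) (r : ∀ i, 0 < i → i < 12 → (n i = 1 ∧ p i = 0 ∧ q i = 2) ∨ (n i = 2 ∧
    p i = 1 ∧ q i = 1) ∨ (n i = 3 ∧ p i = 2 ∧ q i = 0)) (l : List ℕ) (a1 a2 a3 a4 a5 a6 a7 a8 a9
    a10 a11 s : ℕ) (h : cg8 l a1 a2 a3 a4 a5 a6 a7 a8 a9 a10 a11 s = true) (h0 : a1 + 39 * q 9 +
    46 * q 10 + 50 * q 11 ≤ 396) (h1 : a2 + 10 * p 9 + 34 * p 10 + 48 * p 11 ≤ 396) (h2 : a3 + 24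
    * p 9 + 17 * q 10 + 46 * q 11 ≤ 396) (h3 : a4 + 46 * q 9 + 3 * q 10 + 44 * p 11 ≤ 396) (h4 :
    a5 + 48 * p 9 + 24 * p 10 + 39 * q 11 ≤ 396) (h5 : a6 + 29 * q 9 + 39 * q 10 + 34 * p 11 ≤
    396) (h6 : a7 + 3 * q 9 + 48 * p 10 + 29 * q 11 ≤ 396) (h7 : a8 + 34 * p 9 + 50 * q 10 + 24 *
    p 11 ≤ 396) (h8 : a9 + 50 * q 9 + 44 * p 10 + 17 * q 11 ≤ 396) (h9 : a10 + 44 * p 9 + 29 * q
    10 + 10 * p 11 ≤ 396) (h10 : a11 + 17 * q 9 + 10 * p 10 + 3 * q 11 ≤ 396) (h11 : s + p 9 + p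
    10 + p 11 ≤ 12) :
    (cc fun i => (n 11 :: n 10 :: n 9 :: l).getD (11 - i) 0) = true := by
  rw [cg8, (cok_iff ..).mpr ⟨by clear * - h0; omega,
    by clear * - h1; omega,
    by clear * - h2; omega,
    by clear * - h3; omega,
    by clear * - h4; omega,
    by clear * - h5; omega,
    by clear * - h6; omega,
    by clear * - h7; omega,
    by clear * - h8; omega,
    by clear * - h9; omega,
    by clear * - h10; omega,
    by clear * - h11; omega⟩, cond_true] at h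
  simp only [Bool.and_eq_true, Nat.add_eq] at h
  rcases r 9 (by norm_num) (by norm_num) with ⟨e, e1, e2⟩ | ⟨e, e1, e2⟩ | ⟨e, e1, e2⟩ <;> rw [e]
  · exact cs9 n p q r _ _ _ _ _ _ _ _ _ _ _ _ _ h.1.1
      (by rw [e2] at h0; exact h0) (by rw [e1] at h1; exact h1)
      (by rw [e1] at h2; exact h2) (by rw [e2] at h3; exact h3)
      (by rw [e1] at h4; exact h4) (by rw [e2] at h5; exact h5)
      (by rw [e2] at h6; exact h6) (by rw [e1] at h7; exact h7)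
      (by rw [e2] at h8; exact h8) (by rw [e1] at h9; exact h9)
      (by rw [e2] at h10; exact h10) (by rw [e1] at h11; exact h11)
  · exact cs9 n p q r _ _ _ _ _ _ _ _ _ _ _ _ _ h.1.2
      (by rw [e2] at h0; exact h0) (by rw [e1] at h1; exact h1)
      (by rw [e1] at h2; exact h2) (by rw [e2] at h3; exact h3)
      (by rw [e1] at h4; exact h4) (by rw [e2] at h5; exact h5)
      (by rw [e2] at h6; exact h6) (by rw [e1] at h7; exact h7)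
      (by rw [e2] at h8; exact h8) (by rw [e1] at h9; exact h9)
      (by rw [e2] at h10; exact h10) (by rw [e1] at h11; exact h11)
  · exact cs9 n p q r _ _ _ _ _ _ _ _ _ _ _ _ _ h.2
      (by rw [e2] at h0; exact h0) (by rw [e1] at h1; exact h1)
      (by rw [e1] at h2; exact h2) (by rw [e2] at h3; exact h3)
      (by rw [e1] at h4; exact h4) (by rw [e2] at h5; exact h5)
      (by rw [e2] at h6; exact h6) (by rw [e1] at h7; exact h7)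
      (by rw [e2] at h8; exact h8) (by rw [e1] at h9; exact h9)
      (by rw [e2] at h10; exact h10) (by rw [e1] at h11; exact h11)

/-- Level `7` of the search. -/
def cg7 (l : List ℕ) (a1 a2 a3 a4 a5 a6 a7 a8 a9 a10 a11 s : ℕ) : Bool :=
  bif cok a1 a2 a3 a4 a5 a6 a7 a8 a9 a10 a11 s then
    cg8 (1 :: l) (Nat.add a1 58) (Nat.add a2 34) (Nat.add a3 0) (Nat.add a4 78) (Nat.add a5 6)
      (Nat.add a6 0) (Nat.add a7 92) (Nat.add a8 0) (Nat.add a9 0) (Nat.add a10 100) (Nat.add a11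
      0) (Nat.add s 0) &&
    cg8 (2 :: l) (Nat.add a1 29) (Nat.add a2 17) (Nat.add a3 48) (Nat.add a4 39) (Nat.add a5 3)
      (Nat.add a6 44) (Nat.add a7 46) (Nat.add a8 10) (Nat.add a9 34) (Nat.add a10 50) (Nat.add
      a11 24) (Nat.add s 1) &&
    cg8 (3 :: l) (Nat.add a1 0) (Nat.add a2 0) (Nat.add a3 96) (Nat.add a4 0) (Nat.add a5 0)
      (Nat.add a6 88) (Nat.add a7 0) (Nat.add a8 20) (Nat.add a9 68) (Nat.add a10 0) (Nat.add a11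
      48) (Nat.add s 2)
  else true

theorem cs7 (n p q : ℕ → ℕ) (r : ∀ i, 0 < i → i < 12 → (n i = 1 ∧ p i = 0 ∧ q i = 2) ∨ (n i = 2 ∧
    p i = 1 ∧ q i = 1) ∨ (n i = 3 ∧ p i = 2 ∧ q i = 0)) (l : List ℕ) (a1 a2 a3 a4 a5 a6 a7 a8 a9
    a10 a11 s : ℕ) (h : cg7 l a1 a2 a3 a4 a5 a6 a7 a8 a9 a10 a11 s = true) (h0 : a1 + 29 * q 8 +
    39 * q 9 + 46 * q 10 + 50 * q 11 ≤ 396) (h1 : a2 + 17 * q 8 + 10 * p 9 + 34 * p 10 + 48 * p 11
    ≤ 396) (h2 : a3 + 48 * p 8 + 24 * p 9 + 17 * q 10 + 46 * q 11 ≤ 396) (h3 : a4 + 39 * q 8 + 46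
    * q 9 + 3 * q 10 + 44 * p 11 ≤ 396) (h4 : a5 + 3 * q 8 + 48 * p 9 + 24 * p 10 + 39 * q 11 ≤
    396) (h5 : a6 + 44 * p 8 + 29 * q 9 + 39 * q 10 + 34 * p 11 ≤ 396) (h6 : a7 + 46 * q 8 + 3 * q
    9 + 48 * p 10 + 29 * q 11 ≤ 396) (h7 : a8 + 10 * p 8 + 34 * p 9 + 50 * q 10 + 24 * p 11 ≤ 396)
    (h8 : a9 + 34 * p 8 + 50 * q 9 + 44 * p 10 + 17 * q 11 ≤ 396) (h9 : a10 + 50 * q 8 + 44 * p 9
    + 29 * q 10 + 10 * p 11 ≤ 396) (h10 : a11 + 24 * p 8 + 17 * q 9 + 10 * p 10 + 3 * q 11 ≤ 396)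
    (h11 : s + p 8 + p 9 + p 10 + p 11 ≤ 12) :
    (cc fun i => (n 11 :: n 10 :: n 9 :: n 8 :: l).getD (11 - i) 0) = true := by
  rw [cg7, (cok_iff ..).mpr ⟨by clear * - h0; omega,
    by clear * - h1; omega,
    by clear * - h2; omega,
    by clear * - h3; omega,
    by clear * - h4; omega,
    by clear * - h5; omega,
    by clear * - h6; omega,
    by clear * - h7; omega,
    by clear * - h8; omega,
    by clear * - h9; omega,
    by clear * - h10; omega,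
    by clear * - h11; omega⟩, cond_true] at h
  simp only [Bool.and_eq_true, Nat.add_eq] at h
  rcases r 8 (by norm_num) (by norm_num) with ⟨e, e1, e2⟩ | ⟨e, e1, e2⟩ | ⟨e, e1, e2⟩ <;> rw [e]
  · exact cs8 n p q r _ _ _ _ _ _ _ _ _ _ _ _ _ h.1.1
      (by rw [e2] at h0; exact h0) (by rw [e2] at h1; exact h1)
      (by rw [e1] at h2; exact h2) (by rw [e2] at h3; exact h3)
      (by rw [e2] at h4; exact h4) (by rw [e1] at h5; exact h5)
      (by rw [e2] at h6; exact h6) (by rw [e1] at h7; exact h7)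
      (by rw [e1] at h8; exact h8) (by rw [e2] at h9; exact h9)
      (by rw [e1] at h10; exact h10) (by rw [e1] at h11; exact h11)
  · exact cs8 n p q r _ _ _ _ _ _ _ _ _ _ _ _ _ h.1.2
      (by rw [e2] at h0; exact h0) (by rw [e2] at h1; exact h1)
      (by rw [e1] at h2; exact h2) (by rw [e2] at h3; exact h3)
      (by rw [e2] at h4; exact h4) (by rw [e1] at h5; exact h5)
      (by rw [e2] at h6; exact h6) (by rw [e1] at h7; exact h7)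
      (by rw [e1] at h8; exact h8) (by rw [e2] at h9; exact h9)
      (by rw [e1] at h10; exact h10) (by rw [e1] at h11; exact h11)
  · exact cs8 n p q r _ _ _ _ _ _ _ _ _ _ _ _ _ h.2
      (by rw [e2] at h0; exact h0) (by rw [e2] at h1; exact h1)
      (by rw [e1] at h2; exact h2) (by rw [e2] at h3; exact h3)
      (by rw [e2] at h4; exact h4) (by rw [e1] at h5; exact h5)
      (by rw [e2] at h6; exact h6) (by rw [e1] at h7; exact h7)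
      (by rw [e1] at h8; exact h8) (by rw [e2] at h9; exact h9)
      (by rw [e1] at h10; exact h10) (by rw [e1] at h11; exact h11)

/-- Level `6` of the search. -/
def cg6 (l : List ℕ) (a1 a2 a3 a4 a5 a6 a7 a8 a9 a10 a11 s : ℕ) : Bool :=
  bif cok a1 a2 a3 a4 a5 a6 a7 a8 a9 a10 a11 s then
    cg7 (1 :: l) (Nat.add a1 34) (Nat.add a2 78) (Nat.add a3 0) (Nat.add a4 0) (Nat.add a5 100)
      (Nat.add a6 0) (Nat.add a7 0) (Nat.add a8 92) (Nat.add a9 6) (Nat.add a10 0) (Nat.add a11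
      58) (Nat.add s 0) &&
    cg7 (2 :: l) (Nat.add a1 17) (Nat.add a2 39) (Nat.add a3 44) (Nat.add a4 10) (Nat.add a5 50)
      (Nat.add a6 24) (Nat.add a7 34) (Nat.add a8 46) (Nat.add a9 3) (Nat.add a10 48) (Nat.add a11
      29) (Nat.add s 1) &&
    cg7 (3 :: l) (Nat.add a1 0) (Nat.add a2 0) (Nat.add a3 88) (Nat.add a4 20) (Nat.add a5 0)
      (Nat.add a6 48) (Nat.add a7 68) (Nat.add a8 0) (Nat.add a9 0) (Nat.add a10 96) (Nat.add a11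
      0) (Nat.add s 2)
  else true

theorem cs6 (n p q : ℕ → ℕ) (r : ∀ i, 0 < i → i < 12 → (n i = 1 ∧ p i = 0 ∧ q i = 2) ∨ (n i = 2 ∧
    p i = 1 ∧ q i = 1) ∨ (n i = 3 ∧ p i = 2 ∧ q i = 0)) (l : List ℕ) (a1 a2 a3 a4 a5 a6 a7 a8 a9
    a10 a11 s : ℕ) (h : cg6 l a1 a2 a3 a4 a5 a6 a7 a8 a9 a10 a11 s = true) (h0 : a1 + 17 * q 7 +
    29 * q 8 + 39 * q 9 + 46 * q 10 + 50 * q 11 ≤ 396) (h1 : a2 + 39 * q 7 + 17 * q 8 + 10 * p 9 +
    34 * p 10 + 48 * p 11 ≤ 396) (h2 : a3 + 44 * p 7 + 48 * p 8 + 24 * p 9 + 17 * q 10 + 46 * q 11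
    ≤ 396) (h3 : a4 + 10 * p 7 + 39 * q 8 + 46 * q 9 + 3 * q 10 + 44 * p 11 ≤ 396) (h4 : a5 + 50 *
    q 7 + 3 * q 8 + 48 * p 9 + 24 * p 10 + 39 * q 11 ≤ 396) (h5 : a6 + 24 * p 7 + 44 * p 8 + 29 *
    q 9 + 39 * q 10 + 34 * p 11 ≤ 396) (h6 : a7 + 34 * p 7 + 46 * q 8 + 3 * q 9 + 48 * p 10 + 29 *
    q 11 ≤ 396) (h7 : a8 + 46 * q 7 + 10 * p 8 + 34 * p 9 + 50 * q 10 + 24 * p 11 ≤ 396) (h8 : a9
    + 3 * q 7 + 34 * p 8 + 50 * q 9 + 44 * p 10 + 17 * q 11 ≤ 396) (h9 : a10 + 48 * p 7 + 50 * q 8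
    + 44 * p 9 + 29 * q 10 + 10 * p 11 ≤ 396) (h10 : a11 + 29 * q 7 + 24 * p 8 + 17 * q 9 + 10 * p
    10 + 3 * q 11 ≤ 396) (h11 : s + p 7 + p 8 + p 9 + p 10 + p 11 ≤ 12) :
    (cc fun i => (n 11 :: n 10 :: n 9 :: n 8 :: n 7 :: l).getD (11 - i) 0) = true := by
  rw [cg6, (cok_iff ..).mpr ⟨by clear * - h0; omega,
    by clear * - h1; omega,
    by clear * - h2; omega,
    by clear * - h3; omega,
    by clear * - h4; omega,
    by clear * - h5; omega,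
    by clear * - h6; omega,
    by clear * - h7; omega,
    by clear * - h8; omega,
    by clear * - h9; omega,
    by clear * - h10; omega,
    by clear * - h11; omega⟩, cond_true] at h
  simp only [Bool.and_eq_true, Nat.add_eq] at h
  rcases r 7 (by norm_num) (by norm_num) with ⟨e, e1, e2⟩ | ⟨e, e1, e2⟩ | ⟨e, e1, e2⟩ <;> rw [e]
  · exact cs7 n p q r _ _ _ _ _ _ _ _ _ _ _ _ _ h.1.1
      (by rw [e2] at h0; exact h0) (by rw [e2] at h1; exact h1)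
      (by rw [e1] at h2; exact h2) (by rw [e1] at h3; exact h3)
      (by rw [e2] at h4; exact h4) (by rw [e1] at h5; exact h5)
      (by rw [e1] at h6; exact h6) (by rw [e2] at h7; exact h7)
      (by rw [e2] at h8; exact h8) (by rw [e1] at h9; exact h9)
      (by rw [e2] at h10; exact h10) (by rw [e1] at h11; exact h11)
  · exact cs7 n p q r _ _ _ _ _ _ _ _ _ _ _ _ _ h.1.2
      (by rw [e2] at h0; exact h0) (by rw [e2] at h1; exact h1)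
      (by rw [e1] at h2; exact h2) (by rw [e1] at h3; exact h3)
      (by rw [e2] at h4; exact h4) (by rw [e1] at h5; exact h5)
      (by rw [e1] at h6; exact h6) (by rw [e2] at h7; exact h7)
      (by rw [e2] at h8; exact h8) (by rw [e1] at h9; exact h9)
      (by rw [e2] at h10; exact h10) (by rw [e1] at h11; exact h11)
  · exact cs7 n p q r _ _ _ _ _ _ _ _ _ _ _ _ _ h.2
      (by rw [e2] at h0; exact h0) (by rw [e2] at h1; exact h1)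
      (by rw [e1] at h2; exact h2) (by rw [e1] at h3; exact h3)
      (by rw [e2] at h4; exact h4) (by rw [e1] at h5; exact h5)
      (by rw [e1] at h6; exact h6) (by rw [e2] at h7; exact h7)
      (by rw [e2] at h8; exact h8) (by rw [e1] at h9; exact h9)
      (by rw [e2] at h10; exact h10) (by rw [e1] at h11; exact h11)

/-- Level `5` of the search. -/
def cg5 (l : List ℕ) (a1 a2 a3 a4 a5 a6 a7 a8 a9 a10 a11 s : ℕ) : Bool :=
  bif cok a1 a2 a3 a4 a5 a6 a7 a8 a9 a10 a11 s then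
    cg6 (1 :: l) (Nat.add a1 6) (Nat.add a2 100) (Nat.add a3 0) (Nat.add a4 0) (Nat.add a5 34)
      (Nat.add a6 92) (Nat.add a7 0) (Nat.add a8 0) (Nat.add a9 58) (Nat.add a10 78) (Nat.add a11
      0) (Nat.add s 0) &&
    cg6 (2 :: l) (Nat.add a1 3) (Nat.add a2 50) (Nat.add a3 10) (Nat.add a4 48) (Nat.add a5 17)
      (Nat.add a6 46) (Nat.add a7 24) (Nat.add a8 44) (Nat.add a9 29) (Nat.add a10 39) (Nat.add
      a11 34) (Nat.add s 1) &&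
    cg6 (3 :: l) (Nat.add a1 0) (Nat.add a2 0) (Nat.add a3 20) (Nat.add a4 96) (Nat.add a5 0)
      (Nat.add a6 0) (Nat.add a7 48) (Nat.add a8 88) (Nat.add a9 0) (Nat.add a10 0) (Nat.add a11
      68) (Nat.add s 2)
  else true

theorem cs5 (n p q : ℕ → ℕ) (r : ∀ i, 0 < i → i < 12 → (n i = 1 ∧ p i = 0 ∧ q i = 2) ∨ (n i = 2 ∧
    p i = 1 ∧ q i = 1) ∨ (n i = 3 ∧ p i = 2 ∧ q i = 0)) (l : List ℕ) (a1 a2 a3 a4 a5 a6 a7 a8 a9
    a10 a11 s : ℕ) (h : cg5 l a1 a2 a3 a4 a5 a6 a7 a8 a9 a10 a11 s = true) (h0 : a1 + 3 * q 6 + 17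
    * q 7 + 29 * q 8 + 39 * q 9 + 46 * q 10 + 50 * q 11 ≤ 396) (h1 : a2 + 50 * q 6 + 39 * q 7 + 17
    * q 8 + 10 * p 9 + 34 * p 10 + 48 * p 11 ≤ 396) (h2 : a3 + 10 * p 6 + 44 * p 7 + 48 * p 8 + 24
    * p 9 + 17 * q 10 + 46 * q 11 ≤ 396) (h3 : a4 + 48 * p 6 + 10 * p 7 + 39 * q 8 + 46 * q 9 + 3
    * q 10 + 44 * p 11 ≤ 396) (h4 : a5 + 17 * q 6 + 50 * q 7 + 3 * q 8 + 48 * p 9 + 24 * p 10 + 39
    * q 11 ≤ 396) (h5 : a6 + 46 * q 6 + 24 * p 7 + 44 * p 8 + 29 * q 9 + 39 * q 10 + 34 * p 11 ≤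
    396) (h6 : a7 + 24 * p 6 + 34 * p 7 + 46 * q 8 + 3 * q 9 + 48 * p 10 + 29 * q 11 ≤ 396) (h7 :
    a8 + 44 * p 6 + 46 * q 7 + 10 * p 8 + 34 * p 9 + 50 * q 10 + 24 * p 11 ≤ 396) (h8 : a9 + 29 *
    q 6 + 3 * q 7 + 34 * p 8 + 50 * q 9 + 44 * p 10 + 17 * q 11 ≤ 396) (h9 : a10 + 39 * q 6 + 48 *
    p 7 + 50 * q 8 + 44 * p 9 + 29 * q 10 + 10 * p 11 ≤ 396) (h10 : a11 + 34 * p 6 + 29 * q 7 + 24
    * p 8 + 17 * q 9 + 10 * p 10 + 3 * q 11 ≤ 396) (h11 : s + p 6 + p 7 + p 8 + p 9 + p 10 + p 11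
    ≤ 12) :
    (cc fun i => (n 11 :: n 10 :: n 9 :: n 8 :: n 7 :: n 6 :: l).getD (11 - i) 0) = true := by
  rw [cg5, (cok_iff ..).mpr ⟨by clear * - h0; omega,
    by clear * - h1; omega,
    by clear * - h2; omega,
    by clear * - h3; omega,
    by clear * - h4; omega,
    by clear * - h5; omega,
    by clear * - h6; omega,
    by clear * - h7; omega,
    by clear * - h8; omega,
    by clear * - h9; omega,
    by clear * - h10; omega,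
    by clear * - h11; omega⟩, cond_true] at h
  simp only [Bool.and_eq_true, Nat.add_eq] at h
  rcases r 6 (by norm_num) (by norm_num) with ⟨e, e1, e2⟩ | ⟨e, e1, e2⟩ | ⟨e, e1, e2⟩ <;> rw [e]
  · exact cs6 n p q r _ _ _ _ _ _ _ _ _ _ _ _ _ h.1.1
      (by rw [e2] at h0; exact h0) (by rw [e2] at h1; exact h1)
      (by rw [e1] at h2; exact h2) (by rw [e1] at h3; exact h3)
      (by rw [e2] at h4; exact h4) (by rw [e2] at h5; exact h5)
      (by rw [e1] at h6; exact h6) (by rw [e1] at h7; exact h7)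
      (by rw [e2] at h8; exact h8) (by rw [e2] at h9; exact h9)
      (by rw [e1] at h10; exact h10) (by rw [e1] at h11; exact h11)
  · exact cs6 n p q r _ _ _ _ _ _ _ _ _ _ _ _ _ h.1.2
      (by rw [e2] at h0; exact h0) (by rw [e2] at h1; exact h1)
      (by rw [e1] at h2; exact h2) (by rw [e1] at h3; exact h3)
      (by rw [e2] at h4; exact h4) (by rw [e2] at h5; exact h5)
      (by rw [e1] at h6; exact h6) (by rw [e1] at h7; exact h7)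
      (by rw [e2] at h8; exact h8) (by rw [e2] at h9; exact h9)
      (by rw [e1] at h10; exact h10) (by rw [e1] at h11; exact h11)
  · exact cs6 n p q r _ _ _ _ _ _ _ _ _ _ _ _ _ h.2
      (by rw [e2] at h0; exact h0) (by rw [e2] at h1; exact h1)
      (by rw [e1] at h2; exact h2) (by rw [e1] at h3; exact h3)
      (by rw [e2] at h4; exact h4) (by rw [e2] at h5; exact h5)
      (by rw [e1] at h6; exact h6) (by rw [e1] at h7; exact h7)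
      (by rw [e2] at h8; exact h8) (by rw [e2] at h9; exact h9)
      (by rw [e1] at h10; exact h10) (by rw [e1] at h11; exact h11)

/-- Level `4` of the search. -/
def cg4 (l : List ℕ) (a1 a2 a3 a4 a5 a6 a7 a8 a9 a10 a11 s : ℕ) : Bool :=
  bif cok a1 a2 a3 a4 a5 a6 a7 a8 a9 a10 a11 s then
    cg5 (1 :: l) (Nat.add a1 0) (Nat.add a2 92) (Nat.add a3 58) (Nat.add a4 0) (Nat.add a5 0)
      (Nat.add a6 34) (Nat.add a7 100) (Nat.add a8 6) (Nat.add a9 0) (Nat.add a10 0) (Nat.add a11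
      78) (Nat.add s 0) &&
    cg5 (2 :: l) (Nat.add a1 10) (Nat.add a2 46) (Nat.add a3 29) (Nat.add a4 34) (Nat.add a5 44)
      (Nat.add a6 17) (Nat.add a7 50) (Nat.add a8 3) (Nat.add a9 48) (Nat.add a10 24) (Nat.add a11
      39) (Nat.add s 1) &&
    cg5 (3 :: l) (Nat.add a1 20) (Nat.add a2 0) (Nat.add a3 0) (Nat.add a4 68) (Nat.add a5 88)
      (Nat.add a6 0) (Nat.add a7 0) (Nat.add a8 0) (Nat.add a9 96) (Nat.add a10 48) (Nat.add a11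
      0) (Nat.add s 2)
  else true

theorem cs4 (n p q : ℕ → ℕ) (r : ∀ i, 0 < i → i < 12 → (n i = 1 ∧ p i = 0 ∧ q i = 2) ∨ (n i = 2 ∧
    p i = 1 ∧ q i = 1) ∨ (n i = 3 ∧ p i = 2 ∧ q i = 0)) (l : List ℕ) (a1 a2 a3 a4 a5 a6 a7 a8 a9
    a10 a11 s : ℕ) (h : cg4 l a1 a2 a3 a4 a5 a6 a7 a8 a9 a10 a11 s = true) (h0 : a1 + 10 * p 5 + 3
    * q 6 + 17 * q 7 + 29 * q 8 + 39 * q 9 + 46 * q 10 + 50 * q 11 ≤ 396) (h1 : a2 + 46 * q 5 + 50
    * q 6 + 39 * q 7 + 17 * q 8 + 10 * p 9 + 34 * p 10 + 48 * p 11 ≤ 396) (h2 : a3 + 29 * q 5 + 10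
    * p 6 + 44 * p 7 + 48 * p 8 + 24 * p 9 + 17 * q 10 + 46 * q 11 ≤ 396) (h3 : a4 + 34 * p 5 + 48
    * p 6 + 10 * p 7 + 39 * q 8 + 46 * q 9 + 3 * q 10 + 44 * p 11 ≤ 396) (h4 : a5 + 44 * p 5 + 17
    * q 6 + 50 * q 7 + 3 * q 8 + 48 * p 9 + 24 * p 10 + 39 * q 11 ≤ 396) (h5 : a6 + 17 * q 5 + 46
    * q 6 + 24 * p 7 + 44 * p 8 + 29 * q 9 + 39 * q 10 + 34 * p 11 ≤ 396) (h6 : a7 + 50 * q 5 + 24
    * p 6 + 34 * p 7 + 46 * q 8 + 3 * q 9 + 48 * p 10 + 29 * q 11 ≤ 396) (h7 : a8 + 3 * q 5 + 44 *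
    p 6 + 46 * q 7 + 10 * p 8 + 34 * p 9 + 50 * q 10 + 24 * p 11 ≤ 396) (h8 : a9 + 48 * p 5 + 29 *
    q 6 + 3 * q 7 + 34 * p 8 + 50 * q 9 + 44 * p 10 + 17 * q 11 ≤ 396) (h9 : a10 + 24 * p 5 + 39 *
    q 6 + 48 * p 7 + 50 * q 8 + 44 * p 9 + 29 * q 10 + 10 * p 11 ≤ 396) (h10 : a11 + 39 * q 5 + 34
    * p 6 + 29 * q 7 + 24 * p 8 + 17 * q 9 + 10 * p 10 + 3 * q 11 ≤ 396) (h11 : s + p 5 + p 6 + p
    7 + p 8 + p 9 + p 10 + p 11 ≤ 12) :
    (cc fun i => (n 11 :: n 10 :: n 9 :: n 8 :: n 7 :: n 6 :: n 5 :: l).getD (11 - i) 0) = true := by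
  rw [cg4, (cok_iff ..).mpr ⟨by clear * - h0; omega,
    by clear * - h1; omega,
    by clear * - h2; omega,
    by clear * - h3; omega,
    by clear * - h4; omega,
    by clear * - h5; omega,
    by clear * - h6; omega,
    by clear * - h7; omega,
    by clear * - h8; omega,
    by clear * - h9; omega,
    by clear * - h10; omega,
    by clear * - h11; omega⟩, cond_true] at h
  simp only [Bool.and_eq_true, Nat.add_eq] at h
  rcases r 5 (by norm_num) (by norm_num) with ⟨e, e1, e2⟩ | ⟨e, e1, e2⟩ | ⟨e, e1, e2⟩ <;> rw [e]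
  · exact cs5 n p q r _ _ _ _ _ _ _ _ _ _ _ _ _ h.1.1
      (by rw [e1] at h0; exact h0) (by rw [e2] at h1; exact h1)
      (by rw [e2] at h2; exact h2) (by rw [e1] at h3; exact h3)
      (by rw [e1] at h4; exact h4) (by rw [e2] at h5; exact h5)
      (by rw [e2] at h6; exact h6) (by rw [e2] at h7; exact h7)
      (by rw [e1] at h8; exact h8) (by rw [e1] at h9; exact h9)
      (by rw [e2] at h10; exact h10) (by rw [e1] at h11; exact h11)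
  · exact cs5 n p q r _ _ _ _ _ _ _ _ _ _ _ _ _ h.1.2
      (by rw [e1] at h0; exact h0) (by rw [e2] at h1; exact h1)
      (by rw [e2] at h2; exact h2) (by rw [e1] at h3; exact h3)
      (by rw [e1] at h4; exact h4) (by rw [e2] at h5; exact h5)
      (by rw [e2] at h6; exact h6) (by rw [e2] at h7; exact h7)
      (by rw [e1] at h8; exact h8) (by rw [e1] at h9; exact h9)
      (by rw [e2] at h10; exact h10) (by rw [e1] at h11; exact h11)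
  · exact cs5 n p q r _ _ _ _ _ _ _ _ _ _ _ _ _ h.2
      (by rw [e1] at h0; exact h0) (by rw [e2] at h1; exact h1)
      (by rw [e2] at h2; exact h2) (by rw [e1] at h3; exact h3)
      (by rw [e1] at h4; exact h4) (by rw [e2] at h5; exact h5)
      (by rw [e2] at h6; exact h6) (by rw [e2] at h7; exact h7)
      (by rw [e1] at h8; exact h8) (by rw [e1] at h9; exact h9)
      (by rw [e2] at h10; exact h10) (by rw [e1] at h11; exact h11)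

/-- Level `3` of the search. -/
def cg3 (l : List ℕ) (a1 a2 a3 a4 a5 a6 a7 a8 a9 a10 a11 s : ℕ) : Bool :=
  bif cok a1 a2 a3 a4 a5 a6 a7 a8 a9 a10 a11 s then
    cg4 (1 :: l) (Nat.add a1 0) (Nat.add a2 58) (Nat.add a3 100) (Nat.add a4 34) (Nat.add a5 0)
      (Nat.add a6 0) (Nat.add a7 0) (Nat.add a8 78) (Nat.add a9 92) (Nat.add a10 6) (Nat.add a11
      0) (Nat.add s 0) &&
    cg4 (2 :: l) (Nat.add a1 24) (Nat.add a2 29) (Nat.add a3 50) (Nat.add a4 17) (Nat.add a5 34)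
      (Nat.add a6 48) (Nat.add a7 10) (Nat.add a8 39) (Nat.add a9 46) (Nat.add a10 3) (Nat.add a11
      44) (Nat.add s 1) &&
    cg4 (3 :: l) (Nat.add a1 48) (Nat.add a2 0) (Nat.add a3 0) (Nat.add a4 0) (Nat.add a5 68)
      (Nat.add a6 96) (Nat.add a7 20) (Nat.add a8 0) (Nat.add a9 0) (Nat.add a10 0) (Nat.add a11
      88) (Nat.add s 2)
  else true

theorem cs3 (n p q : ℕ → ℕ) (r : ∀ i, 0 < i → i < 12 → (n i = 1 ∧ p i = 0 ∧ q i = 2) ∨ (n i = 2 ∧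
    p i = 1 ∧ q i = 1) ∨ (n i = 3 ∧ p i = 2 ∧ q i = 0)) (l : List ℕ) (a1 a2 a3 a4 a5 a6 a7 a8 a9
    a10 a11 s : ℕ) (h : cg3 l a1 a2 a3 a4 a5 a6 a7 a8 a9 a10 a11 s = true) (h0 : a1 + 24 * p 4 +
    10 * p 5 + 3 * q 6 + 17 * q 7 + 29 * q 8 + 39 * q 9 + 46 * q 10 + 50 * q 11 ≤ 396) (h1 : a2 +
    29 * q 4 + 46 * q 5 + 50 * q 6 + 39 * q 7 + 17 * q 8 + 10 * p 9 + 34 * p 10 + 48 * p 11 ≤ 396)
    (h2 : a3 + 50 * q 4 + 29 * q 5 + 10 * p 6 + 44 * p 7 + 48 * p 8 + 24 * p 9 + 17 * q 10 + 46 *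
    q 11 ≤ 396) (h3 : a4 + 17 * q 4 + 34 * p 5 + 48 * p 6 + 10 * p 7 + 39 * q 8 + 46 * q 9 + 3 * q
    10 + 44 * p 11 ≤ 396) (h4 : a5 + 34 * p 4 + 44 * p 5 + 17 * q 6 + 50 * q 7 + 3 * q 8 + 48 * p
    9 + 24 * p 10 + 39 * q 11 ≤ 396) (h5 : a6 + 48 * p 4 + 17 * q 5 + 46 * q 6 + 24 * p 7 + 44 * p
    8 + 29 * q 9 + 39 * q 10 + 34 * p 11 ≤ 396) (h6 : a7 + 10 * p 4 + 50 * q 5 + 24 * p 6 + 34 * p
    7 + 46 * q 8 + 3 * q 9 + 48 * p 10 + 29 * q 11 ≤ 396) (h7 : a8 + 39 * q 4 + 3 * q 5 + 44 * p 6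
    + 46 * q 7 + 10 * p 8 + 34 * p 9 + 50 * q 10 + 24 * p 11 ≤ 396) (h8 : a9 + 46 * q 4 + 48 * p 5
    + 29 * q 6 + 3 * q 7 + 34 * p 8 + 50 * q 9 + 44 * p 10 + 17 * q 11 ≤ 396) (h9 : a10 + 3 * q 4
    + 24 * p 5 + 39 * q 6 + 48 * p 7 + 50 * q 8 + 44 * p 9 + 29 * q 10 + 10 * p 11 ≤ 396) (h10 :
    a11 + 44 * p 4 + 39 * q 5 + 34 * p 6 + 29 * q 7 + 24 * p 8 + 17 * q 9 + 10 * p 10 + 3 * q 11 ≤
    396) (h11 : s + p 4 + p 5 + p 6 + p 7 + p 8 + p 9 + p 10 + p 11 ≤ 12) :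
    (cc fun i => (n 11 :: n 10 :: n 9 :: n 8 :: n 7 :: n 6 :: n 5 :: n 4 :: l).getD (11 - i) 0) = true := by
  rw [cg3, (cok_iff ..).mpr ⟨by clear * - h0; omega,
    by clear * - h1; omega,
    by clear * - h2; omega,
    by clear * - h3; omega,
    by clear * - h4; omega,
    by clear * - h5; omega,
    by clear * - h6; omega,
    by clear * - h7; omega,
    by clear * - h8; omega,
    by clear * - h9; omega,
    by clear * - h10; omega,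
    by clear * - h11; omega⟩, cond_true] at h
  simp only [Bool.and_eq_true, Nat.add_eq] at h
  rcases r 4 (by norm_num) (by norm_num) with ⟨e, e1, e2⟩ | ⟨e, e1, e2⟩ | ⟨e, e1, e2⟩ <;> rw [e]
  · exact cs4 n p q r _ _ _ _ _ _ _ _ _ _ _ _ _ h.1.1
      (by rw [e1] at h0; exact h0) (by rw [e2] at h1; exact h1)
      (by rw [e2] at h2; exact h2) (by rw [e2] at h3; exact h3)
      (by rw [e1] at h4; exact h4) (by rw [e1] at h5; exact h5)
      (by rw [e1] at h6; exact h6) (by rw [e2] at h7; exact h7)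
      (by rw [e2] at h8; exact h8) (by rw [e2] at h9; exact h9)
      (by rw [e1] at h10; exact h10) (by rw [e1] at h11; exact h11)
  · exact cs4 n p q r _ _ _ _ _ _ _ _ _ _ _ _ _ h.1.2
      (by rw [e1] at h0; exact h0) (by rw [e2] at h1; exact h1)
      (by rw [e2] at h2; exact h2) (by rw [e2] at h3; exact h3)
      (by rw [e1] at h4; exact h4) (by rw [e1] at h5; exact h5)
      (by rw [e1] at h6; exact h6) (by rw [e2] at h7; exact h7)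
      (by rw [e2] at h8; exact h8) (by rw [e2] at h9; exact h9)
      (by rw [e1] at h10; exact h10) (by rw [e1] at h11; exact h11)
  · exact cs4 n p q r _ _ _ _ _ _ _ _ _ _ _ _ _ h.2
      (by rw [e1] at h0; exact h0) (by rw [e2] at h1; exact h1)
      (by rw [e2] at h2; exact h2) (by rw [e2] at h3; exact h3)
      (by rw [e1] at h4; exact h4) (by rw [e1] at h5; exact h5)
      (by rw [e1] at h6; exact h6) (by rw [e2] at h7; exact h7)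
      (by rw [e2] at h8; exact h8) (by rw [e2] at h9; exact h9)
      (by rw [e1] at h10; exact h10) (by rw [e1] at h11; exact h11)

/-- Level `2` of the search. -/
def cg2 (l : List ℕ) (a1 a2 a3 a4 a5 a6 a7 a8 a9 a10 a11 s : ℕ) : Bool :=
  bif cok a1 a2 a3 a4 a5 a6 a7 a8 a9 a10 a11 s then
    cg3 (1 :: l) (Nat.add a1 0) (Nat.add a2 6) (Nat.add a3 78) (Nat.add a4 100) (Nat.add a5 58)
      (Nat.add a6 0) (Nat.add a7 0) (Nat.add a8 0) (Nat.add a9 0) (Nat.add a10 34) (Nat.add a11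
      92) (Nat.add s 0) &&
    cg3 (2 :: l) (Nat.add a1 34) (Nat.add a2 3) (Nat.add a3 39) (Nat.add a4 50) (Nat.add a5 29)
      (Nat.add a6 10) (Nat.add a7 44) (Nat.add a8 48) (Nat.add a9 24) (Nat.add a10 17) (Nat.add
      a11 46) (Nat.add s 1) &&
    cg3 (3 :: l) (Nat.add a1 68) (Nat.add a2 0) (Nat.add a3 0) (Nat.add a4 0) (Nat.add a5 0)
      (Nat.add a6 20) (Nat.add a7 88) (Nat.add a8 96) (Nat.add a9 48) (Nat.add a10 0) (Nat.add a11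
      0) (Nat.add s 2)
  else true

theorem cs2 (n p q : ℕ → ℕ) (r : ∀ i, 0 < i → i < 12 → (n i = 1 ∧ p i = 0 ∧ q i = 2) ∨ (n i = 2 ∧
    p i = 1 ∧ q i = 1) ∨ (n i = 3 ∧ p i = 2 ∧ q i = 0)) (l : List ℕ) (a1 a2 a3 a4 a5 a6 a7 a8 a9
    a10 a11 s : ℕ) (h : cg2 l a1 a2 a3 a4 a5 a6 a7 a8 a9 a10 a11 s = true) (h0 : a1 + 34 * p 3 +
    24 * p 4 + 10 * p 5 + 3 * q 6 + 17 * q 7 + 29 * q 8 + 39 * q 9 + 46 * q 10 + 50 * q 11 ≤ 396)
    (h1 : a2 + 3 * q 3 + 29 * q 4 + 46 * q 5 + 50 * q 6 + 39 * q 7 + 17 * q 8 + 10 * p 9 + 34 * p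
    10 + 48 * p 11 ≤ 396) (h2 : a3 + 39 * q 3 + 50 * q 4 + 29 * q 5 + 10 * p 6 + 44 * p 7 + 48 * p
    8 + 24 * p 9 + 17 * q 10 + 46 * q 11 ≤ 396) (h3 : a4 + 50 * q 3 + 17 * q 4 + 34 * p 5 + 48 * p
    6 + 10 * p 7 + 39 * q 8 + 46 * q 9 + 3 * q 10 + 44 * p 11 ≤ 396) (h4 : a5 + 29 * q 3 + 34 * p
    4 + 44 * p 5 + 17 * q 6 + 50 * q 7 + 3 * q 8 + 48 * p 9 + 24 * p 10 + 39 * q 11 ≤ 396) (h5 :
    a6 + 10 * p 3 + 48 * p 4 + 17 * q 5 + 46 * q 6 + 24 * p 7 + 44 * p 8 + 29 * q 9 + 39 * q 10 +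
    34 * p 11 ≤ 396) (h6 : a7 + 44 * p 3 + 10 * p 4 + 50 * q 5 + 24 * p 6 + 34 * p 7 + 46 * q 8 +
    3 * q 9 + 48 * p 10 + 29 * q 11 ≤ 396) (h7 : a8 + 48 * p 3 + 39 * q 4 + 3 * q 5 + 44 * p 6 +
    46 * q 7 + 10 * p 8 + 34 * p 9 + 50 * q 10 + 24 * p 11 ≤ 396) (h8 : a9 + 24 * p 3 + 46 * q 4 +
    48 * p 5 + 29 * q 6 + 3 * q 7 + 34 * p 8 + 50 * q 9 + 44 * p 10 + 17 * q 11 ≤ 396) (h9 : a10 +
    17 * q 3 + 3 * q 4 + 24 * p 5 + 39 * q 6 + 48 * p 7 + 50 * q 8 + 44 * p 9 + 29 * q 10 + 10 * p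
    11 ≤ 396) (h10 : a11 + 46 * q 3 + 44 * p 4 + 39 * q 5 + 34 * p 6 + 29 * q 7 + 24 * p 8 + 17 *
    q 9 + 10 * p 10 + 3 * q 11 ≤ 396) (h11 : s + p 3 + p 4 + p 5 + p 6 + p 7 + p 8 + p 9 + p 10 +
    p 11 ≤ 12) :
    (cc fun i => (n 11 :: n 10 :: n 9 :: n 8 :: n 7 :: n 6 :: n 5 :: n 4 :: n 3 :: l).getD (11 - i) 0) = true := by
  rw [cg2, (cok_iff ..).mpr ⟨by clear * - h0; omega,
    by clear * - h1; omega,
    by clear * - h2; omega,
    by clear * - h3; omega,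
    by clear * - h4; omega,
    by clear * - h5; omega,
    by clear * - h6; omega,
    by clear * - h7; omega,
    by clear * - h8; omega,
    by clear * - h9; omega,
    by clear * - h10; omega,
    by clear * - h11; omega⟩, cond_true] at h
  simp only [Bool.and_eq_true, Nat.add_eq] at h
  rcases r 3 (by norm_num) (by norm_num) with ⟨e, e1, e2⟩ | ⟨e, e1, e2⟩ | ⟨e, e1, e2⟩ <;> rw [e]
  · exact cs3 n p q r _ _ _ _ _ _ _ _ _ _ _ _ _ h.1.1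
      (by rw [e1] at h0; exact h0) (by rw [e2] at h1; exact h1)
      (by rw [e2] at h2; exact h2) (by rw [e2] at h3; exact h3)
      (by rw [e2] at h4; exact h4) (by rw [e1] at h5; exact h5)
      (by rw [e1] at h6; exact h6) (by rw [e1] at h7; exact h7)
      (by rw [e1] at h8; exact h8) (by rw [e2] at h9; exact h9)
      (by rw [e2] at h10; exact h10) (by rw [e1] at h11; exact h11)
  · exact cs3 n p q r _ _ _ _ _ _ _ _ _ _ _ _ _ h.1.2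
      (by rw [e1] at h0; exact h0) (by rw [e2] at h1; exact h1)
      (by rw [e2] at h2; exact h2) (by rw [e2] at h3; exact h3)
      (by rw [e2] at h4; exact h4) (by rw [e1] at h5; exact h5)
      (by rw [e1] at h6; exact h6) (by rw [e1] at h7; exact h7)
      (by rw [e1] at h8; exact h8) (by rw [e2] at h9; exact h9)
      (by rw [e2] at h10; exact h10) (by rw [e1] at h11; exact h11)
  · exact cs3 n p q r _ _ _ _ _ _ _ _ _ _ _ _ _ h.2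
      (by rw [e1] at h0; exact h0) (by rw [e2] at h1; exact h1)
      (by rw [e2] at h2; exact h2) (by rw [e2] at h3; exact h3)
      (by rw [e2] at h4; exact h4) (by rw [e1] at h5; exact h5)
      (by rw [e1] at h6; exact h6) (by rw [e1] at h7; exact h7)
      (by rw [e1] at h8; exact h8) (by rw [e2] at h9; exact h9)
      (by rw [e2] at h10; exact h10) (by rw [e1] at h11; exact h11)

/-- Level `1` of the search. -/
def cg1 (l : List ℕ) (a1 a2 a3 a4 a5 a6 a7 a8 a9 a10 a11 s : ℕ) : Bool :=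
  bif cok a1 a2 a3 a4 a5 a6 a7 a8 a9 a10 a11 s then
    cg2 (1 :: l) (Nat.add a1 0) (Nat.add a2 0) (Nat.add a3 6) (Nat.add a4 58) (Nat.add a5 92)
      (Nat.add a6 100) (Nat.add a7 78) (Nat.add a8 34) (Nat.add a9 0) (Nat.add a10 0) (Nat.add a11
      0) (Nat.add s 0) &&
    cg2 (2 :: l) (Nat.add a1 44) (Nat.add a2 24) (Nat.add a3 3) (Nat.add a4 29) (Nat.add a5 46)
      (Nat.add a6 50) (Nat.add a7 39) (Nat.add a8 17) (Nat.add a9 10) (Nat.add a10 34) (Nat.add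
      a11 48) (Nat.add s 1) &&
    cg2 (3 :: l) (Nat.add a1 88) (Nat.add a2 48) (Nat.add a3 0) (Nat.add a4 0) (Nat.add a5 0)
      (Nat.add a6 0) (Nat.add a7 0) (Nat.add a8 0) (Nat.add a9 20) (Nat.add a10 68) (Nat.add a11
      96) (Nat.add s 2)
  else true

theorem cs1 (n p q : ℕ → ℕ) (r : ∀ i, 0 < i → i < 12 → (n i = 1 ∧ p i = 0 ∧ q i = 2) ∨ (n i = 2 ∧
    p i = 1 ∧ q i = 1) ∨ (n i = 3 ∧ p i = 2 ∧ q i = 0)) (l : List ℕ) (a1 a2 a3 a4 a5 a6 a7 a8 a9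
    a10 a11 s : ℕ) (h : cg1 l a1 a2 a3 a4 a5 a6 a7 a8 a9 a10 a11 s = true) (h0 : a1 + 44 * p 2 +
    34 * p 3 + 24 * p 4 + 10 * p 5 + 3 * q 6 + 17 * q 7 + 29 * q 8 + 39 * q 9 + 46 * q 10 + 50 * q
    11 ≤ 396) (h1 : a2 + 24 * p 2 + 3 * q 3 + 29 * q 4 + 46 * q 5 + 50 * q 6 + 39 * q 7 + 17 * q 8
    + 10 * p 9 + 34 * p 10 + 48 * p 11 ≤ 396) (h2 : a3 + 3 * q 2 + 39 * q 3 + 50 * q 4 + 29 * q 5
    + 10 * p 6 + 44 * p 7 + 48 * p 8 + 24 * p 9 + 17 * q 10 + 46 * q 11 ≤ 396) (h3 : a4 + 29 * q 2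
    + 50 * q 3 + 17 * q 4 + 34 * p 5 + 48 * p 6 + 10 * p 7 + 39 * q 8 + 46 * q 9 + 3 * q 10 + 44 *
    p 11 ≤ 396) (h4 : a5 + 46 * q 2 + 29 * q 3 + 34 * p 4 + 44 * p 5 + 17 * q 6 + 50 * q 7 + 3 * q
    8 + 48 * p 9 + 24 * p 10 + 39 * q 11 ≤ 396) (h5 : a6 + 50 * q 2 + 10 * p 3 + 48 * p 4 + 17 * q
    5 + 46 * q 6 + 24 * p 7 + 44 * p 8 + 29 * q 9 + 39 * q 10 + 34 * p 11 ≤ 396) (h6 : a7 + 39 * q
    2 + 44 * p 3 + 10 * p 4 + 50 * q 5 + 24 * p 6 + 34 * p 7 + 46 * q 8 + 3 * q 9 + 48 * p 10 + 29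
    * q 11 ≤ 396) (h7 : a8 + 17 * q 2 + 48 * p 3 + 39 * q 4 + 3 * q 5 + 44 * p 6 + 46 * q 7 + 10 *
    p 8 + 34 * p 9 + 50 * q 10 + 24 * p 11 ≤ 396) (h8 : a9 + 10 * p 2 + 24 * p 3 + 46 * q 4 + 48 *
    p 5 + 29 * q 6 + 3 * q 7 + 34 * p 8 + 50 * q 9 + 44 * p 10 + 17 * q 11 ≤ 396) (h9 : a10 + 34 *
    p 2 + 17 * q 3 + 3 * q 4 + 24 * p 5 + 39 * q 6 + 48 * p 7 + 50 * q 8 + 44 * p 9 + 29 * q 10 +
    10 * p 11 ≤ 396) (h10 : a11 + 48 * p 2 + 46 * q 3 + 44 * p 4 + 39 * q 5 + 34 * p 6 + 29 * q 7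
    + 24 * p 8 + 17 * q 9 + 10 * p 10 + 3 * q 11 ≤ 396) (h11 : s + p 2 + p 3 + p 4 + p 5 + p 6 + p
    7 + p 8 + p 9 + p 10 + p 11 ≤ 12) :
    (cc fun i => (n 11 :: n 10 :: n 9 :: n 8 :: n 7 :: n 6 :: n 5 :: n 4 :: n 3 :: n 2 :: l).getD (11 - i) 0) = true := by
  rw [cg1, (cok_iff ..).mpr ⟨by clear * - h0; omega,
    by clear * - h1; omega,
    by clear * - h2; omega,
    by clear * - h3; omega,
    by clear * - h4; omega,
    by clear * - h5; omega,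
    by clear * - h6; omega,
    by clear * - h7; omega,
    by clear * - h8; omega,
    by clear * - h9; omega,
    by clear * - h10; omega,
    by clear * - h11; omega⟩, cond_true] at h
  simp only [Bool.and_eq_true, Nat.add_eq] at h
  rcases r 2 (by norm_num) (by norm_num) with ⟨e, e1, e2⟩ | ⟨e, e1, e2⟩ | ⟨e, e1, e2⟩ <;> rw [e]
  · exact cs2 n p q r _ _ _ _ _ _ _ _ _ _ _ _ _ h.1.1
      (by rw [e1] at h0; exact h0) (by rw [e1] at h1; exact h1)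
      (by rw [e2] at h2; exact h2) (by rw [e2] at h3; exact h3)
      (by rw [e2] at h4; exact h4) (by rw [e2] at h5; exact h5)
      (by rw [e2] at h6; exact h6) (by rw [e2] at h7; exact h7)
      (by rw [e1] at h8; exact h8) (by rw [e1] at h9; exact h9)
      (by rw [e1] at h10; exact h10) (by rw [e1] at h11; exact h11)
  · exact cs2 n p q r _ _ _ _ _ _ _ _ _ _ _ _ _ h.1.2
      (by rw [e1] at h0; exact h0) (by rw [e1] at h1; exact h1)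
      (by rw [e2] at h2; exact h2) (by rw [e2] at h3; exact h3)
      (by rw [e2] at h4; exact h4) (by rw [e2] at h5; exact h5)
      (by rw [e2] at h6; exact h6) (by rw [e2] at h7; exact h7)
      (by rw [e1] at h8; exact h8) (by rw [e1] at h9; exact h9)
      (by rw [e1] at h10; exact h10) (by rw [e1] at h11; exact h11)
  · exact cs2 n p q r _ _ _ _ _ _ _ _ _ _ _ _ _ h.2
      (by rw [e1] at h0; exact h0) (by rw [e1] at h1; exact h1)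
      (by rw [e2] at h2; exact h2) (by rw [e2] at h3; exact h3)
      (by rw [e2] at h4; exact h4) (by rw [e2] at h5; exact h5)
      (by rw [e2] at h6; exact h6) (by rw [e2] at h7; exact h7)
      (by rw [e1] at h8; exact h8) (by rw [e1] at h9; exact h9)
      (by rw [e1] at h10; exact h10) (by rw [e1] at h11; exact h11)

/-- Level `0` of the search. -/
def cg0 (l : List ℕ) (a1 a2 a3 a4 a5 a6 a7 a8 a9 a10 a11 s : ℕ) : Bool :=
  bif cok a1 a2 a3 a4 a5 a6 a7 a8 a9 a10 a11 s then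
    cg1 (1 :: l) (Nat.add a1 0) (Nat.add a2 0) (Nat.add a3 0) (Nat.add a4 0) (Nat.add a5 0)
      (Nat.add a6 6) (Nat.add a7 34) (Nat.add a8 58) (Nat.add a9 78) (Nat.add a10 92) (Nat.add a11
      100) (Nat.add s 0) &&
    cg1 (2 :: l) (Nat.add a1 48) (Nat.add a2 44) (Nat.add a3 34) (Nat.add a4 24) (Nat.add a5 10)
      (Nat.add a6 3) (Nat.add a7 17) (Nat.add a8 29) (Nat.add a9 39) (Nat.add a10 46) (Nat.add a11
      50) (Nat.add s 1) &&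
    cg1 (3 :: l) (Nat.add a1 96) (Nat.add a2 88) (Nat.add a3 68) (Nat.add a4 48) (Nat.add a5 20)
      (Nat.add a6 0) (Nat.add a7 0) (Nat.add a8 0) (Nat.add a9 0) (Nat.add a10 0) (Nat.add a11 0)
      (Nat.add s 2)
  else true

theorem cs0 (n p q : ℕ → ℕ) (r : ∀ i, 0 < i → i < 12 → (n i = 1 ∧ p i = 0 ∧ q i = 2) ∨ (n i = 2 ∧
    p i = 1 ∧ q i = 1) ∨ (n i = 3 ∧ p i = 2 ∧ q i = 0)) (l : List ℕ) (a1 a2 a3 a4 a5 a6 a7 a8 a9
    a10 a11 s : ℕ) (h : cg0 l a1 a2 a3 a4 a5 a6 a7 a8 a9 a10 a11 s = true) (h0 : a1 + 48 * p 1 +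
    44 * p 2 + 34 * p 3 + 24 * p 4 + 10 * p 5 + 3 * q 6 + 17 * q 7 + 29 * q 8 + 39 * q 9 + 46 * q
    10 + 50 * q 11 ≤ 396) (h1 : a2 + 44 * p 1 + 24 * p 2 + 3 * q 3 + 29 * q 4 + 46 * q 5 + 50 * q
    6 + 39 * q 7 + 17 * q 8 + 10 * p 9 + 34 * p 10 + 48 * p 11 ≤ 396) (h2 : a3 + 34 * p 1 + 3 * q
    2 + 39 * q 3 + 50 * q 4 + 29 * q 5 + 10 * p 6 + 44 * p 7 + 48 * p 8 + 24 * p 9 + 17 * q 10 +
    46 * q 11 ≤ 396) (h3 : a4 + 24 * p 1 + 29 * q 2 + 50 * q 3 + 17 * q 4 + 34 * p 5 + 48 * p 6 +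
    10 * p 7 + 39 * q 8 + 46 * q 9 + 3 * q 10 + 44 * p 11 ≤ 396) (h4 : a5 + 10 * p 1 + 46 * q 2 +
    29 * q 3 + 34 * p 4 + 44 * p 5 + 17 * q 6 + 50 * q 7 + 3 * q 8 + 48 * p 9 + 24 * p 10 + 39 * q
    11 ≤ 396) (h5 : a6 + 3 * q 1 + 50 * q 2 + 10 * p 3 + 48 * p 4 + 17 * q 5 + 46 * q 6 + 24 * p 7
    + 44 * p 8 + 29 * q 9 + 39 * q 10 + 34 * p 11 ≤ 396) (h6 : a7 + 17 * q 1 + 39 * q 2 + 44 * p 3
    + 10 * p 4 + 50 * q 5 + 24 * p 6 + 34 * p 7 + 46 * q 8 + 3 * q 9 + 48 * p 10 + 29 * q 11 ≤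
    396) (h7 : a8 + 29 * q 1 + 17 * q 2 + 48 * p 3 + 39 * q 4 + 3 * q 5 + 44 * p 6 + 46 * q 7 + 10
    * p 8 + 34 * p 9 + 50 * q 10 + 24 * p 11 ≤ 396) (h8 : a9 + 39 * q 1 + 10 * p 2 + 24 * p 3 + 46
    * q 4 + 48 * p 5 + 29 * q 6 + 3 * q 7 + 34 * p 8 + 50 * q 9 + 44 * p 10 + 17 * q 11 ≤ 396) (h9
    : a10 + 46 * q 1 + 34 * p 2 + 17 * q 3 + 3 * q 4 + 24 * p 5 + 39 * q 6 + 48 * p 7 + 50 * q 8 +
    44 * p 9 + 29 * q 10 + 10 * p 11 ≤ 396) (h10 : a11 + 50 * q 1 + 48 * p 2 + 46 * q 3 + 44 * p 4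
    + 39 * q 5 + 34 * p 6 + 29 * q 7 + 24 * p 8 + 17 * q 9 + 10 * p 10 + 3 * q 11 ≤ 396) (h11 : s
    + p 1 + p 2 + p 3 + p 4 + p 5 + p 6 + p 7 + p 8 + p 9 + p 10 + p 11 ≤ 12) :
    (cc fun i => (n 11 :: n 10 :: n 9 :: n 8 :: n 7 :: n 6 :: n 5 :: n 4 :: n 3 :: n 2 :: n 1 :: l).getD (11 - i) 0) = true := by
  rw [cg0, (cok_iff ..).mpr ⟨by clear * - h0; omega,
    by clear * - h1; omega,
    by clear * - h2; omega,
    by clear * - h3; omega,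
    by clear * - h4; omega,
    by clear * - h5; omega,
    by clear * - h6; omega,
    by clear * - h7; omega,
    by clear * - h8; omega,
    by clear * - h9; omega,
    by clear * - h10; omega,
    by clear * - h11; omega⟩, cond_true] at h
  simp only [Bool.and_eq_true, Nat.add_eq] at h
  rcases r 1 (by norm_num) (by norm_num) with ⟨e, e1, e2⟩ | ⟨e, e1, e2⟩ | ⟨e, e1, e2⟩ <;> rw [e]
  · exact cs1 n p q r _ _ _ _ _ _ _ _ _ _ _ _ _ h.1.1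
      (by rw [e1] at h0; exact h0) (by rw [e1] at h1; exact h1)
      (by rw [e1] at h2; exact h2) (by rw [e1] at h3; exact h3)
      (by rw [e1] at h4; exact h4) (by rw [e2] at h5; exact h5)
      (by rw [e2] at h6; exact h6) (by rw [e2] at h7; exact h7)
      (by rw [e2] at h8; exact h8) (by rw [e2] at h9; exact h9)
      (by rw [e2] at h10; exact h10) (by rw [e1] at h11; exact h11)
  · exact cs1 n p q r _ _ _ _ _ _ _ _ _ _ _ _ _ h.1.2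
      (by rw [e1] at h0; exact h0) (by rw [e1] at h1; exact h1)
      (by rw [e1] at h2; exact h2) (by rw [e1] at h3; exact h3)
      (by rw [e1] at h4; exact h4) (by rw [e2] at h5; exact h5)
      (by rw [e2] at h6; exact h6) (by rw [e2] at h7; exact h7)
      (by rw [e2] at h8; exact h8) (by rw [e2] at h9; exact h9)
      (by rw [e2] at h10; exact h10) (by rw [e1] at h11; exact h11)
  · exact cs1 n p q r _ _ _ _ _ _ _ _ _ _ _ _ _ h.2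
      (by rw [e1] at h0; exact h0) (by rw [e1] at h1; exact h1)
      (by rw [e1] at h2; exact h2) (by rw [e1] at h3; exact h3)
      (by rw [e1] at h4; exact h4) (by rw [e2] at h5; exact h5)
      (by rw [e2] at h6; exact h6) (by rw [e2] at h7; exact h7)
      (by rw [e2] at h8; exact h8) (by rw [e2] at h9; exact h9)
      (by rw [e2] at h10; exact h10) (by rw [e1] at h11; exact h11)

theorem cchk : cg0 [0] 0 0 0 0 0 0 0 0 0 0 0 0 = true := by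
  decide +kernel

/-- The test vector. -/
def zf (i : ℕ) : ℤ := [2, 2, 2, 1, 1, 0, 0, -1, -1, -2, -2, -2, -2, -2, -2, -1, -1, 0, 0, 1, 1, 2, 2].getD (i % 23) 0

/-- Its autocorrelation. -/
def Af (i : ℕ) : ℤ := [52, 48, 44, 34, 24, 10, -3, -17, -29, -39, -46, -50, -50, -46, -39, -29, -17, -3, 10, 24, 34, 44,
    48].getD (i % 23) 0

theorem zA : ∀ j : Fin 12, ∀ e : Fin 23, j ≠ 0 →
    ∑ a : Fin 23, zf (j * a) * zf (j * (a + e : Fin 23)) = Af (j * e) := by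
  decide +kernel

theorem Av : Af 1 = 48 ∧ Af 2 = 44 ∧ Af 3 = 34 ∧ Af 4 = 24 ∧ Af 5 = 10 ∧ Af 6 = -3 ∧ Af 7 = -17 ∧ Af 8 = -29 ∧
    Af 9 = -39 ∧ Af 10 = -46 ∧ Af 11 = -50 ∧ Af 12 = -50 ∧ Af 14 = -39 ∧ Af 15 = -29 ∧ Af 16 = -17
    ∧ Af 18 = 10 ∧ Af 20 = 34 ∧ Af 21 = 44 ∧ Af 22 = 48 ∧ Af 24 = 48 ∧ Af 25 = 44 ∧ Af 27 = 24 ∧
    Af 28 = 10 ∧ Af 30 = -17 ∧ Af 32 = -39 ∧ Af 33 = -46 ∧ Af 35 = -50 ∧ Af 36 = -46 ∧ Af 40 = -3
    ∧ Af 42 = 24 ∧ Af 44 = 44 ∧ Af 45 = 48 ∧ Af 48 = 44 ∧ Af 49 = 34 ∧ Af 50 = 24 ∧ Af 54 = -29 ∧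
    Af 55 = -39 ∧ Af 56 = -46 ∧ Af 60 = -39 ∧ Af 63 = -3 ∧ Af 64 = 10 ∧ Af 66 = 34 ∧ Af 70 = 48 ∧
    Af 72 = 34 ∧ Af 77 = -29 ∧ Af 80 = -50 ∧ Af 81 = -50 ∧ Af 88 = 24 ∧ Af 90 = 44 ∧ Af 99 = -17 ∧
    Af 100 = -29 ∧ Af 110 = 10 ∧ Af 121 = -3 := by
  decide +kernel

theorem circ (n : ℕ → ℕ) (h1 : ∀ i, 0 < i → i < 12 → 1 ≤ n i ∧ n i ≤ 3)
    (hs : ∑ i ∈ Finset.range 11, n (i + 1) ≤ 23)
    (hj : ∀ j, 0 < j → j < 12 → ∑ i ∈ Finset.range 11, Af (j * (i + 1)) * n (i + 1) ≤ 4) :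
    (∀ i, 0 < i → i < 12 → n i = 2) ∨ (∀ i, 0 < i → i < 12 → n i = 1) ∨
      ∃ a, 0 < a ∧ a < 12 ∧ (n a = 1 ∨ n a = 3) ∧ ∀ i, 0 < i → i < 12 → i ≠ a → n i = 2 := by
  have j1 := hj 1 (by norm_num) (by norm_num)
  have j2 := hj 2 (by norm_num) (by norm_num)
  have j3 := hj 3 (by norm_num) (by norm_num)
  have j4 := hj 4 (by norm_num) (by norm_num)
  have j5 := hj 5 (by norm_num) (by norm_num)
  have j6 := hj 6 (by norm_num) (by norm_num)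
  have j7 := hj 7 (by norm_num) (by norm_num)
  have j8 := hj 8 (by norm_num) (by norm_num)
  have j9 := hj 9 (by norm_num) (by norm_num)
  have j10 := hj 10 (by norm_num) (by norm_num)
  have j11 := hj 11 (by norm_num) (by norm_num)
  obtain ⟨p, q, hp⟩ : ∃ p q : ℕ → ℕ, ∀ i, 0 < i → i < 12 → p i + 1 = n i ∧ q i + n i = 3 :=
    ⟨fun i => n i - 1, fun i => 3 - n i, fun i a b => by have := h1 i a b; clear * - this; beta_reduce; omega⟩
  obtain ⟨r1, s1⟩ := hp 1 (by norm_num) (by norm_num)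
  obtain ⟨r2, s2⟩ := hp 2 (by norm_num) (by norm_num)
  obtain ⟨r3, s3⟩ := hp 3 (by norm_num) (by norm_num)
  obtain ⟨r4, s4⟩ := hp 4 (by norm_num) (by norm_num)
  obtain ⟨r5, s5⟩ := hp 5 (by norm_num) (by norm_num)
  obtain ⟨r6, s6⟩ := hp 6 (by norm_num) (by norm_num)
  obtain ⟨r7, s7⟩ := hp 7 (by norm_num) (by norm_num)
  obtain ⟨r8, s8⟩ := hp 8 (by norm_num) (by norm_num)
  obtain ⟨r9, s9⟩ := hp 9 (by norm_num) (by norm_num)
  obtain ⟨r10, s10⟩ := hp 10 (by norm_num) (by norm_num)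
  obtain ⟨r11, s11⟩ := hp 11 (by norm_num) (by norm_num)
  simp only [Finset.sum_range_succ, Finset.sum_range_zero, Nat.reduceAdd, Nat.reduceMul, Av,
    zero_add] at hs j1 j2 j3 j4 j5 j6 j7 j8 j9 j10 j11
  have e := cs0 n p q (fun i a b => by have := hp i a b; clear * - this; omega) _ _ _ _ _ _ _ _ _ _ _ _ _ cchk
    (by clear * - j1 r1 s1 r2 s2 r3 s3 r4 s4 r5 s5 r6 s6 r7 s7 r8 s8 r9 s9 r10 s10 r11 s11; omega)
    (by clear * - j2 r1 s1 r2 s2 r3 s3 r4 s4 r5 s5 r6 s6 r7 s7 r8 s8 r9 s9 r10 s10 r11 s11; omega)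
    (by clear * - j3 r1 s1 r2 s2 r3 s3 r4 s4 r5 s5 r6 s6 r7 s7 r8 s8 r9 s9 r10 s10 r11 s11; omega)
    (by clear * - j4 r1 s1 r2 s2 r3 s3 r4 s4 r5 s5 r6 s6 r7 s7 r8 s8 r9 s9 r10 s10 r11 s11; omega)
    (by clear * - j5 r1 s1 r2 s2 r3 s3 r4 s4 r5 s5 r6 s6 r7 s7 r8 s8 r9 s9 r10 s10 r11 s11; omega)
    (by clear * - j6 r1 s1 r2 s2 r3 s3 r4 s4 r5 s5 r6 s6 r7 s7 r8 s8 r9 s9 r10 s10 r11 s11; omega)
    (by clear * - j7 r1 s1 r2 s2 r3 s3 r4 s4 r5 s5 r6 s6 r7 s7 r8 s8 r9 s9 r10 s10 r11 s11; omega)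
    (by clear * - j8 r1 s1 r2 s2 r3 s3 r4 s4 r5 s5 r6 s6 r7 s7 r8 s8 r9 s9 r10 s10 r11 s11; omega)
    (by clear * - j9 r1 s1 r2 s2 r3 s3 r4 s4 r5 s5 r6 s6 r7 s7 r8 s8 r9 s9 r10 s10 r11 s11; omega)
    (by clear * - j10 r1 s1 r2 s2 r3 s3 r4 s4 r5 s5 r6 s6 r7 s7 r8 s8 r9 s9 r10 s10 r11 s11; omega)
    (by clear * - j11 r1 s1 r2 s2 r3 s3 r4 s4 r5 s5 r6 s6 r7 s7 r8 s8 r9 s9 r10 s10 r11 s11; omega)
    (by clear * - hs r1 s1 r2 s2 r3 s3 r4 s4 r5 s5 r6 s6 r7 s7 r8 s8 r9 s9 r10 s10 r11 s11; omega)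
  clear * - e
  have g : ∀ i ∈ List.range' 1 11,
      [n 11, n 10, n 9, n 8, n 7, n 6, n 5, n 4, n 3, n 2, n 1, 0].getD (11 - i) 0 = n i := by
    simp [List.range']
  have r : ∀ i, 0 < i → i < 12 → i ∈ List.range' 1 11 := fun i a b => by
    rw [List.mem_range'_1]
    omega
  simp only [cc, Bool.or_eq_true, List.all_eq_true, List.any_eq_true, Bool.and_eq_true,
    beq_iff_eq] at e
  rcases e with (e | e) | ⟨a, ha, e1, e2⟩
  · exact Or.inl fun i a b => by rw [← g i (r i a b)]; exact e i (r i a b)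
  · exact Or.inr (Or.inl fun i a b => by rw [← g i (r i a b)]; exact e i (r i a b))
  · rw [g a ha] at e1
    rw [List.mem_range'_1] at ha
    refine Or.inr (Or.inr ⟨a, by omega, by omega, e1, fun i b c d => ?_⟩)
    rw [← g i (r i b c)]
    exact (e2 i (r i b c)).resolve_left d

end Cfsg.Agent.H2.F23
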