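import Mathlib

set_option autoImplicit false

namespace Cfsg.Agent.H2

/-- A concrete field with 16 elements. -/
def GF16 : Type := Fin 16

namespace GF16

instance instDecEq : DecidableEq GF16 := inferInstanceAs (DecidableEq (Fin 16))
instance instFintype : Fintype GF16 := inferInstanceAs (Fintype (Fin 16))

/-- Constructor from a natural number. -/
def mk (n : ℕ) : GF16 := (⟨n % 16, Nat.mod_lt _ (by decide)⟩ : Fin 16)

/-- The underlying number. -/
def toNat (a : GF16) : ℕ := Fin.val (n := 16) a

instance instZero : Zero GF16 := ⟨mk 0⟩
instance instOne : One GF16 := ⟨mk 1⟩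
instance instAdd : Add GF16 := ⟨fun a b => mk (a.toNat ^^^ b.toNat)⟩
instance instNeg : Neg GF16 := ⟨fun a => a⟩
instance instMul : Mul GF16 := ⟨fun a b => mk (116196760129267793630862849262464326346044543732748708940920453221664288556434379745879494961270582141731748813355742142288220638766218855867759359510984593843506004200114943278699875244065120512813025380665946106619127097398772031257643617143689515450995722003729973585221105779229319991106539050771048038400 >>> (4 * (16 * a.toNat + b.toNat)))⟩
instance instInv : Inv GF16 := ⟨fun a => mk (9460475325918865680 >>> (4 * a.toNat))⟩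

instance instField : Field GF16 :=
  Field.ofMinimalAxioms GF16 (by decide +kernel) (by decide +kernel) (by decide +kernel)
    (by decide +kernel) (by decide +kernel) (by decide +kernel) (by decide +kernel)
    (by decide +kernel) (by decide +kernel) ⟨0, 1, by decide +kernel⟩

theorem card : Fintype.card GF16 = 16 := rfl

end GF16

/-- A concrete field with 4 elements. -/
def GF4 : Type := Fin 4

namespace GF4

instance instDecEq : DecidableEq GF4 := inferInstanceAs (DecidableEq (Fin 4))
instance instFintype : Fintype GF4 := inferInstanceAs (Fintype (Fin 4))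

/-- Constructor from a natural number. -/
def mk (n : ℕ) : GF4 := (⟨n % 4, Nat.mod_lt _ (by decide)⟩ : Fin 4)

/-- The underlying number. -/
def toNat (a : GF4) : ℕ := Fin.val (n := 4) a

instance instZero : Zero GF4 := ⟨mk 0⟩
instance instOne : One GF4 := ⟨mk 1⟩
instance instAdd : Add GF4 := ⟨fun a b => mk (a.toNat ^^^ b.toNat)⟩
instance instNeg : Neg GF4 := ⟨fun a => a⟩
instance instMul : Mul GF4 := ⟨fun a b => mk (2625168384 >>> (2 * (4 * a.toNat + b.toNat)))⟩
instance instInv : Inv GF4 := ⟨fun a => mk (180 >>> (2 * a.toNat))⟩

instance instField : Field GF4 :=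
  Field.ofMinimalAxioms GF4 (by decide +kernel) (by decide +kernel) (by decide +kernel)
    (by decide +kernel) (by decide +kernel) (by decide +kernel) (by decide +kernel)
    (by decide +kernel) (by decide +kernel) ⟨0, 1, by decide +kernel⟩

theorem card : Fintype.card GF4 = 4 := rfl

end GF4

end Cfsg.Agent.H2
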