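import Mathlib.LinearAlgebra.Matrix.SpecialLinearGroup
import Mathlib.LinearAlgebra.CrossProduct
import Mathlib.Algebra.CharP.Two
import Mathlib.GroupTheory.Sylow
import Mathlib.FieldTheory.Finite.Basic
import Cfsg.Agent.H8.ONan4

/-!
# Matrices in `SL₃` over a field of characteristic two
-/

set_option autoImplicit false

namespace Cfsg.Agent.H2.L3

open Matrix

/-- Vectors. -/
abbrev Vec (F : Type) := Fin 3 → F

/-- The special linear group. -/
abbrev SL (F : Type) [Field F] := Matrix.SpecialLinearGroup (Fin 3) F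

variable {F : Type} [Field F]

theorem smul_eq (g : SL F) (x : Vec F) : g • x = g.1 *ᵥ x := rfl

theorem smul_apply (g : SL F) (x : Vec F) (i : Fin 3) :
    (g • x) i = g.1 i 0 * x 0 + g.1 i 1 * x 1 + g.1 i 2 * x 2 := by
  rw [smul_eq]; simp [mulVec, dotProduct, Fin.sum_univ_three]

theorem smul_smul' (g : SL F) (c : F) (x : Vec F) : g • (c • x) = c • (g • x) := smul_comm _ _ _

theorem dot3 (f x : Vec F) : f ⬝ᵥ x = f 0 * x 0 + f 1 * x 1 + f 2 * x 2 := by
  simp [dotProduct, Fin.sum_univ_three]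

theorem vec_ext {x y : Vec F} (h0 : x 0 = y 0) (h1 : x 1 = y 1) (h2 : x 2 = y 2) : x = y := by
  funext i; fin_cases i <;> assumption

theorem vec_ne_zero {x : Vec F} : x ≠ 0 ↔ x 0 ≠ 0 ∨ x 1 ≠ 0 ∨ x 2 ≠ 0 := by
  constructor
  · intro h
    by_contra h'
    push Not at h'
    exact h (vec_ext h'.1 h'.2.1 h'.2.2)
  · rintro h rfl
    simp at h

/-- Basis vectors. -/
def e0 : Vec F := ![1, 0, 0]
/-- Basis vectors. -/
def e1 : Vec F := ![0, 1, 0]
/-- Basis vectors. -/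
def e2 : Vec F := ![0, 0, 1]

@[simp] theorem e0_0 : (e0 : Vec F) 0 = 1 := rfl
@[simp] theorem e0_1 : (e0 : Vec F) 1 = 0 := rfl
@[simp] theorem e0_2 : (e0 : Vec F) 2 = 0 := rfl
@[simp] theorem e1_0 : (e1 : Vec F) 0 = 0 := rfl
@[simp] theorem e1_1 : (e1 : Vec F) 1 = 1 := rfl
@[simp] theorem e1_2 : (e1 : Vec F) 2 = 0 := rfl
@[simp] theorem e2_0 : (e2 : Vec F) 0 = 0 := rfl
@[simp] theorem e2_1 : (e2 : Vec F) 1 = 0 := rfl
@[simp] theorem e2_2 : (e2 : Vec F) 2 = 1 := rfl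

theorem e0_ne : (e0 : Vec F) ≠ 0 := vec_ne_zero.mpr (by simp)
theorem e1_ne : (e1 : Vec F) ≠ 0 := vec_ne_zero.mpr (by simp)
theorem e2_ne : (e2 : Vec F) ≠ 0 := vec_ne_zero.mpr (by simp)

theorem smul_e0 (g : SL F) (i : Fin 3) : (g • (e0 : Vec F)) i = g.1 i 0 := by simp [smul_apply]
theorem smul_e1 (g : SL F) (i : Fin 3) : (g • (e1 : Vec F)) i = g.1 i 1 := by simp [smul_apply]
theorem smul_e2 (g : SL F) (i : Fin 3) : (g • (e2 : Vec F)) i = g.1 i 2 := by simp [smul_apply]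

theorem sl_ext {g h : SL F} (e : ∀ x : Vec F, g • x = h • x) : g = h := by
  ext i j
  fin_cases j
  · exact (smul_e0 g i).symm.trans ((congrFun (e e0) i).trans (smul_e0 h i))
  · exact (smul_e1 g i).symm.trans ((congrFun (e e1) i).trans (smul_e1 h i))
  · exact (smul_e2 g i).symm.trans ((congrFun (e e2) i).trans (smul_e2 h i))

theorem smul_ne_zero' (g : SL F) {x : Vec F} (hx : x ≠ 0) : g • x ≠ 0 := by
  intro h
  apply hx
  rw [← inv_smul_smul g x, h, smul_zero]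

theorem det3 (g : SL F) : g.1 0 0 * g.1 1 1 * g.1 2 2 - g.1 0 0 * g.1 1 2 * g.1 2 1
    - g.1 0 1 * g.1 1 0 * g.1 2 2 + g.1 0 1 * g.1 1 2 * g.1 2 0
    + g.1 0 2 * g.1 1 0 * g.1 2 1 - g.1 0 2 * g.1 1 1 * g.1 2 0 = 1 := by
  rw [← det_fin_three]; exact g.2

theorem mul_apply3 (g h : SL F) (i j : Fin 3) :
    (g * h).1 i j = g.1 i 0 * h.1 0 j + g.1 i 1 * h.1 1 j + g.1 i 2 * h.1 2 j := by
  show (g.1 * h.1) i j = _
  simp [mul_apply, Fin.sum_univ_three]

/-- A matrix of determinant one from its entries. -/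
def mk3 (a b c d e f g h i : F)
    (hd : a * e * i - a * f * h - b * d * i + b * f * g + c * d * h - c * e * g = 1) : SL F :=
  ⟨!![a, b, c; d, e, f; g, h, i], by rw [det_fin_three]; simpa using hd⟩

@[simp] theorem mk3_00 (a b c d e f g h i : F) (hd) :
    (mk3 a b c d e f g h i hd).1 0 0 = a := rfl
@[simp] theorem mk3_01 (a b c d e f g h i : F) (hd) :
    (mk3 a b c d e f g h i hd).1 0 1 = b := rfl
@[simp] theorem mk3_02 (a b c d e f g h i : F) (hd) :
    (mk3 a b c d e f g h i hd).1 0 2 = c := rfl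
@[simp] theorem mk3_10 (a b c d e f g h i : F) (hd) :
    (mk3 a b c d e f g h i hd).1 1 0 = d := rfl
@[simp] theorem mk3_11 (a b c d e f g h i : F) (hd) :
    (mk3 a b c d e f g h i hd).1 1 1 = e := rfl
@[simp] theorem mk3_12 (a b c d e f g h i : F) (hd) :
    (mk3 a b c d e f g h i hd).1 1 2 = f := rfl
@[simp] theorem mk3_20 (a b c d e f g h i : F) (hd) :
    (mk3 a b c d e f g h i hd).1 2 0 = g := rfl
@[simp] theorem mk3_21 (a b c d e f g h i : F) (hd) :
    (mk3 a b c d e f g h i hd).1 2 1 = h := rfl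
@[simp] theorem mk3_22 (a b c d e f g h i : F) (hd) :
    (mk3 a b c d e f g h i hd).1 2 2 = i := rfl

theorem mk3_smul (a b c d e f g h i : F) (hd) (x : Vec F) : mk3 a b c d e f g h i hd • x =
    ![a * x 0 + b * x 1 + c * x 2, d * x 0 + e * x 1 + f * x 2, g * x 0 + h * x 1 + i * x 2] := by
  apply vec_ext <;> rw [smul_apply] <;> rfl

theorem cross_dot (u v w : Vec F) : (u ⨯₃ v) ⬝ᵥ w = (u 1 * v 2 - u 2 * v 1) * w 0 +
    (u 2 * v 0 - u 0 * v 2) * w 1 + (u 0 * v 1 - u 1 * v 0) * w 2 := by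
  rw [dot3, cross_apply]; rfl

open Classical in
/-- The transvection `x ↦ x + (f ⬝ x) u`. -/
noncomputable def tv (u f : Vec F) : SL F :=
  if h : f ⬝ᵥ u = 0 then
    mk3 (1 + u 0 * f 0) (u 0 * f 1) (u 0 * f 2) (u 1 * f 0) (1 + u 1 * f 1) (u 1 * f 2)
      (u 2 * f 0) (u 2 * f 1) (1 + u 2 * f 2) (by rw [dot3] at h; linear_combination h)
  else 1

theorem tv_smul {u f : Vec F} (h : f ⬝ᵥ u = 0) (x : Vec F) : tv u f • x = x + (f ⬝ᵥ x) • u := by
  rw [tv, dif_pos h, mk3_smul, dot3]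
  apply vec_ext <;> simp <;> ring

/-- The action on linear forms. -/
def cv (g : SL F) (f : Vec F) : Vec F := f ᵥ* (g⁻¹).1

theorem cv_dot (g : SL F) (f x : Vec F) : cv g f ⬝ᵥ x = f ⬝ᵥ (g⁻¹ • x) := by
  rw [cv, smul_eq, dotProduct_mulVec]

theorem cv_dot_smul (g : SL F) (f x : Vec F) : cv g f ⬝ᵥ (g • x) = f ⬝ᵥ x := by
  rw [cv_dot, inv_smul_smul]

theorem eq_of_dot {f f' : Vec F} (h : ∀ x, f ⬝ᵥ x = f' ⬝ᵥ x) : f = f' := by
  have h0 := h e0
  have h1 := h e1
  have h2 := h e2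
  simp [dot3] at h0 h1 h2
  exact vec_ext h0 h1 h2

theorem cv_cv_inv (g : SL F) (f : Vec F) : cv g (cv g⁻¹ f) = f :=
  eq_of_dot fun x => by rw [cv_dot, cv_dot, inv_inv, smul_inv_smul]

theorem cv_ne_zero (g : SL F) {f : Vec F} (hf : f ≠ 0) : cv g f ≠ 0 := by
  intro h
  apply hf
  apply eq_of_dot
  intro x
  rw [← cv_dot_smul g, h]; simp

theorem conj_tv (g : SL F) {u f : Vec F} (h : f ⬝ᵥ u = 0) :
    g * tv u f * g⁻¹ = tv (g • u) (cv g f) := by
  apply sl_ext
  intro x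
  rw [mul_smul, mul_smul, tv_smul h, tv_smul (by rw [cv_dot_smul, h]), smul_add, smul_inv_smul,
    smul_smul', cv_dot]

theorem tv_mul_right {u f f' : Vec F} (h : f ⬝ᵥ u = 0) (h' : f' ⬝ᵥ u = 0) :
    tv u f * tv u f' = tv u (f + f') := by
  apply sl_ext
  intro x
  rw [mul_smul, tv_smul h, tv_smul h', tv_smul (by rw [add_dotProduct, h, h', add_zero]),
    dotProduct_add, dotProduct_smul, h, add_dotProduct]
  simp only [smul_eq_mul, mul_zero, add_zero, add_smul]
  abel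

theorem tv_zero_right (u : Vec F) : tv u 0 = 1 := by
  apply sl_ext
  intro x
  rw [tv_smul (by simp)]; simp

theorem tv_zero_left (f : Vec F) : tv 0 f = 1 := by
  apply sl_ext
  intro x
  rw [tv_smul (by simp)]; simp

theorem tv_smul_left (c : F) {u f : Vec F} (h : f ⬝ᵥ u = 0) : tv (c • u) f = tv u (c • f) := by
  apply sl_ext
  intro x
  rw [tv_smul (by simp [h]), tv_smul (by simp [h]), smul_dotProduct, smul_smul, smul_eq_mul,
    mul_comm]

theorem exists_dot_eq {f : Vec F} (hf : f ≠ 0) (c : F) : ∃ x, f ⬝ᵥ x = c := by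
  rcases vec_ne_zero.mp hf with h | h | h
  · exact ⟨(c / f 0) • e0, by simp [dot3]; field_simp⟩
  · exact ⟨(c / f 1) • e1, by simp [dot3]; field_simp⟩
  · exact ⟨(c / f 2) • e2, by simp [dot3]; field_simp⟩

theorem tv_eq_one {u f : Vec F} (h : f ⬝ᵥ u = 0) (e : tv u f = 1) : u = 0 ∨ f = 0 := by
  by_contra h'
  push Not at h'
  obtain ⟨x, hx⟩ := exists_dot_eq h'.2 1
  have := tv_smul h x
  rw [e, one_smul, hx, one_smul] at this
  exact h'.1 (by simpa using this)

/-- `v'` is a multiple of `v`. -/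
def Par (v v' : Vec F) : Prop := ∃ c : F, v' = c • v

theorem Par.refl (v : Vec F) : Par v v := ⟨1, (one_smul _ _).symm⟩

theorem Par.symm {v v' : Vec F} (h : Par v v') (h' : v' ≠ 0) : Par v' v := by
  obtain ⟨c, rfl⟩ := h
  have hc : c ≠ 0 := by rintro rfl; simp at h'
  exact ⟨c⁻¹, by rw [smul_smul, inv_mul_cancel₀ hc, one_smul]⟩

theorem Par.trans {v v' v'' : Vec F} (h : Par v v') (h' : Par v' v'') : Par v v'' := by
  obtain ⟨c, rfl⟩ := h
  obtain ⟨c', rfl⟩ := h'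
  exact ⟨c' * c, by rw [smul_smul]⟩

theorem Par.smul (g : SL F) {v v' : Vec F} (h : Par v v') : Par (g • v) (g • v') := by
  obtain ⟨c, rfl⟩ := h
  exact ⟨c, smul_smul' _ _ _⟩

theorem par_smul_iff (g : SL F) {v v' : Vec F} : Par (g • v) (g • v') ↔ Par v v' :=
  ⟨fun h => by simpa using h.smul g⁻¹, fun h => h.smul g⟩

theorem par_e0 {v : Vec F} : Par e0 v ↔ v 1 = 0 ∧ v 2 = 0 := by
  constructor
  · rintro ⟨c, rfl⟩; simp
  · rintro ⟨h1, h2⟩; exact ⟨v 0, vec_ext (by simp) (by simp [h1]) (by simp [h2])⟩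

theorem cross_ne_zero {u v : Vec F} (hu : u ≠ 0) (h : ¬ Par u v) : u ⨯₃ v ≠ 0 := by
  intro e
  have e0 := congrFun e 0
  have e1 := congrFun e 1
  have e2 := congrFun e 2
  simp [cross_apply] at e0 e1 e2
  apply h
  rcases vec_ne_zero.mp hu with h | h | h
  · refine ⟨v 0 / u 0, vec_ext ?_ ?_ ?_⟩ <;> simp <;> field_simp
    · linear_combination e2
    · linear_combination -e1
  · refine ⟨v 1 / u 1, vec_ext ?_ ?_ ?_⟩ <;> simp <;> field_simp
    · linear_combination -e2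
    · linear_combination e0
  · refine ⟨v 2 / u 2, vec_ext ?_ ?_ ?_⟩ <;> simp <;> field_simp
    · linear_combination e1
    · linear_combination -e0

theorem exists_cols {u v w : Vec F} (h : (u ⨯₃ v) ⬝ᵥ w = 1) :
    ∃ g : SL F, g • e0 = u ∧ g • e1 = v ∧ g • e2 = w := by
  refine ⟨mk3 (u 0) (v 0) (w 0) (u 1) (v 1) (w 1) (u 2) (v 2) (w 2) ?_, ?_, ?_, ?_⟩
  · rw [cross_dot] at h
    linear_combination h
  all_goals rw [mk3_smul]; apply vec_ext <;> simp

theorem exists_pair {u v : Vec F} (hu : u ≠ 0) (h : ¬ Par u v) :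
    ∃ g : SL F, g • e0 = u ∧ g • e1 = v := by
  obtain ⟨w, hw⟩ := exists_dot_eq (cross_ne_zero hu h) 1
  obtain ⟨g, h1, h2, -⟩ := exists_cols hw
  exact ⟨g, h1, h2⟩

theorem exists_not_par {u : Vec F} (hu : u ≠ 0) : ∃ v, ¬ Par u v := by
  by_contra h
  push Not at h
  obtain ⟨c, hc⟩ := h e0
  obtain ⟨d, hd⟩ := h e1
  have a0 := congrFun hc 0
  have a1 := congrFun hc 1
  have b0 := congrFun hd 0
  have b1 := congrFun hd 1
  simp only [e0_0, e0_1, e1_0, e1_1, Pi.smul_apply, smul_eq_mul] at a0 a1 b0 b1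
  have : (1 : F) = 0 := by linear_combination a0 + (c * u 0) * b1 - (d * u 0) * a1
  exact one_ne_zero this

theorem exists_one {u : Vec F} (hu : u ≠ 0) : ∃ g : SL F, g • e0 = u := by
  obtain ⟨v, hv⟩ := exists_not_par hu
  obtain ⟨g, h, -⟩ := exists_pair hu hv
  exact ⟨g, h⟩

theorem exists_smul_eq {u v : Vec F} (hu : u ≠ 0) (hv : v ≠ 0) : ∃ g : SL F, g • u = v := by
  obtain ⟨g, rfl⟩ := exists_one hu
  obtain ⟨h, rfl⟩ := exists_one hv
  exact ⟨h * g⁻¹, by rw [mul_smul, inv_smul_smul]⟩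

/-- A linear form separating two vectors. -/
theorem exists_form {u v : Vec F} (hu : u ≠ 0) (h : ¬ Par u v) (c : F) :
    ∃ f : Vec F, f ⬝ᵥ u = 0 ∧ f ⬝ᵥ v = c := by
  obtain ⟨g, rfl, rfl⟩ := exists_pair hu h
  exact ⟨cv g (c • e1), by rw [cv_dot_smul, dot3]; simp, by rw [cv_dot_smul, dot3]; simp⟩

/-- A linear form vanishing on two vectors. -/
theorem exists_form_two (u v : Vec F) : ∃ f : Vec F, f ≠ 0 ∧ f ⬝ᵥ u = 0 ∧ f ⬝ᵥ v = 0 := by
  by_cases hu : u = 0
  · by_cases hv : v = 0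
    · exact ⟨e0, e0_ne, by simp [hu], by simp [hv]⟩
    · obtain ⟨g, rfl⟩ := exists_one hv
      exact ⟨cv g e1, cv_ne_zero _ e1_ne, by simp [hu], by rw [cv_dot_smul, dot3]; simp⟩
  · by_cases h : Par u v
    · obtain ⟨c, rfl⟩ := h
      obtain ⟨g, rfl⟩ := exists_one hu
      exact ⟨cv g e1, cv_ne_zero _ e1_ne, by rw [cv_dot_smul, dot3]; simp,
        by rw [← smul_smul', cv_dot_smul, dot3]; simp⟩
    · obtain ⟨g, rfl, rfl⟩ := exists_pair hu h
      exact ⟨cv g e2, cv_ne_zero _ e2_ne, by rw [cv_dot_smul, dot3]; simp,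
        by rw [cv_dot_smul, dot3]; simp⟩

/-- The kernel of a form is spanned by two independent vectors. -/
theorem exists_comb {u v w f : Vec F} (hu : u ≠ 0) (h : ¬ Par u v) (hf : f ≠ 0)
    (h1 : f ⬝ᵥ u = 0) (h2 : f ⬝ᵥ v = 0) (h3 : f ⬝ᵥ w = 0) : ∃ a b : F, w = a • u + b • v := by
  obtain ⟨g, rfl, rfl⟩ := exists_pair hu h
  obtain ⟨f, rfl⟩ : ∃ f', f = cv g f' := ⟨_, (cv_cv_inv g f).symm⟩
  obtain ⟨w, rfl⟩ : ∃ w', w = g • w' := ⟨g⁻¹ • w, by simp⟩
  rw [cv_dot_smul, dot3] at h1 h2 h3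
  simp only [e0_0, e0_1, e0_2, e1_0, e1_1, e1_2, mul_one, mul_zero, add_zero, zero_add] at h1 h2
  have hf2 : f 2 ≠ 0 := by
    intro h
    apply hf
    rw [show f = 0 from vec_ext h1 h2 h]
    exact eq_of_dot fun x => by rw [cv_dot]; simp
  have hw : w 2 = 0 := by
    rw [h1, h2] at h3
    simpa [hf2] using h3
  refine ⟨w 0, w 1, ?_⟩
  rw [← smul_smul', ← smul_smul', ← smul_add]
  congr 1
  exact vec_ext (by simp) (by simp) (by simp [hw])

/-- Two forms vanishing on two independent vectors are proportional. -/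
theorem par_of_forms {u v f f' : Vec F} (hu : u ≠ 0) (h : ¬ Par u v) (hf : f ≠ 0)
    (h1 : f ⬝ᵥ u = 0) (h2 : f ⬝ᵥ v = 0) (h1' : f' ⬝ᵥ u = 0) (h2' : f' ⬝ᵥ v = 0) : Par f f' := by
  obtain ⟨x, hx⟩ := exists_dot_eq hf 1
  refine ⟨f' ⬝ᵥ x, eq_of_dot fun y => ?_⟩
  obtain ⟨a, b, e⟩ := exists_comb (w := y - (f ⬝ᵥ y) • x) hu h hf h1 h2 (by simp [hx])
  have := congrArg (f' ⬝ᵥ ·) e
  simp only [dotProduct_sub, dotProduct_smul, dotProduct_add, h1', h2', smul_eq_mul] at this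
  rw [smul_dotProduct, smul_eq_mul]
  linear_combination this

/-- All transvections are conjugate. -/
theorem exists_flag {u f : Vec F} (hu : u ≠ 0) (hf : f ≠ 0) (h : f ⬝ᵥ u = 0) :
    ∃ g : SL F, g • e0 = u ∧ cv g e2 = f := by
  obtain ⟨g, rfl⟩ := exists_one hu
  obtain ⟨f, rfl⟩ : ∃ f', f = cv g f' := ⟨_, (cv_cv_inv g f).symm⟩
  rw [cv_dot_smul, dot3] at h
  simp only [e0_0, e0_1, e0_2, mul_one, mul_zero, add_zero] at h
  have hf' : f ≠ 0 := by
    rintro rfl
    exact hf (eq_of_dot fun x => by rw [cv_dot]; simp)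
  obtain ⟨w, hw⟩ := exists_dot_eq hf' 1
  obtain ⟨k, k0, k1, k2⟩ := exists_cols (u := e0) (v := ![0, f 2, -f 1]) (w := w) (by
    rw [← hw, cross_dot, dot3]; simp [h])
  refine ⟨g * k, by rw [mul_smul, k0], eq_of_dot fun x => ?_⟩
  obtain ⟨x, rfl⟩ : ∃ x', x = (g * k) • x' := ⟨(g * k)⁻¹ • x, (smul_inv_smul _ _).symm⟩
  rw [cv_dot_smul, mul_smul, cv_dot_smul]
  have : x = x 0 • e0 + x 1 • e1 + x 2 • e2 := vec_ext (by simp) (by simp) (by simp)
  conv_rhs => rw [this, smul_add, smul_add, smul_smul', smul_smul', smul_smul', k0, k1, k2]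
  rw [dotProduct_add, dotProduct_add, dotProduct_smul, dotProduct_smul, dotProduct_smul, hw, dot3, dot3, dot3]
  simp [h, mul_comm]

/-! ### Scalars -/

theorem mem_center_iff' {g : SL F} :
    g ∈ Subgroup.center (SL F) ↔ ∃ c : F, c ^ 3 = 1 ∧ ∀ x : Vec F, g • x = c • x := by
  rw [Matrix.SpecialLinearGroup.mem_center_iff]
  constructor
  · rintro ⟨r, hr, e⟩
    refine ⟨r, by simpa using hr, fun x => ?_⟩
    rw [smul_eq, ← e]
    funext i
    simp [mulVec_diagonal]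
  · rintro ⟨c, hc, e⟩
    refine ⟨c, by simpa using hc, ?_⟩
    ext i j
    fin_cases j
    · have := congrFun (e e0) i
      rw [smul_e0] at this
      fin_cases i <;> simp_all
    · have := congrFun (e e1) i
      rw [smul_e1] at this
      fin_cases i <;> simp_all
    · have := congrFun (e e2) i
      rw [smul_e2] at this
      fin_cases i <;> simp_all

theorem mem_center_of_par {g : SL F} (h : ∀ x : Vec F, Par x (g • x)) :
    g ∈ Subgroup.center (SL F) := by
  obtain ⟨a, ha⟩ := h e0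
  obtain ⟨b, hb⟩ := h e1
  obtain ⟨c, hc⟩ := h e2
  obtain ⟨d, hd⟩ := h (e0 + e1 + e2)
  rw [smul_add, smul_add, ha, hb, hc] at hd
  have d0 := congrFun hd 0
  have d1 := congrFun hd 1
  have d2 := congrFun hd 2
  simp at d0 d1 d2
  subst d0 d1 d2
  have hx : ∀ x : Vec F, g • x = c • x := by
    intro x
    have : x = x 0 • e0 + x 1 • e1 + x 2 • e2 := vec_ext (by simp) (by simp) (by simp)
    conv_lhs => rw [this, smul_add, smul_add, smul_smul', smul_smul', smul_smul', ha, hb, hc]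
    exact vec_ext (by simp [mul_comm]) (by simp [mul_comm]) (by simp [mul_comm])
  refine mem_center_iff'.mpr ⟨c, ?_, hx⟩
  have := det3 g
  simp only [← smul_e0, ← smul_e1, ← smul_e2, hx] at this
  simp at this
  linear_combination this

/-- The scalar matrix. -/
def sc (c : F) (hc : c ^ 3 = 1) : SL F := mk3 c 0 0 0 c 0 0 0 c (by linear_combination hc)

theorem sc_smul (c : F) (hc : c ^ 3 = 1) (x : Vec F) : sc c hc • x = c • x := by
  rw [sc, mk3_smul]; apply vec_ext <;> simp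

theorem sc_mem (c : F) (hc : c ^ 3 = 1) : sc c hc ∈ Subgroup.center (SL F) :=
  mem_center_iff'.mpr ⟨c, hc, sc_smul c hc⟩

theorem center_cube {g : SL F} (h : g ∈ Subgroup.center (SL F)) : g ^ 3 = 1 := by
  obtain ⟨c, hc, e⟩ := mem_center_iff'.mp h
  apply sl_ext
  intro x
  rw [pow_succ, pow_two, mul_smul, mul_smul, e, e, e, smul_smul, smul_smul, one_smul]
  rw [show c * c * c = 1 by linear_combination hc, one_smul]

theorem eq_one_of_center {g : SL F} (h : g ∈ Subgroup.center (SL F)) (h4 : g ^ 4 = 1) : g = 1 := by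
  rw [pow_succ, center_cube h, one_mul] at h4
  exact h4

/-! ### Unitriangular matrices -/

/-- Upper unitriangular matrices. -/
def uu (a b c : F) : SL F := mk3 1 a c 0 1 b 0 0 1 (by ring)

theorem uu_smul (a b c : F) (x : Vec F) :
    uu a b c • x = ![x 0 + a * x 1 + c * x 2, x 1 + b * x 2, x 2] := by
  rw [uu, mk3_smul]; apply vec_ext <;> simp

theorem uu_mul (a b c a' b' c' : F) :
    uu a b c * uu a' b' c' = uu (a + a') (b + b') (c + c' + a * b') := by
  ext i j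
  rw [show ∀ g : SL F, g i j = g.1 i j from fun _ => rfl, mul_apply3]
  fin_cases i <;> fin_cases j <;> simp [uu, mk3] <;> ring

theorem uu_zero : (uu 0 0 0 : SL F) = 1 := by
  ext i j
  fin_cases i <;> fin_cases j <;> simp [uu, mk3]

theorem uu_inj {a b c a' b' c' : F} (h : uu a b c = uu a' b' c') : a = a' ∧ b = b' ∧ c = c' := by
  have h1 := congrArg (fun g : SL F => g.1 0 1) h
  have h2 := congrArg (fun g : SL F => g.1 1 2) h
  have h3 := congrArg (fun g : SL F => g.1 0 2) h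
  simp [uu, mk3] at h1 h2 h3
  exact ⟨h1, h2, h3⟩

theorem uu_eq_tv1 (a c : F) : uu a 0 c = tv e0 ![0, a, c] := by
  apply sl_ext
  intro x
  rw [uu_smul, tv_smul (by rw [dot3]; simp), dot3]
  apply vec_ext <;> simp [add_assoc]

theorem uu_eq_tv2 (b c : F) : uu 0 b c = tv ![c, b, 0] e2 := by
  apply sl_ext
  intro x
  rw [uu_smul, tv_smul (by rw [dot3]; simp), dot3]
  apply vec_ext <;> simp [mul_comm]

theorem tv_e0 {f : Vec F} (h : f ⬝ᵥ e0 = 0) : tv e0 f = uu (f 1) 0 (f 2) := by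
  rw [uu_eq_tv1]
  congr 1
  simp [dot3] at h
  exact vec_ext (by simp [h]) (by simp) (by simp)

/-- Upper triangular. -/
def Upper (g : SL F) : Prop := g.1 1 0 = 0 ∧ g.1 2 0 = 0 ∧ g.1 2 1 = 0

section char2

variable [CharP F 2]

theorem two_eq : (2 : F) = 0 := by exact_mod_cast CharP.cast_eq_zero F 2

theorem add_self (x : F) : x + x = 0 := CharTwo.add_self_eq_zero x

theorem vadd_self (x : Vec F) : x + x = 0 := by funext i; simp [add_self]

theorem eq_one_of_sq {x : F} (h : x * x = 1) : x = 1 := by grind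

theorem tv_sq (u f : Vec F) : tv u f * tv u f = 1 := by
  by_cases h : f ⬝ᵥ u = 0
  · rw [tv_mul_right h h, vadd_self, tv_zero_right]
  · simp [tv, h]

theorem uu_inv (a b c : F) : (uu a b c)⁻¹ = uu a b (c + a * b) := by
  rw [inv_eq_iff_mul_eq_one, uu_mul, ← uu_zero]
  congr 1 <;> grind

theorem uu_sq (a b c : F) : uu a b c * uu a b c = uu 0 0 (a * b) := by
  rw [uu_mul]
  congr 1 <;> grind

theorem uu_four (a b c : F) : uu a b c ^ 4 = 1 := by
  rw [show (4 : ℕ) = 2 * 2 by rfl, pow_mul, pow_two, pow_two, uu_sq, uu_sq, mul_zero, uu_zero]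

theorem uu_conj (a b c a' b' c' : F) :
    uu a b c * uu a' b' c' * (uu a b c)⁻¹ = uu a' b' (c' + a * b' + a' * b) := by
  rw [uu_inv, uu_mul, uu_mul]
  congr 1 <;> grind

theorem four_of_sq {G : Type*} [Group G] {g : G} (h : g * g = 1) : g ^ 4 = 1 := by
  rw [show (4 : ℕ) = 2 * 2 by rfl, pow_mul, pow_two g, h, one_pow]

/-- An upper triangular matrix with `g ^ 4 = 1` is unitriangular. -/
theorem Upper.eq_uu {g : SL F} (h : Upper g) (h4 : g ^ 4 = 1) :
    g = uu (g.1 0 1) (g.1 1 2) (g.1 0 2) := by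
  obtain ⟨h1, h2, h3⟩ := h
  have hsq : ∀ k : SL F, Upper k → Upper (k * k) ∧ ∀ i, (k * k).1 i i = k.1 i i * k.1 i i := by
    rintro k ⟨k1, k2, k3⟩
    refine ⟨⟨?_, ?_, ?_⟩, fun i => ?_⟩
    · rw [mul_apply3]; simp [k1, k2]
    · rw [mul_apply3]; simp [k1, k2, k3]
    · rw [mul_apply3]; simp [k2, k3]
    · rw [mul_apply3]; fin_cases i <;> simp [k1, k2, k3]
  obtain ⟨a1, a2⟩ := hsq g ⟨h1, h2, h3⟩
  obtain ⟨-, b2⟩ := hsq _ a1
  have e : g * g * (g * g) = 1 := by rw [← h4, pow_succ, pow_succ, pow_two]; simp only [mul_assoc]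
  have hd : ∀ i, g.1 i i = 1 := by
    intro i
    have := b2 i
    rw [e, a2] at this
    exact eq_one_of_sq (eq_one_of_sq (by simpa using this.symm))
  ext i j
  fin_cases i <;> fin_cases j <;> simp [uu, mk3] <;> first | assumption | exact hd _

/-- Involutions are transvections. -/
theorem exists_tv_of_sq {g : SL F} (h : g * g = 1) : ∃ u f, f ⬝ᵥ u = 0 ∧ g = tv u f := by
  by_cases h1 : g = 1
  · exact ⟨0, 0, by simp, by rw [h1, tv_zero_left]⟩
  obtain ⟨x, hx⟩ : ∃ x : Vec F, g • x + x ≠ 0 := by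
    by_contra h'
    push Not at h'
    refine h1 (sl_ext fun x => ?_)
    rw [one_smul, ← add_zero (g • x), ← vadd_self x, ← add_assoc, h' x, zero_add]
  have hfix : ∀ y : Vec F, g • (g • y + y) = g • y + y := by
    intro y
    rw [smul_add, ← mul_smul, h, one_smul, add_comm]
  have hpar : ∀ y : Vec F, Par (g • x + x) (g • y + y) := by
    intro y
    by_contra hy
    obtain ⟨f, hf, f1, f2⟩ := exists_form_two (g • x + x) (g • y + y)
    by_cases hfx : f ⬝ᵥ x = 0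
    · obtain ⟨a, b, e⟩ := exists_comb hx hy hf f1 f2 hfx
      apply hx
      have : g • x = x := by
        conv_lhs => rw [e, smul_add, smul_smul', smul_smul', hfix, hfix, ← e]
      rw [this, vadd_self]
    · obtain ⟨a, b, e⟩ := exists_comb (w := y - (f ⬝ᵥ y / f ⬝ᵥ x) • x) hx hy hf f1 f2 (by
        rw [dotProduct_sub, dotProduct_smul, smul_eq_mul]; field_simp; ring)
      have : g • (y - (f ⬝ᵥ y / f ⬝ᵥ x) • x) = y - (f ⬝ᵥ y / f ⬝ᵥ x) • x := by
        conv_lhs => rw [e, smul_add, smul_smul', smul_smul', hfix, hfix, ← e]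
      rw [smul_sub, smul_smul'] at this
      refine hy ⟨f ⬝ᵥ y / f ⬝ᵥ x, ?_⟩
      rw [smul_add]
      funext i
      have := congrFun this i
      simp only [Pi.sub_apply, Pi.smul_apply, Pi.add_apply, smul_eq_mul] at this ⊢
      grind
  set u := g • x + x with hu
  obtain ⟨a, ha⟩ := hpar e0
  obtain ⟨b, hb⟩ := hpar e1
  obtain ⟨c, hc⟩ := hpar e2
  have key : ∀ y : Vec F, g • y = y + (![a, b, c] ⬝ᵥ y) • u := by
    intro y
    have : y = y 0 • e0 + y 1 • e1 + y 2 • e2 := vec_ext (by simp) (by simp) (by simp)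
    conv_lhs => rw [this, smul_add, smul_add, smul_smul', smul_smul', smul_smul']
    funext i
    have ha := congrFun ha i
    have hb := congrFun hb i
    have hc := congrFun hc i
    have := congrFun this i
    simp only [Pi.smul_apply, Pi.add_apply, smul_eq_mul, dot3, cons_val_zero, cons_val_one,
      cons_val] at ha hb hc this ⊢
    grind
  have h0 : ![a, b, c] ⬝ᵥ u = 0 := by
    have := key u
    rw [hu, hfix, ← hu] at this
    have h2 : (![a, b, c] ⬝ᵥ u) • u = 0 := by simpa using this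
    exact (smul_eq_zero.mp h2).resolve_right hx
  exact ⟨u, _, h0, sl_ext fun y => by rw [key, tv_smul h0]⟩

/-- Elements commuting with the root element. -/
theorem upper_of_commute {g : SL F} {c : F} (hc : c ≠ 0) (h : g * uu 0 0 c = uu 0 0 c * g) :
    Upper g := by
  have h1 := congrArg (fun g : SL F => g.1 0 0) h
  have h2 := congrArg (fun g : SL F => g.1 0 1) h
  have h3 := congrArg (fun g : SL F => g.1 1 2) h
  simp only [mul_apply3] at h1 h2 h3
  simp [uu, mk3, hc] at h1 h2 h3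
  exact ⟨h3, h1, h2⟩

end char2

end Cfsg.Agent.H2.L3
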