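import Cfsg.Agent.H2.L3b
import Mathlib.GroupTheory.Perm.Cycle.Type
import Mathlib.GroupTheory.GroupAction.Quotient

/-!
# Doubly transitive groups with a normal `PSL₃(2^n)` in the point stabilizer: set-up
-/

set_option autoImplicit false

namespace Cfsg.Agent.H2.L3

open Matrix MulAction

section count

variable {G Ω : Type*} [Group G] [MulAction G Ω] [Finite Ω]

theorem ncard_modEq {x : G} {p : ℕ} (hp : p.Prime) (hx : x ^ p = 1) {S : Set Ω}
    (hS : ∀ y ∈ S, x • y ∈ S) : S.ncard ≡ {y | y ∈ S ∧ x • y = y}.ncard [MOD p] := by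
  classical
  have := Fact.mk hp
  have := Fintype.ofFinite S
  let f : Function.End S := fun y => ⟨x • y, hS y y.2⟩
  have hf : ∀ n : ℕ, ∀ y : S, ((f ^ n) y).1 = x ^ n • y.1 := by
    intro n
    induction n with
    | zero => intro y; simp; rfl
    | succ n ih => intro y; rw [pow_succ', pow_succ', mul_smul, ← ih]; rfl
  have h := Equiv.Perm.card_fixedPoints_modEq (f := f) (p := p) (n := 1) (by
    funext y
    exact Subtype.ext (by rw [hf, pow_one, hx, one_smul]; rfl))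
  rw [← Nat.card_eq_fintype_card, ← Nat.card_eq_fintype_card, Nat.card_coe_set_eq] at h
  refine h.trans ?_
  rw [← Nat.card_coe_set_eq {y | y ∈ S ∧ x • y = y}]
  have e : f.fixedPoints ≃ {y | y ∈ S ∧ x • y = y} :=
    ⟨fun y => ⟨y.1.1, y.1.2, congrArg Subtype.val y.2⟩,
      fun y => ⟨⟨y.1, y.2.1⟩, Subtype.ext y.2.2⟩, fun _ => rfl, fun _ => rfl⟩
  rw [Nat.card_congr e]

theorem exists_fix_of_odd {x : G} (hx : x * x = 1) {S : Set Ω} (hS : ∀ y ∈ S, x • y ∈ S)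
    (ho : Odd S.ncard) : ∃ y ∈ S, x • y = y := by
  have h := ncard_modEq Nat.prime_two (by rw [pow_two, hx]) hS
  by_contra h'
  push Not at h'
  rw [show {y | y ∈ S ∧ x • y = y} = ∅ from Set.eq_empty_of_forall_notMem fun y hy =>
    h' y hy.1 hy.2, Set.ncard_empty] at h
  exact (Nat.not_even_iff_odd.mpr ho) (even_iff_two_dvd.mpr (Nat.modEq_zero_iff_dvd.mp h))

theorem dvd_ncard_of_fibers {α β : Type*} [Finite α] {d : ℕ} (S : Set α) (f : α → β)
    (h : ∀ b ∈ S, d ∣ {x | x ∈ S ∧ f x = f b}.ncard) : d ∣ S.ncard := by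
  classical
  rw [Set.ncard_eq_toFinset_card S (Set.toFinite S), Finset.card_eq_sum_card_image f]
  refine Finset.dvd_sum fun y hy => ?_
  obtain ⟨b, hb, rfl⟩ := Finset.mem_image.mp hy
  have := h b (by simpa using hb)
  rw [Set.ncard_eq_toFinset_card _ (Set.toFinite _)] at this
  have e : (Set.toFinite S).toFinset.filter (fun x => f x = f b) =
      (Set.toFinite {x | x ∈ S ∧ f x = f b}).toFinset := by
    ext x
    simp
  rw [e]
  exact this

theorem ncard_fix_conj (g s : G) :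
    {y : Ω | (g * s * g⁻¹) • y = y}.ncard = {y : Ω | s • y = y}.ncard := by
  refine Set.ncard_congr (fun y _ => g⁻¹ • y) (fun y hy => ?_) (fun y z _ _ h => ?_)
    (fun y hy => ⟨g • y, ?_, inv_smul_smul _ _⟩)
  · have hy : (g * s * g⁻¹) • y = y := hy
    show s • g⁻¹ • y = g⁻¹ • y
    rw [mul_smul, mul_smul] at hy
    rw [eq_inv_smul_iff, hy]
  · exact MulAction.injective _ h
  · have hy : s • y = y := hy
    show (g * s * g⁻¹) • g • y = g • y
    rw [mul_smul, mul_smul, inv_smul_smul, hy]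

end count

/-- The hypotheses. -/
structure Hy (G Ω : Type*) [Group G] [MulAction G Ω] (F : Type) [Field F] where
  a : Ω
  ψ : SL F →* G
  two : ∀ x y x' y' : Ω, x ≠ y → x' ≠ y' → ∃ g : G, g • x = x' ∧ g • y = y'
  faith : ∀ g : G, (∀ x : Ω, g • x = x) → g = 1
  even : Even (Nat.card Ω)
  ker : ∀ g, ψ g = 1 ↔ g ∈ Subgroup.center (SL F)
  fix : ∀ g, ψ g • a = a
  norm : ∀ g : G, g • a = a → ∀ h, ∃ h', g * ψ h * g⁻¹ = ψ h'

namespace Hy

variable {G Ω : Type*} [Group G] [MulAction G Ω] {F : Type} [Field F] (H : Hy G Ω F)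

/-- The normal subgroup of the stabilizer of `x`. -/
def N (x : Ω) : Subgroup G where
  carrier := {s | ∀ g : G, g • H.a = x → ∃ h, s = g * H.ψ h * g⁻¹}
  one_mem' _ _ := ⟨1, by simp⟩
  mul_mem' {s t} hs ht g hg := by
    obtain ⟨h, rfl⟩ := hs g hg
    obtain ⟨k, rfl⟩ := ht g hg
    exact ⟨h * k, by rw [map_mul]; group⟩
  inv_mem' {s} hs g hg := by
    obtain ⟨h, rfl⟩ := hs g hg
    exact ⟨h⁻¹, by rw [map_inv]; group⟩

variable {H}

theorem conj_mem {x : Ω} {s : G} (hs : s ∈ H.N x) (g : G) : g * s * g⁻¹ ∈ H.N (g • x) := by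
  intro k hk
  obtain ⟨h, e⟩ := hs (g⁻¹ * k) (by rw [mul_smul, hk, inv_smul_smul])
  exact ⟨h, by rw [e]; group⟩

theorem conj_mem' {x : Ω} {s g : G} (hs : s ∈ H.N x) (hg : g • x = x) : g * s * g⁻¹ ∈ H.N x := by
  have := conj_mem hs g
  rwa [hg] at this

theorem conj_mem_iff {x : Ω} {s : G} (g : G) : g * s * g⁻¹ ∈ H.N (g • x) ↔ s ∈ H.N x :=
  ⟨fun h => by simpa [mul_assoc] using conj_mem h g⁻¹, fun h => conj_mem h g⟩

variable (H) in
/-- Coordinates for `N x`. -/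
structure Chart (x : Ω) (ψ : SL F →* G) : Prop where
  mem : ∀ s, s ∈ H.N x ↔ ∃ h, ψ h = s
  ker : ∀ g, ψ g = 1 ↔ g ∈ Subgroup.center (SL F)

theorem chart_a : H.Chart H.a H.ψ := by
  refine ⟨fun s => ⟨fun h => ?_, ?_⟩, H.ker⟩
  · obtain ⟨k, e⟩ := h 1 (one_smul _ _)
    exact ⟨k, by simp [e]⟩
  · rintro ⟨h, rfl⟩ g hg
    obtain ⟨h', e⟩ := H.norm g⁻¹ (by rw [inv_smul_eq_iff, hg]) h
    exact ⟨h', by rw [← e]; group⟩

theorem Chart.conj {x : Ω} {ψ : SL F →* G} (C : H.Chart x ψ) (g : G) :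
    H.Chart (g • x) ((MulAut.conj g).toMonoidHom.comp ψ) := by
  refine ⟨fun s => ⟨fun h => ?_, ?_⟩, fun k => ?_⟩
  · have := conj_mem h g⁻¹
    rw [inv_smul_smul, C.mem] at this
    obtain ⟨k, e⟩ := this
    exact ⟨k, by simp [e, mul_assoc]⟩
  · rintro ⟨k, rfl⟩
    exact conj_mem ((C.mem _).mpr ⟨k, rfl⟩) g
  · rw [← C.ker]
    simp [mul_inv_eq_iff_eq_mul]

theorem Chart.pre {x : Ω} {ψ : SL F →* G} (C : H.Chart x ψ) (α β : SL F →* SL F)
    (h1 : ∀ g, α (β g) = g) (h2 : ∀ g, β (α g) = g) : H.Chart x (ψ.comp α) := by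
  refine ⟨fun s => ?_, fun k => ?_⟩
  · rw [C.mem]
    exact ⟨fun ⟨h, e⟩ => ⟨β h, by simp [h1, e]⟩, fun ⟨h, e⟩ => ⟨α h, e⟩⟩
  · rw [MonoidHom.comp_apply, C.ker, Subgroup.mem_center_iff, Subgroup.mem_center_iff]
    constructor
    · intro h g
      rw [← h2 (g * k), map_mul α, h, ← map_mul α, h2]
    · intro h g
      rw [← h1 g, ← map_mul, ← map_mul, h]

theorem Chart.dual {x : Ω} {ψ : SL F →* G} (C : H.Chart x ψ) : H.Chart x (ψ.comp dual) :=
  C.pre _ _ dual_dual dual_dual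

/-- Conjugated chart. -/
def cj (ψ : SL F →* G) (h : SL F) : SL F →* G := ψ.comp (MulAut.conj h).toMonoidHom

theorem cj_apply (ψ : SL F →* G) (h g : SL F) : cj ψ h g = ψ (h * g * h⁻¹) := rfl

theorem Chart.cj {x : Ω} {ψ : SL F →* G} (C : H.Chart x ψ) (h : SL F) : H.Chart x (cj ψ h) :=
  C.pre _ (MulAut.conj h⁻¹).toMonoidHom (fun g => by simp [mul_assoc]) (fun g => by simp [mul_assoc])

theorem Chart.mem' {x : Ω} {ψ : SL F →* G} (C : H.Chart x ψ) (h : SL F) : ψ h ∈ H.N x :=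
  (C.mem _).mpr ⟨h, rfl⟩

theorem Chart.norm {x : Ω} {ψ : SL F →* G} (C : H.Chart x ψ) {y : G} (hy : y • x = x) (h : SL F) :
    ∃ h', y * ψ h * y⁻¹ = ψ h' := by
  obtain ⟨h', e⟩ := (C.mem _).mp (conj_mem' (C.mem' h) hy)
  exact ⟨h', e.symm⟩

theorem Chart.inj4 {x : Ω} {ψ : SL F →* G} (C : H.Chart x ψ) {g g' : SL F} (h : g ^ 4 = 1)
    (h' : g' ^ 4 = 1) (e : ψ g = ψ g') : g = g' := by
  have hc : g⁻¹ * g' ∈ Subgroup.center (SL F) := by rw [← C.ker, map_mul, map_inv, e, inv_mul_cancel]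
  have : g' = g * (g⁻¹ * g') := by group
  have h4 : (g⁻¹ * g') ^ 4 = 1 := by
    have c : Commute g (g⁻¹ * g') := Subgroup.mem_center_iff.mp hc g
    rw [this, c.mul_pow, h, one_mul] at h'
    exact h'
  rw [this, eq_one_of_center hc h4, mul_one]

theorem Chart.lift2 {x : Ω} {ψ : SL F →* G} (C : H.Chart x ψ) {s : G} (hs : s ∈ H.N x)
    (h2 : s * s = 1) : ∃ g, g * g = 1 ∧ ψ g = s := by
  obtain ⟨h, rfl⟩ := (C.mem _).mp hs
  have := center_cube ((C.ker (h * h)).mp (by rw [map_mul, h2]))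
  refine ⟨h * (h * h), ?_, by rw [map_mul, map_mul, h2, mul_one]⟩
  rw [← this, pow_succ, pow_two]
  group

theorem Chart.lift4 {x : Ω} {ψ : SL F →* G} (C : H.Chart x ψ) {s : G} (hs : s ∈ H.N x)
    (h4 : s ^ 4 = 1) : ∃ g, g ^ 4 = 1 ∧ ψ g = s := by
  obtain ⟨h, rfl⟩ := (C.mem _).mp hs
  have := center_cube ((C.ker (h ^ 4)).mp (by rw [map_pow, h4]))
  refine ⟨h ^ 9, ?_, ?_⟩
  · rw [← pow_mul, show 9 * 4 = 4 * 3 * 3 by rfl, pow_mul, pow_mul, this, one_pow]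
  · rw [map_pow, show 9 = 4 * 2 + 1 by rfl, pow_succ, pow_mul, h4, one_pow, one_mul]

variable [Finite Ω]

include H in
theorem exists_ne' (x : Ω) : ∃ y, y ≠ x := by
  by_contra h
  push Not at h
  have : Nat.card Ω = 1 := Nat.card_eq_one_iff_exists.mpr ⟨x, h⟩
  have h2 := H.even
  rw [this] at h2
  exact absurd h2 (by decide)

include H in
theorem trans (x y : Ω) : ∃ g : G, g • x = y := by
  obtain ⟨x', hx⟩ := H.exists_ne' x
  obtain ⟨y', hy⟩ := H.exists_ne' y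
  obtain ⟨g, h, -⟩ := H.two x x' y y' hx.symm hy.symm
  exact ⟨g, h⟩

theorem exists_chart (x : Ω) : ∃ ψ, H.Chart x ψ := by
  obtain ⟨g, rfl⟩ := H.trans H.a x
  exact ⟨_, chart_a.conj g⟩

theorem fix_of_mem {x : Ω} {s : G} (hs : s ∈ H.N x) : s • x = x := by
  obtain ⟨g, hg⟩ := H.trans H.a x
  obtain ⟨h, rfl⟩ := hs g hg
  rw [← hg, mul_smul, mul_smul, inv_smul_smul, H.fix]

include H in
theorem card_compl_odd (x : Ω) : Odd {y : Ω | y ≠ x}.ncard := by
  have h1 : {y : Ω | y ≠ x}.ncard + 1 = Nat.card Ω := by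
    rw [← Set.ncard_univ, ← Set.ncard_diff_singleton_add_one (Set.mem_univ x)]
    congr 2
    ext y; simp
  have h2 := H.even
  rw [← h1, Nat.even_add_one, Nat.not_even_iff_odd] at h2
  exact h2

theorem odd_orbit {x c : Ω} (hc : c ≠ x) : Odd (orbit (H.N x) c).ncard := by
  refine Odd.of_dvd_nat (H.card_compl_odd x) (dvd_ncard_of_fibers _
    (fun y => orbit (H.N x) y) fun b hb => dvd_of_eq ?_)
  obtain ⟨g, g1, g2⟩ := H.two x c x b hc.symm (Ne.symm hb)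
  have e : {y | y ∈ {y : Ω | y ≠ x} ∧ orbit (H.N x) y = orbit (H.N x) b} = orbit (H.N x) b := by
    ext y
    simp only [Set.mem_setOf_eq, orbit_eq_iff, and_iff_right_iff_imp]
    rintro ⟨s, rfl⟩ h
    apply hb
    have h : (s : G) • b = x := h
    rw [← inv_smul_eq_iff.mpr h.symm]
    exact fix_of_mem ((H.N x).inv_mem s.2)
  rw [e]
  refine Set.ncard_congr (fun y _ => g • y) ?_ (fun y z _ _ h => MulAction.injective _ h) ?_
  · rintro _ ⟨s, rfl⟩
    exact ⟨⟨_, conj_mem' s.2 g1⟩, by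
      show (g * s * g⁻¹) • b = g • (s : G) • c
      rw [← g2, mul_smul, mul_smul, inv_smul_smul]⟩
  · rintro _ ⟨s, rfl⟩
    refine ⟨_, ⟨⟨_, conj_mem' s.2 (g := g⁻¹) (by rw [inv_smul_eq_iff, g1])⟩, rfl⟩, ?_⟩
    show g • (g⁻¹ * s * g⁻¹⁻¹) • c = (s : G) • b
    rw [← g2, inv_inv, mul_smul, mul_smul, smul_inv_smul]

theorem smul_ne {x c : Ω} {s : G} (hs : s • x = x) (hc : c ≠ x) : s • c ≠ x := by
  intro h
  exact hc (MulAction.injective s (h.trans hs.symm))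

theorem exists_fix_orbit {x c : Ω} (hc : c ≠ x) {s : G} (h2 : s * s = 1) (hs : s ∈ H.N x) :
    ∃ t ∈ H.N x, s • t • c = t • c := by
  obtain ⟨_, ⟨t, rfl⟩, h⟩ := exists_fix_of_odd h2 (S := orbit (H.N x) c) (by
    rintro _ ⟨t, rfl⟩
    exact ⟨⟨s, hs⟩ * t, mul_smul _ _ _⟩) (odd_orbit hc)
  exact ⟨t, t.2, h⟩

variable [CharP F 2]

omit [Finite Ω] in
theorem Chart.uu_inj {x : Ω} {ψ : SL F →* G} (C : H.Chart x ψ) {a b c a' b' c' : F}
    (e : ψ (uu a b c) = ψ (uu a' b' c')) : a = a' ∧ b = b' ∧ c = c' :=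
  L3.uu_inj (C.inj4 (uu_four ..) (uu_four ..) e)

omit [Finite Ω] in
theorem Chart.uu_eq_one {x : Ω} {ψ : SL F →* G} (C : H.Chart x ψ) {a b c : F}
    (e : ψ (uu a b c) = 1) : a = 0 ∧ b = 0 ∧ c = 0 :=
  C.uu_inj (by rw [e, uu_zero, map_one])

omit [Finite Ω] in
theorem Chart.tv_inj {x : Ω} {ψ : SL F →* G} (C : H.Chart x ψ) {u f u' f' : Vec F}
    (e : ψ (tv u f) = ψ (tv u' f')) : tv u f = tv u' f' :=
  C.inj4 (four_of_sq (tv_sq ..)) (four_of_sq (tv_sq ..)) e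

omit [Finite Ω] in
theorem Chart.exists_tv {x : Ω} {ψ : SL F →* G} (C : H.Chart x ψ) {s : G} (hs : s ∈ H.N x)
    (h2 : s * s = 1) : ∃ u f, f ⬝ᵥ u = 0 ∧ s = ψ (tv u f) := by
  obtain ⟨g, hg, rfl⟩ := C.lift2 hs h2
  obtain ⟨u, f, h, rfl⟩ := exists_tv_of_sq hg
  exact ⟨u, f, h, rfl⟩

omit [Finite Ω] in
theorem Chart.exists_tv' {x : Ω} {ψ : SL F →* G} (C : H.Chart x ψ) {s : G} (hs : s ∈ H.N x)
    (h2 : s * s = 1) (h1 : s ≠ 1) : ∃ u f, u ≠ 0 ∧ f ≠ 0 ∧ f ⬝ᵥ u = 0 ∧ s = ψ (tv u f) := by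
  obtain ⟨u, f, h, rfl⟩ := C.exists_tv hs h2
  refine ⟨u, f, ?_, ?_, h, rfl⟩
  · rintro rfl; exact h1 (by rw [tv_zero_left, map_one])
  · rintro rfl; exact h1 (by rw [tv_zero_right, map_one])

omit [Finite Ω] in
theorem Chart.exists_root {x : Ω} {ψ : SL F →* G} (C : H.Chart x ψ) {s : G} (hs : s ∈ H.N x)
    (h2 : s * s = 1) (h1 : s ≠ 1) : ∃ h, s = ψ (h * uu 0 0 1 * h⁻¹) := by
  obtain ⟨u, f, hu, hf, h, rfl⟩ := C.exists_tv' hs h2 h1
  obtain ⟨g, rfl, rfl⟩ := exists_flag hu hf h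
  refine ⟨g, ?_⟩
  rw [← conj_tv g (by rw [dot3]; simp), tv_e0 (by rw [dot3]; simp)]
  simp

theorem exists_root {x : Ω} {s : G} (hs : s ∈ H.N x) (h2 : s * s = 1) (h1 : s ≠ 1) :
    ∃ ψ, H.Chart x ψ ∧ s = ψ (uu 0 0 1) := by
  obtain ⟨ψ, C⟩ := H.exists_chart x
  obtain ⟨h, e⟩ := C.exists_root hs h2 h1
  exact ⟨_, C.cj h, e⟩

theorem exists_conj {x y : Ω} {s t : G} (hs : s ∈ H.N x) (s2 : s * s = 1) (s1 : s ≠ 1)
    (ht : t ∈ H.N y) (t2 : t * t = 1) (t1 : t ≠ 1) : ∃ g, t = g * s * g⁻¹ := by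
  obtain ⟨g, rfl⟩ := H.trans x y
  obtain ⟨ψ, C, rfl⟩ := exists_root hs s2 s1
  obtain ⟨h, rfl⟩ := (C.conj g).exists_root ht t2 t1
  exact ⟨g * ψ h, by simp [mul_assoc]⟩

theorem exists_move {x c : Ω} (hc : c ≠ x) : ∃ s ∈ H.N x, s • c ≠ c := by
  by_contra h
  push Not at h
  obtain ⟨ψ, C⟩ := H.exists_chart x
  have : ψ (uu 0 0 1) = 1 := by
    refine H.faith _ fun y => ?_
    by_cases hy : y = x
    · rw [hy]; exact fix_of_mem (C.mem' _)
    obtain ⟨g, g1, g2⟩ := H.two x c x y hc.symm (Ne.symm hy)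
    have := h _ (conj_mem' (C.mem' (uu 0 0 1)) (g := g⁻¹) (by rw [inv_smul_eq_iff, g1]))
    rw [inv_inv, mul_smul, mul_smul, g2, inv_smul_eq_iff, g2] at this
    exact this
  exact one_ne_zero (C.uu_eq_one this).2.2

variable (H) in
/-- `c` centralizes `N x`. -/
def Cent (x : Ω) (c : G) : Prop := ∀ s ∈ H.N x, c * s = s * c

theorem Cent.fix {x : Ω} {c : G} (h : H.Cent x c) : c • x = x := by
  by_contra hc
  obtain ⟨s, hs, h'⟩ := H.exists_move hc
  exact h' (by rw [← mul_smul, ← h s hs, mul_smul, fix_of_mem hs])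

theorem Cent.eq_one {x : Ω} {s : G} (h : H.Cent x s) (hs : s ∈ H.N x) : s = 1 := by
  obtain ⟨ψ, C⟩ := H.exists_chart x
  obtain ⟨g, rfl⟩ := (C.mem _).mp hs
  rw [C.ker, Subgroup.mem_center_iff]
  intro k
  induction k using tv_induction with
  | ht u f _ =>
    have := C.inj4 (g := g * tv u f * g⁻¹) (g' := tv u f) (four_of_sq (by
      rw [show g * tv u f * g⁻¹ * (g * tv u f * g⁻¹) = g * (tv u f * tv u f) * g⁻¹ by group, tv_sq]
      simp)) (four_of_sq (tv_sq ..)) (by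
        rw [map_mul, map_mul, h _ (C.mem' _), map_inv, mul_inv_cancel_right])
    rw [mul_inv_eq_iff_eq_mul] at this
    exact this.symm
  | hm a b ha hb => rw [mul_assoc, hb, ← mul_assoc, ha, mul_assoc]

/-- An involution of `N b` inducing an inner automorphism on `N x`. -/
theorem lemX {x b : Ω} {s c : G} (hs : s ∈ H.N x) (hc : H.Cent x c) (hy : s * c ∈ H.N b)
    (h2 : s * c * (s * c) = 1) : s = 1 ∨ c = 1 := by
  by_cases s1 : s = 1
  · exact Or.inl s1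
  right
  have e : s * s * (c * c) = 1 := by
    rw [← h2, mul_assoc, mul_assoc, ← mul_assoc s c c, ← hc s hs, mul_assoc, hc s hs]
  have s2 : s * s = 1 := by
    refine Cent.eq_one (fun t ht => ?_) ((H.N x).mul_mem hs hs)
    rw [eq_inv_of_mul_eq_one_left e]
    have : Commute (c * c) t := (show Commute c t from hc t ht).mul_left (hc t ht)
    exact this.inv_left
  have c2 : c * c = 1 := by rwa [s2, one_mul] at e
  have y1 : s * c ≠ 1 := by
    intro h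
    refine s1 (Cent.eq_one (fun t ht => ?_) hs)
    rw [eq_inv_of_mul_eq_one_left h]
    exact (show Commute c t from hc t ht).inv_left
  have key : ∀ y, y ≠ x → ∀ t ∈ H.N x, c • t • y = t • y → c • y = y := by
    intro y _ t ht h
    rw [← mul_smul, hc t ht, mul_smul] at h
    exact MulAction.injective _ h
  have key2 : ∀ y : Ω, (s * c) • y = y → c • y = y := by
    intro y h
    by_cases hy : y = x
    · rw [hy, hc.fix]
    obtain ⟨_, ⟨t, rfl⟩, h'⟩ := exists_fix_of_odd c2 (S := orbit (H.N x) y) (by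
      rintro _ ⟨t, rfl⟩
      refine ⟨t * ⟨s, hs⟩⁻¹, ?_⟩
      show (t * s⁻¹ : G) • y = c • (t : G) • y
      rw [← mul_smul, hc t t.2, mul_smul, mul_smul]
      congr 1
      rw [inv_smul_eq_iff, ← mul_smul, h]) (odd_orbit hy)
    exact key y hy t t.2 h'
  obtain ⟨g, hg⟩ := exists_conj hs s2 s1 hy h2 y1
  have sub : {y : Ω | (s * c) • y = y} = {y : Ω | s • y = y} := by
    refine Set.eq_of_subset_of_ncard_le (fun y h => ?_) (by rw [hg, ncard_fix_conj])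
    have h : (s * c) • y = y := h
    have := key2 y h
    rw [mul_smul, this] at h
    exact h
  refine H.faith _ fun y => ?_
  by_cases hy : y = x
  · rw [hy, hc.fix]
  obtain ⟨t, ht, h⟩ := exists_fix_orbit hy s2 hs
  exact key y hy t ht (key2 _ (by
    show t • y ∈ {y : Ω | (s * c) • y = y}
    rw [sub]; exact h))

end Hy

end Cfsg.Agent.H2.L3
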