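import Cfsg.Agent.H2.L3d

/-!
# Involutions in two-point stabilizers; the Borel case, first part
-/

set_option autoImplicit false

namespace Cfsg.Agent.H2.L3

open Matrix MulAction

theorem comm_conj {G : Type*} [Group G] (g : G) {s t : G} :
    Commute (g * s * g⁻¹) (g * t * g⁻¹) ↔ Commute s t := by
  constructor
  · intro h
    have := h.eq
    rw [show g * s * g⁻¹ * (g * t * g⁻¹) = g * (s * t) * g⁻¹ by group,
      show g * t * g⁻¹ * (g * s * g⁻¹) = g * (t * s) * g⁻¹ by group] at this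
    exact mul_left_cancel (mul_right_cancel this)
  · intro h
    show _ = _
    rw [show g * s * g⁻¹ * (g * t * g⁻¹) = g * (s * t) * g⁻¹ by group, h.eq]
    group

theorem sq_conj {G : Type*} [Group G] (g : G) {s : G} :
    g * s * g⁻¹ * (g * s * g⁻¹) = 1 ↔ s * s = 1 := by
  rw [show g * s * g⁻¹ * (g * s * g⁻¹) = g * (s * s) * g⁻¹ by group, conj_eq_one_iff]

theorem smul_conj {G Ω : Type*} [Group G] [MulAction G Ω] (g : G) {s : G} {c : Ω} :
    (g * s * g⁻¹) • g • c = g • c ↔ s • c = c := by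
  rw [mul_smul, mul_smul, inv_smul_smul, smul_left_cancel_iff]

theorem exists_conj_eq {G : Type*} [Group G] (g s : G) : ∃ t, s = g * t * g⁻¹ :=
  ⟨g⁻¹ * s * g, by group⟩

namespace Hy

variable {G Ω : Type*} [Group G] [MulAction G Ω] {F : Type} [Field F] (H : Hy G Ω F)

/-- Involutions (and `1`) of `N x` fixing `c`. -/
def J (x c : Ω) : Set G := {s | s ∈ H.N x ∧ s * s = 1 ∧ s • c = c}

/-- Those commuting with their conjugates. -/
def Vs (x c : Ω) : Set G := {s | s ∈ H.J x c ∧ ∀ t ∈ H.J x c, Commute s (t * s * t⁻¹)}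

/-- The central ones. -/
def Zs (x c : Ω) : Set G := {s | s ∈ H.J x c ∧ ∀ t ∈ H.J x c, Commute s t}

include H in
theorem pair_ind {P : Ω → Ω → Prop} (hP : ∀ (g : G) x c, P x c → P (g • x) (g • c)) {x c : Ω}
    (hc : c ≠ x) (h : P x c) {x' c' : Ω} (hc' : c' ≠ x') : P x' c' := by
  obtain ⟨g, rfl, rfl⟩ := H.two x c x' c' hc.symm hc'.symm
  exact hP g x c h

variable {H}

theorem conj_J (g : G) {x c : Ω} {s : G} :
    g * s * g⁻¹ ∈ H.J (g • x) (g • c) ↔ s ∈ H.J x c := by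
  simp only [J, Set.mem_setOf_eq, conj_mem_iff, sq_conj, smul_conj]

theorem conj_Vs (g : G) {x c : Ω} {s : G} :
    g * s * g⁻¹ ∈ H.Vs (g • x) (g • c) ↔ s ∈ H.Vs x c := by
  simp only [Vs, Set.mem_setOf_eq, conj_J]
  refine and_congr_right fun _ => ⟨fun h t ht => ?_, fun h t ht => ?_⟩
  · have := h _ ((conj_J g).mpr ht)
    rwa [show g * t * g⁻¹ * (g * s * g⁻¹) * (g * t * g⁻¹)⁻¹ = g * (t * s * t⁻¹) * g⁻¹ by group,
      comm_conj] at this
  · obtain ⟨t, rfl⟩ := exists_conj_eq g t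
    rw [show g * t * g⁻¹ * (g * s * g⁻¹) * (g * t * g⁻¹)⁻¹ = g * (t * s * t⁻¹) * g⁻¹ by group,
      comm_conj]
    exact h t ((conj_J g).mp ht)

theorem conj_Zs (g : G) {x c : Ω} {s : G} :
    g * s * g⁻¹ ∈ H.Zs (g • x) (g • c) ↔ s ∈ H.Zs x c := by
  simp only [Zs, Set.mem_setOf_eq, conj_J]
  refine and_congr_right fun _ => ⟨fun h t ht => ?_, fun h t ht => ?_⟩
  · exact (comm_conj g).mp (h _ ((conj_J g).mpr ht))
  · obtain ⟨t, rfl⟩ := exists_conj_eq g t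
    exact (comm_conj g).mpr (h t ((conj_J g).mp ht))

theorem conj_J' {g : G} {x c : Ω} (h1 : g • x = x) (h2 : g • c = c) {s : G} (h : s ∈ H.J x c) :
    g * s * g⁻¹ ∈ H.J x c := by
  have := (conj_J g).mpr h
  rwa [h1, h2] at this

theorem conj_Vs' {g : G} {x c : Ω} (h1 : g • x = x) (h2 : g • c = c) {s : G} (h : s ∈ H.Vs x c) :
    g * s * g⁻¹ ∈ H.Vs x c := by
  have := (conj_Vs g).mpr h
  rwa [h1, h2] at this

theorem conj_Zs' {g : G} {x c : Ω} (h1 : g • x = x) (h2 : g • c = c) {s : G} (h : s ∈ H.Zs x c) :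
    g * s * g⁻¹ ∈ H.Zs x c := by
  have := (conj_Zs g).mpr h
  rwa [h1, h2] at this

theorem Cent.conj {x : Ω} {k : G} (h : H.Cent x k) (g : G) : H.Cent (g • x) (g * k * g⁻¹) := by
  intro s hs
  obtain ⟨s, rfl⟩ := exists_conj_eq g s
  exact (comm_conj g).mpr (h s ((conj_mem_iff g).mp hs))

theorem Cent.mul {x : Ω} {k k' : G} (h : H.Cent x k) (h' : H.Cent x k') : H.Cent x (k * k') :=
  fun s hs => (show Commute k s from h s hs).mul_left (h' s hs)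

theorem Cent.inv {x : Ω} {k : G} (h : H.Cent x k) : H.Cent x k⁻¹ :=
  fun s hs => (show Commute k s from h s hs).inv_left

variable (H) in
/-- The Borel case. -/
def Bor : Prop := ∀ x c, c ≠ x → H.J x c ⊆ H.Vs x c

variable [CharP F 2] {x c : Ω} {ψ : SL F →* G}

theorem Chart.comm_uu (C : H.Chart x ψ) {a b d a' b' d' : F} :
    Commute (ψ (uu a b d)) (ψ (uu a' b' d')) ↔ a * b' = a' * b := by
  constructor
  · intro h
    have := h.eq
    rw [← map_mul, ← map_mul, uu_mul, uu_mul] at this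
    have := (C.uu_inj this).2.2
    grind
  · intro h
    show _ = _
    rw [← map_mul, ← map_mul, uu_mul, uu_mul]
    congr 2 <;> grind

omit [CharP F 2] in
theorem Chart.comm_of (C : H.Chart x ψ) {g g' : SL F} (h : g' * g' = 1)
    (e : Commute (ψ g) (ψ g')) : Commute g g' := by
  have := C.inj4 (g := g * g' * g⁻¹) (g' := g') (four_of_sq (by rw [sq_conj, h])) (four_of_sq h)
    (by rw [map_mul, map_mul, e.eq, map_inv, mul_inv_cancel_right])
  rwa [mul_inv_eq_iff_eq_mul] at this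

theorem comm_trick {K : G → Prop} (hm : ∀ s t, K s → K t → K (s * t⁻¹))
    (hc : ∀ a b d s, K s → K (ψ (uu a b d) * s * (ψ (uu a b d))⁻¹)) {a b d : F}
    (h : K (ψ (uu a b d))) (hn : ¬ (a = 0 ∧ b = 0)) (e : F) : K (ψ (uu 0 0 e)) := by
  by_cases ha : a = 0
  · have hb : b ≠ 0 := fun hb => hn ⟨ha, hb⟩
    have := hm _ _ (hc (e / b) 0 0 _ h) h
    rw [← map_inv, ← map_mul, ← map_mul, uu_conj, ← map_inv, ← map_mul, uu_inv, uu_mul] at this
    convert this using 3 <;> grind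
  · have := hm _ _ (hc 0 (e / a) 0 _ h) h
    rw [← map_inv, ← map_mul, ← map_mul, uu_conj, ← map_inv, ← map_mul, uu_inv, uu_mul] at this
    convert this using 3 <;> grind

theorem Chart.mem_S (C : H.Chart x ψ) (T : TypB ψ c) {s : G} (hs : s ∈ H.N x) (h4 : s ^ 4 = 1)
    (hc : s • c = c) : ∃ a b d, s = ψ (uu a b d) := by
  obtain ⟨g, g4, rfl⟩ := C.lift4 hs h4
  exact ⟨_, _, _, congrArg ψ ((T.2 g hc).eq_uu g4)⟩

theorem Chart.uu_mem_J (C : H.Chart x ψ) (T : FixU ψ c) {a b : F} (h : a * b = 0) (d : F) :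
    ψ (uu a b d) ∈ H.J x c :=
  ⟨C.mem' _, by rw [← map_mul, uu_sq, h, uu_zero, map_one], T _ _ _⟩

theorem Chart.mem_J (C : H.Chart x ψ) (T : TypB ψ c) {s : G} (h : s ∈ H.J x c) :
    ∃ a b d, a * b = 0 ∧ s = ψ (uu a b d) := by
  obtain ⟨a, b, d, rfl⟩ := C.mem_S T h.1 (four_of_sq h.2.1) h.2.2
  have := h.2.1
  rw [← map_mul, uu_sq] at this
  exact ⟨a, b, d, (C.uu_eq_one this).2.2, rfl⟩

theorem Chart.mem_Zs (C : H.Chart x ψ) (T : TypB ψ c) {s : G} :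
    s ∈ H.Zs x c ↔ ∃ d, s = ψ (uu 0 0 d) := by
  constructor
  · intro h
    obtain ⟨a, b, d, -, rfl⟩ := C.mem_J T h.1
    have h1 := C.comm_uu.mp (h.2 _ (C.uu_mem_J T.1 (a := 0) (b := 1) (by simp) 0))
    have h2 := C.comm_uu.mp (h.2 _ (C.uu_mem_J T.1 (a := 1) (b := 0) (by simp) 0))
    simp only [mul_one, zero_mul, mul_zero, one_mul] at h1 h2
    exact ⟨d, by rw [h1, ← h2]⟩
  · rintro ⟨d, rfl⟩
    refine ⟨C.uu_mem_J T.1 (by simp) d, fun t ht => ?_⟩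
    obtain ⟨a, b, d', -, rfl⟩ := C.mem_J T ht
    exact C.comm_uu.mpr (by simp)

theorem Chart.bor (C : H.Chart x ψ) (T : TypB ψ c) : H.J x c ⊆ H.Vs x c := by
  intro s hs
  refine ⟨hs, fun t ht => ?_⟩
  obtain ⟨a, b, d, -, rfl⟩ := C.mem_J T hs
  obtain ⟨a', b', d', -, rfl⟩ := C.mem_J T ht
  rw [← map_inv, ← map_mul, ← map_mul, uu_conj]
  exact C.comm_uu.mpr rfl

theorem Chart.tv_mem_J (C : H.Chart x ψ) {v : Vec F} (h : Ov ψ c v) {u f : Vec F}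
    (h1 : f ⬝ᵥ u = 0) (h2 : f ⬝ᵥ v = 0) : ψ (tv u f) ∈ H.J x c :=
  ⟨C.mem' _, by rw [← map_mul, tv_sq, map_one], h.tv_fix h1 h2⟩

theorem Chart.ov_mem_J (C : H.Chart x ψ) {v : Vec F} (h : Ov ψ c v) {s : G} (hs : s ∈ H.J x c) :
    ∃ u f, f ⬝ᵥ u = 0 ∧ f ⬝ᵥ v = 0 ∧ s = ψ (tv u f) := by
  by_cases h1 : s = 1
  · exact ⟨0, 0, by simp, by simp, by rw [h1, tv_zero_left, map_one]⟩
  obtain ⟨u, f, hu, -, h2, rfl⟩ := C.exists_tv' hs.1 hs.2.1 h1
  exact ⟨u, f, h2, h.dot_eq hu h2 hs.2.2, rfl⟩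

theorem Chart.Vs_eq (C : H.Chart x ψ) {v : Vec F} (h : Ov ψ c v) : H.Vs x c = Vv ψ v := by
  ext s
  constructor
  · rintro ⟨hs, hV⟩
    obtain ⟨u, f, h1, h2, rfl⟩ := C.ov_mem_J h hs
    by_cases hp : Par v u
    · obtain ⟨a, rfl⟩ := hp
      exact ⟨a • f, by simp [h2], by rw [tv_smul_left a h2]⟩
    by_cases hf : f = 0
    · exact ⟨0, by simp, by rw [hf, tv_zero_right, tv_zero_right]⟩
    exfalso
    obtain ⟨f', g1, g2⟩ := exists_form h.1 hp 1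
    have hf' : f' ≠ 0 := by rintro rfl; simp at g2
    obtain ⟨u', k1, k2⟩ := exists_form hf' (v := f) (by
      rintro ⟨a, rfl⟩
      rw [smul_dotProduct, g2, smul_eq_mul, mul_one] at h1
      exact hf (by rw [h1, zero_smul])) 1
    rw [dotProduct_comm] at k1 k2
    have := hV _ (C.tv_mem_J h k1 g1)
    rw [← map_inv, ← map_mul, ← map_mul] at this
    have e := (C.comm_of (by rw [sq_conj, tv_sq]) this).eq
    have := congrArg (fun g : SL F => f ⬝ᵥ (g • u')) e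
    simp only [tv_inv, mul_smul, tv_smul h1, tv_smul k1, dotProduct_add, dotProduct_smul, h1, k1,
      k2, g2, smul_eq_mul] at this
    grind
  · rintro ⟨f, hf, rfl⟩
    refine ⟨C.tv_mem_J h hf hf, fun t ht => ?_⟩
    obtain ⟨u', f', h1, h2, rfl⟩ := C.ov_mem_J h ht
    rw [← map_inv, ← map_mul, ← map_mul, conj_tv _ hf, tv_smul h1, h2, zero_smul, add_zero]
    have : cv (tv u' f') f ⬝ᵥ v = 0 := by
      rw [cv_dot, tv_inv, tv_smul h1, h2, zero_smul, add_zero, hf]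
    show _ = _
    rw [← map_mul, ← map_mul, tv_mul_right hf this, tv_mul_right this hf, add_comm]

theorem Chart.not_bor (C : H.Chart x ψ) {v : Vec F} (h : Ov ψ c v) : ¬ H.J x c ⊆ H.Vs x c := by
  intro hs
  obtain ⟨u, hu⟩ := exists_not_par h.1
  obtain ⟨f, f0, f1, f2⟩ := exists_form_two u v
  have := hs (C.tv_mem_J h f1 f2)
  rw [C.Vs_eq h] at this
  obtain ⟨f', f3, e⟩ := this
  exact hu (par_of_tv_eq f0 f1 f3 (C.tv_inj e))

variable [Finite Ω]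

theorem bor_inv {x' c' : Ω} (hc : c ≠ x) (hc' : c' ≠ x') (h : H.J x c ⊆ H.Vs x c) :
    H.J x' c' ⊆ H.Vs x' c' := by
  refine H.pair_ind (P := fun x c => H.J x c ⊆ H.Vs x c) (fun g x c h s hs => ?_) hc h hc'
  obtain ⟨s, rfl⟩ := exists_conj_eq g s
  exact (conj_Vs g).mpr (h ((conj_J g).mp hs))

theorem Bor.typB (hB : H.Bor) (C : H.Chart x ψ) (hc : c ≠ x) (h : FixU ψ c) : TypB ψ c := by
  rcases C.trich hc h with h | h | h
  · exact h
  · exact absurd (hB x c hc) (C.not_bor h)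
  · exact absurd (hB x c hc) (C.dual.not_bor h)

theorem Chart.exists_cj [Finite F] (C : H.Chart x ψ) (hc : c ≠ x) : ∃ h, FixU (L3.Hy.cj ψ h) c := by
  obtain ⟨h, hh⟩ := C.exists_fixU hc
  refine ⟨h⁻¹, fun a b d => ?_⟩
  rw [cj_apply, inv_inv, map_mul, map_mul, mul_smul, mul_smul, hh, map_inv, inv_smul_smul]

theorem Bor.exists_typB [Finite F] (hB : H.Bor) (hc : c ≠ x) : ∃ ψ, H.Chart x ψ ∧ TypB ψ c := by
  obtain ⟨ψ, C⟩ := H.exists_chart x
  obtain ⟨h, hh⟩ := C.exists_cj hc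
  exact ⟨_, C.cj h, hB.typB (C.cj h) hc hh⟩

theorem Chart.aut' (C : H.Chart x ψ) {y : G} (hy : y ∈ H.J c x) (h : TrivU ψ y) :
    (∃ a b d, y = ψ (uu a b d)) ∨ H.Cent x y := by
  obtain ⟨a, b, d, k, hk, rfl⟩ := C.aut hy.2.2 h
  rcases lemX (C.mem' _) hk hy.1 hy.2.1 with e | e
  · right; rwa [e, one_mul]
  · left; exact ⟨a, b, d, by rw [e, mul_one]⟩

theorem Chart.conj_S (C : H.Chart x ψ) (T : TypB ψ c) {y : G} (h1 : y • x = x) (h2 : y • c = c)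
    (a b d : F) : ∃ a' b' d', y * ψ (uu a b d) * y⁻¹ = ψ (uu a' b' d') := by
  refine C.mem_S T (conj_mem' (C.mem' _) h1) ?_ ?_
  · rw [conj_pow, ← map_pow, uu_four, map_one, mul_one, mul_inv_cancel]
  · rw [mul_smul, mul_smul, inv_smul_eq_iff.mpr h2.symm, T.1, h2]

variable [Finite F]

theorem Bor.b1 (hB : H.Bor) (hc : c ≠ x) : H.Zs x c ⊆ H.N c := by
  by_contra hn
  obtain ⟨ψ, C, T⟩ := hB.exists_typB hc
  have hS : ∀ a b d, ψ (uu a b d) ∈ H.N c → a = 0 ∧ b = 0 := by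
    intro a b d h
    by_contra h'
    apply hn
    intro s hs
    obtain ⟨e, rfl⟩ := (C.mem_Zs T).mp hs
    exact comm_trick (K := fun s => s ∈ H.N c)
      (fun s t hs ht => (H.N c).mul_mem hs ((H.N c).inv_mem ht))
      (fun a b d s hs => conj_mem' hs (T.1 ..)) h h' e
  have hP : ∀ s ∈ H.J x c, s ∈ H.N c → s ∈ H.Zs x c := by
    intro s hs h
    obtain ⟨a, b, d, -, rfl⟩ := C.mem_J T hs
    obtain ⟨rfl, rfl⟩ := hS _ _ _ h
    exact (C.mem_Zs T).mpr ⟨d, rfl⟩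
  have hy : ∀ y ∈ H.J c x, H.Cent x y ∨ ∃ d, y = ψ (uu 0 0 d) := by
    intro y hy
    have : TrivU ψ y := by
      intro a b d
      obtain ⟨a', b', d', e⟩ := C.conj_S T hy.2.2 (fix_of_mem hy.1) a b d
      have := hS (a' + a) (b' + b) (d' + (d + a * b) + a' * b) (by
        rw [← uu_mul, ← uu_inv, map_mul, ← e, map_inv,
          show y * ψ (uu a b d) * y⁻¹ * (ψ (uu a b d))⁻¹ =
            y * (ψ (uu a b d) * y⁻¹ * (ψ (uu a b d))⁻¹) by group]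
        exact (H.N c).mul_mem hy.1 (conj_mem' ((H.N c).inv_mem hy.1) (T.1 ..)))
      exact ⟨d', by rw [e]; congr 2 <;> grind⟩
    rcases C.aut' hy this with ⟨a, b, d, rfl⟩ | h
    · obtain ⟨rfl, rfl⟩ := hS _ _ _ hy.1
      exact Or.inr ⟨d, rfl⟩
    · exact Or.inl h
  obtain ⟨χ, D, T'⟩ := hB.exists_typB hc.symm
  have y1 := D.uu_mem_J T'.1 (a := 1) (b := 0) (by simp) 0
  have y2 := D.uu_mem_J T'.1 (a := 0) (b := 1) (by simp) 0
  have nc : ¬ Commute (χ (uu 1 0 0)) (χ (uu 0 1 0)) := by rw [D.comm_uu]; simp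
  have key : ∀ y ∈ H.J c x, ∀ y' ∈ H.J c x, ¬ Commute y y' → H.Cent x y := by
    intro y h y' h' nc
    rcases hy y h with k | ⟨d, rfl⟩
    · exact k
    rcases hy y' h' with k | ⟨d', rfl⟩
    · exact absurd (show Commute _ _ from k _ (C.mem' _)).symm nc
    · exact absurd (C.comm_uu.mpr (by simp)) nc
  obtain ⟨n, hn, hne⟩ := H.exists_move hc
  have mv : ∀ y ∈ H.J c x, H.Cent x y → y ∈ H.J c (n • c) ∧ y ∈ H.N (n • c) := by
    intro y h k
    have : y ∈ H.N (n • c) := by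
      have := conj_mem h.1 n
      rwa [← k n hn, mul_inv_cancel_right] at this
    exact ⟨⟨h.1, h.2.1, fix_of_mem this⟩, this⟩
  have hP' := H.pair_ind (P := fun x c => ∀ s ∈ H.J x c, s ∈ H.N c → s ∈ H.Zs x c)
    (fun g x c h s hs hs' => by
      obtain ⟨s, rfl⟩ := exists_conj_eq g s
      exact (conj_Zs g).mpr (h s ((conj_J g).mp hs) ((conj_mem_iff g).mp hs'))) hc hP hne
  have m1 := mv _ y1 (key _ y1 _ y2 nc)
  have m2 := mv _ y2 (key _ y2 _ y1 fun h => nc h.symm)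
  exact nc ((hP' _ m1.1 m1.2).2 _ m2.1)

omit [CharP F 2] [Finite F] [Finite Ω] in
theorem Zs_mul {s t : G} (hs : s ∈ H.Zs x c) (ht : t ∈ H.Zs x c) : s * t⁻¹ ∈ H.Zs x c := by
  rw [inv_eq_of_mul_eq_one_left ht.1.2.1]
  refine ⟨⟨(H.N x).mul_mem hs.1.1 ht.1.1, ?_, by rw [mul_smul, ht.1.2.2, hs.1.2.2]⟩,
    fun r hr => (hs.2 r hr).mul_left (ht.2 r hr)⟩
  rw [mul_assoc, ← mul_assoc t, ← (hs.2 t ht.1).eq, mul_assoc, ht.1.2.1, mul_one, hs.1.2.1]

theorem Bor.b2 (hB : H.Bor) (hc : c ≠ x) : H.Zs x c = H.Zs c x := by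
  have inv : ∀ {x c x' c' : Ω}, c ≠ x → c' ≠ x' → H.Zs x c ⊆ H.Zs c x → H.Zs x' c' ⊆ H.Zs c' x' := by
    intro x c x' c' hc hc' h
    refine H.pair_ind (P := fun x c => H.Zs x c ⊆ H.Zs c x) (fun g x c h s hs => ?_) hc h hc'
    obtain ⟨s, rfl⟩ := exists_conj_eq g s
    exact (conj_Zs g).mpr (h ((conj_Zs g).mp hs))
  have : H.Zs x c ⊆ H.Zs c x ∨ H.Zs c x ⊆ H.Zs x c := by
    by_cases h : H.Zs x c ⊆ H.Zs c x
    · exact Or.inl h
    right
    obtain ⟨z, hz, hz'⟩ := Set.not_subset.mp h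
    obtain ⟨χ, D, T⟩ := hB.exists_typB hc.symm
    obtain ⟨a, b, d, -, rfl⟩ := D.mem_J T ⟨hB.b1 hc hz, hz.1.2.1, fix_of_mem hz.1.1⟩
    intro s hs
    obtain ⟨e, rfl⟩ := (D.mem_Zs T).mp hs
    refine comm_trick (K := fun s => s ∈ H.Zs x c) (fun s t => Zs_mul)
      (fun a b d s hs => conj_Zs' (T.1 ..) (fix_of_mem (D.mem' _)) hs) hz ?_ e
    rintro ⟨rfl, rfl⟩
    exact hz' ((D.mem_Zs T).mpr ⟨d, rfl⟩)
  rcases this with h | h
  · exact h.antisymm (inv hc hc.symm h)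
  · exact (inv hc.symm hc h).antisymm h

/-- `y` does not swap the two maximal elementary abelian subgroups. -/
def NS (ψ : SL F →* G) (y : G) (α : F) : Prop :=
  ∀ a b d, ∃ d', y * ψ (uu a b d) * y⁻¹ = ψ (uu (α * a) (b / α) d')

/-- `y` swaps the two maximal elementary abelian subgroups. -/
def SW (ψ : SL F →* G) (y : G) (α : F) : Prop :=
  ∀ a b d, ∃ d', y * ψ (uu a b d) * y⁻¹ = ψ (uu (b / α) (α * a) d')

omit [Finite F] in
theorem Chart.act (C : H.Chart x ψ) (T : TypB ψ c) {y : G} (h1 : y • x = x) (h2 : y • c = c)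
    (hz : ∀ d, y * ψ (uu 0 0 d) * y⁻¹ = ψ (uu 0 0 d)) : ∃ α ≠ 0, NS ψ y α ∨ SW ψ y α := by
  have cm : ∀ {a b d a' b' d' a2 b2 d2 a2' b2' d2' : F}, y * ψ (uu a b d) * y⁻¹ = ψ (uu a' b' d') →
      y * ψ (uu a2 b2 d2) * y⁻¹ = ψ (uu a2' b2' d2') → a * b2 + a2 * b = a' * b2' + a2' * b' := by
    intro a b d a' b' d' a2 b2 d2 a2' b2' d2' e e'
    have k : ∀ a b d a2 b2 d2 : F, uu 0 0 (a * b2 + a2 * b) =
        uu a b d * uu a2 b2 d2 * (uu a b d)⁻¹ * (uu a2 b2 d2)⁻¹ := by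
      intros
      rw [uu_conj, uu_inv, uu_mul]
      congr 1 <;> grind
    have := hz (a * b2 + a2 * b)
    refine (C.uu_inj (a := 0) (b := 0) (a' := 0) (b' := 0) ?_).2.2
    rw [← this, k _ _ d _ _ d2, k _ _ d' _ _ d2']
    simp only [map_mul, map_inv, ← e, ← e']
    group
  have sq : ∀ {a b d a' b' d' : F}, y * ψ (uu a b d) * y⁻¹ = ψ (uu a' b' d') → a * b = 0 →
      a' * b' = 0 := by
    intro a b d a' b' d' e h
    have : ψ (uu a' b' d') * ψ (uu a' b' d') = 1 := by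
      rw [← e, sq_conj, ← map_mul, uu_sq, h, uu_zero, map_one]
    rw [← map_mul, uu_sq] at this
    exact (C.uu_eq_one this).2.2
  obtain ⟨a1, b1, d1, e1⟩ := C.conj_S T h1 h2 1 0 0
  obtain ⟨a2, b2, d2, e2⟩ := C.conj_S T h1 h2 0 1 0
  have s1 := sq e1 (by simp)
  have s2 := sq e2 (by simp)
  have c12 := cm e1 e2
  by_cases h : a1 = 0
  · have hb : b1 ≠ 0 := by rintro rfl; simp [h] at c12
    refine ⟨b1, hb, Or.inr fun a b d => ?_⟩
    obtain ⟨a', b', d', e⟩ := C.conj_S T h1 h2 a b d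
    have k1 := cm e e1
    have k2 := cm e e2
    exact ⟨d', by rw [e]; congr 2 <;> grind⟩
  · refine ⟨a1, h, Or.inl fun a b d => ?_⟩
    obtain ⟨a', b', d', e⟩ := C.conj_S T h1 h2 a b d
    have k1 := cm e e1
    have k2 := cm e e2
    exact ⟨d', by rw [e]; congr 2 <;> grind⟩

theorem Bor.centZ (hB : H.Bor) (hc : c ≠ x) (C : H.Chart x ψ) (T : TypB ψ c) {y : G}
    (hy : y ∈ H.J c x) (d : F) : y * ψ (uu 0 0 d) * y⁻¹ = ψ (uu 0 0 d) := by
  have := (C.mem_Zs T).mpr ⟨d, rfl⟩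
  rw [hB.b2 hc] at this
  rw [← (this.2 y hy).eq, mul_inv_cancel_right]

theorem Bor.b3 (hB : H.Bor) (hc : c ≠ x) (C : H.Chart x ψ) (T : TypB ψ c) {y : G}
    (hy : y ∈ H.J c x) : y ∈ H.N x ∨ ∃ α ≠ 0, SW ψ y α := by
  obtain ⟨α, hα, h | h⟩ := C.act T hy.2.2 (fix_of_mem hy.1) (hB.centZ hc C T hy)
  swap
  · exact Or.inr ⟨α, hα, h⟩
  left
  have : α = 1 := by
    obtain ⟨d, e⟩ := h 1 0 0
    obtain ⟨d', e'⟩ := h (α * 1) (0 / α) d
    rw [← e, show y * (y * ψ (uu 1 0 0) * y⁻¹) * y⁻¹ = y * y * ψ (uu 1 0 0) * (y * y)⁻¹ by group,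
      hy.2.1, one_mul, inv_one, mul_one] at e'
    have := (C.uu_inj e').1
    exact eq_one_of_sq (by simpa using this.symm)
  subst this
  rcases C.aut' hy (fun a b d => by simpa using h a b d) with ⟨a, b, d, rfl⟩ | k
  · exact C.mem' _
  obtain ⟨χ, D, T'⟩ := hB.exists_typB hc.symm
  obtain ⟨a, b, d, -, rfl⟩ := D.mem_J T' hy
  have hZ : ∀ d, χ (uu 0 0 d) ∈ H.N x := fun d => hB.b1 hc.symm ((D.mem_Zs T').mpr ⟨d, rfl⟩)
  by_cases hn : a = 0 ∧ b = 0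
  · rw [hn.1, hn.2]; exact hZ d
  have := comm_trick (K := H.Cent x) (fun s t hs ht => hs.mul ht.inv)
    (fun a b d s hs => by have := hs.conj (χ (uu a b d)); rwa [T'.1] at this) k hn 1
  exact absurd (D.uu_eq_one (this.eq_one (hZ 1))).2.2 one_ne_zero

end Hy

end Cfsg.Agent.H2.L3
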