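import Cfsg.Agent.H2.L3a
import Cfsg.Agent.H4.Golay
import Cfsg.Agent.H6.Transfer

/-!
# The Golay code and the projective plane of order 4
-/

set_option autoImplicit false

namespace Cfsg.Agent.H2.L3

open Matrix Equiv Cfsg.Spor Cfsg.Agent.H4 Cfsg.Agent.H4.Golay Cfsg.Agent.H6
open scoped Pointwise

/-- Words orthogonal to a given word. -/
def orth (x : GolayPt → ZMod 2) : Submodule (ZMod 2) (GolayPt → ZMod 2) where
  carrier := {y | y ⬝ᵥ x = 0}
  zero_mem' := by simp
  add_mem' {a b} ha hb := by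
    rw [Set.mem_setOf_eq] at *
    rw [add_dotProduct, ha, hb, add_zero]
  smul_mem' c a ha := by
    rw [Set.mem_setOf_eq] at *
    rw [smul_dotProduct, ha, smul_zero]

theorem orth_of_rows {x y : GolayPt → ZMod 2} (h : ∀ r ∈ rows, word r ⬝ᵥ x = 0)
    (hy : y ∈ golayCode) : y ⬝ᵥ x = 0 := by
  have : golayCode ≤ orth x := by
    rw [code_eq, Submodule.span_le]
    rintro _ ⟨r, hr, rfl⟩
    exact h r hr
  exact this hy

theorem code_dot {u v : GolayPt → ZMod 2} (hu : u ∈ golayCode) (hv : v ∈ golayCode) :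
    u ⬝ᵥ v = 0 := by
  refine orth_of_rows (fun r hr => ?_) hu
  rw [dotProduct_comm]
  refine orth_of_rows (fun r' hr' => ?_) hv
  revert r r'
  decide +kernel

/-- Systematic form of the code. -/
def dH : List ℕ := [3753, 280, 3225, 1400, 3770, 3991, 3533, 2000, 1347, 101, 3683, 3621, 345, 690,
  1085, 665, 1131, 876, 1921, 1505, 289, 578, 1501, 3734]

theorem mem_code_of {x : GolayPt → ZMod 2} (h : ∀ r ∈ rows, word r ⬝ᵥ x = 0) : x ∈ golayCode := by
  have hd : ∀ q : GolayPt, word (xorSel rows (dH.getD (ix q) 0)) ∈ golayCode := fun q =>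
    word_xorSel rows_mem _
  have e : ∀ q p : GolayPt, (ix p < 12 ↔ ix q < 12) →
      word (xorSel rows (dH.getD (ix q) 0)) p = if p = q then 1 else 0 := by decide +kernel
  generalize hD : (fun q => word (xorSel rows (dH.getD (ix q) 0))) = d
  replace hD : ∀ q, word (xorSel rows (dH.getD (ix q) 0)) = d q := fun q => congrFun hD q
  simp only [hD] at hd e
  have hc : ∑ q ∈ Finset.univ.filter (fun q => ix q < 12), x q • d q ∈ golayCode :=
    Submodule.sum_mem _ fun q _ => Submodule.smul_mem _ _ (hd q)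
  have h1 : ∀ p, ix p < 12 → (x - ∑ q ∈ Finset.univ.filter (fun q => ix q < 12), x q • d q) p = 0 := by
    intro p hp
    rw [Pi.sub_apply, Finset.sum_apply, Finset.sum_eq_single p]
    · simp [e p p]
    · intro q hq hn
      simp [e q p (by simpa [hp] using hq), hn.symm]
    · simp [hp]
  have h2 : ∀ q, d q ⬝ᵥ (x - ∑ q ∈ Finset.univ.filter (fun q => ix q < 12), x q • d q) = 0 :=
    fun q => by rw [dotProduct_sub, orth_of_rows h (hd q), code_dot (hd q) hc, sub_zero]
  convert hc using 1
  rw [← sub_eq_zero]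
  generalize x - ∑ q ∈ Finset.univ.filter (fun q => ix q < 12), x q • d q = y at h1 h2
  funext q
  by_cases hq : ix q < 12
  · exact h1 q hq
  have := h2 q
  rw [dotProduct, Finset.sum_eq_single q] at this
  · simpa [e q q] using this
  · intro p _ hn
    by_cases hp : ix p < 12
    · simp [h1 p hp]
    · simp [e q p (by simp [hp, hq]), hn]
  · simp

theorem wt_chk : allSpan (fun m => bor (Nat.beq (pc m) 0) (Nat.ble 8 (pc m))) rows 0 = true := by
  decide +kernel

theorem min_wt {w : GolayPt → ZMod 2} (hw : w ∈ golayCode) (h : (support₂ w).card < 8) : w = 0 := by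
  rw [code_eq] at hw
  obtain ⟨m, h1, h2⟩ := allSpan_sound wt_chk hw
  rw [word_zero, zero_add] at h1
  rw [← h1, card_support_word] at h
  have k : ∀ n < 8, bor (Nat.beq n 0) (Nat.ble 8 n) = true → n = 0 := by decide +kernel
  have := k _ h h2
  rw [← card_support_word, Finset.card_eq_zero, h1] at this
  funext q
  by_contra hq
  have : q ∈ support₂ w := by simpa [support₂] using hq
  simp_all

theorem eq_of_five {w w' : GolayPt → ZMod 2} (hw : w ∈ golayCode) (hw' : w' ∈ golayCode)
    (h : (support₂ w).card = 8) (h' : (support₂ w').card = 8) (T : Finset GolayPt)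
    (hT : 5 ≤ T.card) (h1 : ∀ p ∈ T, w p = 1) (h2 : ∀ p ∈ T, w' p = 1) : w = w' := by
  rw [← sub_eq_zero]
  refine min_wt (golayCode.sub_mem hw hw') ?_
  have k : ∀ a b : ZMod 2, a - b ≠ 0 → (a ≠ 0 ∨ b ≠ 0) ∧ ¬ (a = 1 ∧ b = 1) := by decide
  have s : support₂ (w - w') ⊆ (support₂ w \ T) ∪ (support₂ w' \ T) := by
    intro p hp
    simp only [support₂, Finset.mem_filter, Finset.mem_univ, true_and, Finset.mem_union,
      Finset.mem_sdiff, Pi.sub_apply] at hp ⊢
    have := k _ _ hp
    have hp' : p ∉ T := fun hp => this.2 ⟨h1 p hp, h2 p hp⟩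
    exact this.1.imp (fun h => ⟨h, hp'⟩) fun h => ⟨h, hp'⟩
  have c := (Finset.card_le_card s).trans (Finset.card_union_le _ _)
  rw [Finset.card_sdiff_of_subset (fun p hp => by simp [support₂, h1 p hp]),
    Finset.card_sdiff_of_subset (fun p hp => by simp [support₂, h2 p hp])] at c
  omega

theorem comp_mem {g : Perm GolayPt} (hg : g ∈ M24) {w : GolayPt → ZMod 2} (hw : w ∈ golayCode) :
    w ∘ g ∈ golayCode := by
  have h := M24.inv_mem hg
  rw [MulAction.mem_stabilizer_iff] at h
  have : g⁻¹ • support₂ w ∈ supports (golayCode : Set (GolayPt → ZMod 2)) := by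
    rw [← h]
    exact Set.smul_mem_smul_set ⟨w, hw, rfl⟩
  obtain ⟨w', hw', e⟩ := this
  rw [smul_support, inv_inv] at e
  suffices w ∘ g = w' by rw [this]; exact hw'
  funext q
  have := Finset.ext_iff.mp e q
  simp only [support₂, Finset.mem_filter, Finset.mem_univ, true_and] at this
  have k : ∀ a b : ZMod 2, (a ≠ 0 ↔ b ≠ 0) → b = a := by decide
  exact k _ _ this

theorem card_comp (g : Perm GolayPt) (w : GolayPt → ZMod 2) :
    (support₂ (w ∘ g)).card = (support₂ w).card := by
  rw [← inv_inv g, ← smul_support, Finset.card_smul_finset]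

theorem oct_inv {g : Perm GolayPt} (hg : g ∈ M24) {S o : ℕ} (hS : ∀ q, S.testBit (ix q) → g q = q)
    (ho : word o ∈ golayCode) (h8 : pc o = 8) (h5 : 5 ≤ pc (o &&& S)) : word o ∘ g = word o := by
  have k : ∀ p ∈ support₂ (word (o &&& S)), word o p = 1 ∧ g p = p := by
    intro p hp
    rw [mem_support_word, Nat.testBit_and, Bool.and_eq_true] at hp
    exact ⟨by simp [word, hp.1], hS p hp.2⟩
  exact eq_of_five (comp_mem hg ho) ho (by rw [card_comp, card_support_word, h8])
    (by rw [card_support_word, h8]) _ (by rwa [card_support_word])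
    (fun p hp => by rw [Function.comp_apply, (k p hp).2, (k p hp).1]) fun p hp => (k p hp).1

/-- One step of the closure argument. -/
abbrev Stp (S h1 h2 S' : ℕ) : Prop :=
  pc (xorSel rows h1) = 8 ∧ 5 ≤ pc (xorSel rows h1 &&& S) ∧ pc (xorSel rows h2) = 8 ∧
    5 ≤ pc (xorSel rows h2 &&& S) ∧ ∀ q, S'.testBit (ix q) → S.testBit (ix q) ∨
      (word (xorSel rows h1) q = 1 ∧ word (xorSel rows h2) q = 1 ∧ ∀ p, word (xorSel rows h1) p = 1 →
        word (xorSel rows h2) p = 1 → S.testBit (ix p) ∨ p = q)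

theorem step {g : Perm GolayPt} (hg : g ∈ M24) {S : ℕ} (h1 h2 S' : ℕ) (h : Stp S h1 h2 S')
    (hS : ∀ q, S.testBit (ix q) → g q = q) : ∀ q, S'.testBit (ix q) → g q = q := by
  intro q hq
  rcases h.2.2.2.2 q hq with k | ⟨k1, k2, k⟩
  · exact hS q k
  rcases k (g q) ((congrFun (oct_inv hg hS (word_xorSel rows_mem _) h.1 h.2.1) q).trans k1)
    ((congrFun (oct_inv hg hS (word_xorSel rows_mem _) h.2.2.1 h.2.2.2.1) q).trans k2) with k | k
  · exact g.injective (hS _ k)
  · exact k

theorem eq_one_of_seven {g : Perm GolayPt} (hg : g ∈ M24)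
    (hS : ∀ q, Nat.testBit 8521803 (ix q) → g q = q) : g = 1 := by
  have := step hg 212 2087 8521931 (by decide +kernel) hS
  have := step hg 212 2646 9570507 (by decide +kernel) this
  have := step hg 212 212 9603275 (by decide +kernel) this
  have := step hg 268 293 9865419 (by decide +kernel) this
  have := step hg 30 82 9866443 (by decide +kernel) this
  have := step hg 30 302 11963595 (by decide +kernel) this
  have := step hg 15 38 11963627 (by decide +kernel) this
  have := step hg 15 67 11964139 (by decide +kernel) this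
  have := step hg 15 15 11964143 (by decide +kernel) this
  have := step hg 30 30 16158447 (by decide +kernel) this
  have := step hg 38 47 16174831 (by decide +kernel) this
  have := step hg 19 38 16699119 (by decide +kernel) this
  have := step hg 19 35 16707311 (by decide +kernel) this
  have := step hg 19 19 16707327 (by decide +kernel) this
  have := step hg 35 67 16772863 (by decide +kernel) this
  have := step hg 35 35 16776959 (by decide +kernel) this
  have := step hg 47 47 16777215 (by decide +kernel) this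
  ext q
  rw [this q (by revert q; decide +kernel)]
  rfl

/-- A basis of the code: ten lines, a hyperoval, and one more word. -/
def base : List ℕ := [8398155, 9963547, 8536111, 14716939, 8716939, 8505411, 8524371, 13893731,
  12717187, 10496547, 10881097, 340831]

theorem rows_base {W : Submodule (ZMod 2) (GolayPt → ZMod 2)} (h : ∀ b ∈ base, word b ∈ W) :
    ∀ r ∈ rows, word r ∈ W := by
  have : ∀ r ∈ rows, ∃ h ∈ [2048, 1926, 717, 154, 209, 3156, 1779, 3338, 1705, 884, 3719, 31],
      r = xorSel base h := by decide +kernel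
  intro r hr
  obtain ⟨k, -, rfl⟩ := this r hr
  exact word_xorSel h k

theorem mem_M24_or {σ : Perm GolayPt} (h0 : σ none = none) (h1 : σ (some 0) = some 0)
    (h : ∀ b ∈ base, b ≠ 340831 → word b ∘ σ ∈ golayCode ∧ word b ∘ ⇑σ⁻¹ ∈ golayCode) :
    σ ∈ M24 ∨ swap none (some 0) * σ ∈ M24 := by
  have hr : word 340831 ∈ golayCode := rows_mem _ (by decide)
  have k : ∀ b ∈ base, b ≠ 340831 → word b ⬝ᵥ (word 340831 ∘ ⇑σ⁻¹) = 0 := by
    intro b hb hn
    rw [← code_dot (h b hb hn).1 hr]
    exact dotProduct_comp_equiv_symm _ _ σ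
  have mb : ∀ τ : Perm GolayPt, (∀ b ∈ base, word b ∘ ⇑τ⁻¹ ∈ golayCode) → τ ∈ M24 := fun τ h =>
    mem_M24_of (rows_base (W := golayCode.comap (LinearMap.funLeft (ZMod 2) (ZMod 2) ⇑τ⁻¹)) h)
  have mc : ∀ x, (∀ b ∈ base, word b ⬝ᵥ x = 0) → x ∈ golayCode := fun x h =>
    mem_code_of (rows_base (W := orth x) h)
  have i0 : σ⁻¹ none = none := by rw [Perm.inv_eq_iff_eq, h0]
  have i1 : σ⁻¹ (some 0) = some 0 := by rw [Perm.inv_eq_iff_eq, h1]
  by_cases hd : word 340831 ⬝ᵥ (word 340831 ∘ ⇑σ⁻¹) = 0
  · refine Or.inl (mb _ fun b hb => ?_)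
    by_cases hn : b = 340831
    · rw [hn]
      refine mc _ fun b hb => ?_
      by_cases hn : b = 340831
      · rw [hn, hd]
      · exact k b hb hn
    · exact (h b hb hn).2
  refine Or.inr (mb _ fun b hb => ?_)
  rw [_root_.mul_inv_rev, swap_inv, Perm.coe_mul, ← Function.comp_assoc]
  by_cases hn : b = 340831
  · have : (word 340831 ∘ ⇑σ⁻¹) ∘ swap none (some 0) = word 340831 ∘ ⇑σ⁻¹ + word 8388609 := by
      funext p
      rw [Function.comp_apply, Pi.add_apply]
      by_cases p0 : p = none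
      · rw [p0, swap_apply_left, Function.comp_apply, Function.comp_apply, i0, i1]; decide +kernel
      by_cases p1 : p = some 0
      · rw [p1, swap_apply_right, Function.comp_apply, Function.comp_apply, i0, i1]; decide +kernel
      rw [swap_apply_of_ne_of_ne p0 p1, show word 8388609 p = 0 by revert p; decide +kernel, add_zero]
    rw [hn, this]
    refine mc _ fun b hb => ?_
    rw [dotProduct_add]
    by_cases hn : b = 340831
    · have : ∀ a : ZMod 2, a ≠ 0 → a + word 340831 ⬝ᵥ word 8388609 = 0 := by decide +kernel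
      rw [hn]
      exact this _ hd
    · rw [k b hb hn, zero_add]
      revert b
      decide +kernel
  · convert (h b hb hn).2 using 1
    funext p
    rw [Function.comp_apply]
    have : word b none = word b (some 0) := by revert b; decide +kernel
    by_cases p0 : p = none
    · rw [p0, swap_apply_left, Function.comp_apply, Function.comp_apply, i0, i1, this]
    by_cases p1 : p = some 0
    · rw [p1, swap_apply_right, Function.comp_apply, Function.comp_apply, i0, i1, this]
    rw [swap_apply_of_ne_of_ne p0 p1]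

/-- The number of a field element. -/
def n4 (x : F4) : ℕ := x.re.val + 2 * x.im.val

/-- The field element of a number. -/
def o4 (n : ℕ) : F4 := ⟨(n % 2 : ℕ), (n / 2 % 2 : ℕ)⟩

/-- Coordinates on the points of the Golay code. -/
def kap (v : Vec F4) : GolayPt := some (([1, 3, 3, 3, 6, 10, 13, 8, 6, 8, 10, 13, 6, 13, 8, 10, 11,
  4, 20, 19, 14, 17, 5, 2, 15, 12, 22, 21, 16, 9, 18, 7, 11, 19, 4, 20, 16, 7, 9, 18, 14, 2, 17, 5,
  15, 21, 12, 22, 11, 20, 19, 4, 15, 22, 21, 12, 16, 18, 7, 9, 14, 5, 2, 17] : List (ZMod 23)).getD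
    (n4 (v 0) + 4 * n4 (v 1) + 16 * n4 (v 2)) 0)

/-- A section of `kap`. -/
def kinv (p : GolayPt) : Vec F4 := fun i => o4 (([0, 0, 41, 1, 17, 61, 4, 37, 9, 29, 5, 16, 25, 13,
  20, 52, 36, 21, 57, 33, 49, 45, 53, 0] : List ℕ).getD (ix p) 0 / 4 ^ i.val)

theorem forall_vec {P : Vec F4 → Prop} (h : ∀ a b c, P ![a, b, c]) (v : Vec F4) : P v := by
  convert h (v 0) (v 1) (v 2)
  exact vec_ext rfl rfl rfl

theorem par_iff (v w : Vec F4) :
    Par v w ↔ ∃ c : F4, w 0 = c * v 0 ∧ w 1 = c * v 1 ∧ w 2 = c * v 2 :=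
  exists_congr fun _ => ⟨fun h => ⟨congrFun h 0, congrFun h 1, congrFun h 2⟩,
    fun h => vec_ext h.1 h.2.1 h.2.2⟩

theorem kap_eq_iff (v w : Vec F4) : kap v = kap w ↔ Par v w ∧ Par w v := by
  simp only [par_iff]
  induction v using forall_vec
  induction w using forall_vec
  rename_i a b c a' b' c'
  revert a b c a' b' c'
  decide +kernel

theorem kap_ne (v : Vec F4) : kap v ≠ none ∧ kap v ≠ some 0 := by
  induction v using forall_vec
  rename_i a b c
  revert a b c
  decide +kernel

theorem kap_kinv : ∀ p, p ≠ none → p ≠ some 0 → kap (kinv p) = p := by decide +kernel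

/-- The word of a line. -/
def lineW (f : Vec F4) (p : GolayPt) : ZMod 2 :=
  if p = none ∨ p = some 0 ∨ f 0 * kinv p 0 + f 1 * kinv p 1 + f 2 * kinv p 2 = 0 then 1 else 0

theorem lineW_kap (f v : Vec F4) : lineW f (kap v) = 1 ↔ f ⬝ᵥ v = 0 := by
  obtain ⟨⟨a, h1⟩, b, h2⟩ := (kap_eq_iff _ _).mp (kap_kinv _ (kap_ne v).1 (kap_ne v).2)
  simp only [lineW, kap_ne v, false_or, ← dot3, ite_eq_left_iff, zero_ne_one, imp_false, not_not]
  exact ⟨fun h => by rw [h1, dotProduct_smul, h, smul_zero],
    fun h => by rw [h2, dotProduct_smul, h, smul_zero]⟩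

theorem lineW_mem {f : Vec F4} (hf : f ≠ 0) :
    lineW f ∈ golayCode ∧ (support₂ (lineW f)).card = 8 := by
  have : ∀ a b c : F4, a ≠ 0 ∨ b ≠ 0 ∨ c ≠ 0 → (∀ r ∈ rows, word r ⬝ᵥ lineW ![a, b, c] = 0) ∧
      (support₂ (lineW ![a, b, c])).card = 8 := by decide +kernel
  induction f using forall_vec
  have := this _ _ _ (vec_ne_zero.mp hf)
  exact ⟨mem_code_of this.1, this.2⟩

theorem base_cases : ∀ b ∈ base, b ≠ 340831 → b = 10881097 ∨
    ∃ x y z : F4, (x ≠ 0 ∨ y ≠ 0 ∨ z ≠ 0) ∧ word b = lineW ![x, y, z] := by decide +kernel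

theorem oval_iff (v : Vec F4) : (v 0 * v 1 * v 2 = 1 ∨ (v ≠ 0 ∧ (Par e0 v ∨ Par e1 v ∨ Par e2 v))) ↔
    word 10881097 (kap v) = 1 := by
  simp only [par_iff, vec_ne_zero]
  induction v using forall_vec
  rename_i a b c
  revert a b c
  decide +kernel

theorem oval_mem : word 10881097 ∈ golayCode := by
  rw [show 10881097 = xorSel rows 2105 by decide +kernel]
  exact word_xorSel rows_mem _

/-- The permutation of an elementary transvection. -/
def mv (i j : Fin 3) (a : F4) (p : GolayPt) : GolayPt :=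
  if p = none ∨ p = some 0 then p
  else kap fun k => if k = i then kinv p i + a * kinv p j else kinv p k

theorem mv_chk : ∀ i j : Fin 3, i ≠ j → ∀ a : F4, ∀ r ∈ rows, ∀ r' ∈ rows,
    word r' ⬝ᵥ (word r ∘ mv i j a) = 0 := by decide +kernel

end Cfsg.Agent.H2.L3
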