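import Cfsg.Agent.H2.O8Gen1
import Cfsg.Agent.H1.S9Sig

/-!
# Generation by the normalizer of a subgroup of order three and a `3'`-core
-/

set_option autoImplicit false

namespace Cfsg.Agent.H2.O8

open Subgroup Cfsg Cfsg.Agent.H3.L43 Cfsg.Agent.H9 Cfsg.Agent.H1.T3

variable {G : Type*} [Group G]

theorem cube_of_zp {z g : G} (hz : z ^ 3 = 1) (hg : g ∈ zpowers z) : g ^ 3 = 1 := by
  obtain ⟨k, rfl⟩ := mem_zpowers_iff.mp hg
  rw [← zpow_natCast, ← zpow_mul, mul_comm, zpow_mul, zpow_natCast, hz, one_zpow]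

theorem gen_core [Finite G] {L K : Subgroup G} (hKL : K ≤ L) (hLK : L ≤ normalizer (K : Set G))
    {t a d : G} (tK : t ∈ K) (t2 : t * t = 1) (tc : ∀ g ∈ L, Commute g t) (aK : a ∈ K)
    (a3 : a ^ 3 = 1) (a1 : a ≠ 1)
    (hc : ∀ g ∈ K, Commute g a → g ∈ zpowers a ∨ g * t ∈ zpowers a) (dL : d ∈ L) (d3 : d ^ 3 = 1)
    (d1 : d ∉ zpowers a) (ad : Commute a d)
    (h57 : ∀ x ∈ closure ({a, d} : Set G), x ≠ 1 → ∀ g ∈ L, Commute g x →
      (g ^ 5 = 1 ∨ g ^ 7 = 1) → g = 1) :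
    ∃ O ≤ L, L ≤ normalizer (O : Set G) ∧ (Nat.card O).Coprime 3 ∧
      ∀ g ∈ L, ∃ o ∈ O, cj (o * g) a = a ∨ cj (o * g) a = a⁻¹ := by
  have : Fact (Nat.Prime 3) := ⟨Nat.prime_three⟩
  have zc : ∀ g ∈ K, ∀ ζ ∈ zpowers t, g * ζ = ζ * g := fun g hg ζ hζ => by
    obtain ⟨k, rfl⟩ := mem_zpowers_iff.mp hζ
    exact ((tc g (hKL hg)).zpow_right k).eq
  have z2 : IsPGroup 2 (zpowers t) := fun x => ⟨1, Subtype.ext (by
    rcases (mem_zpowers_two t2).mp x.2 with h | h <;> simp [h, pow_two, t2])⟩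
  have zcard : Nat.card (zpowers t) ∣ 2 := by
    rw [Nat.card_zpowers]
    exact orderOf_dvd_of_pow_eq_one (by rw [pow_two, t2])
  have c3 : ∀ g ∈ K, Commute g a → g ^ 3 = 1 → g ∈ zpowers a := fun g hg e g3 => by
    refine (hc g hg e).elim id fun h => ?_
    have h1 := cube_of_zp a3 h
    rw [(tc g (hKL hg)).mul_pow, g3, one_mul, pow_three, t2, mul_one] at h1
    rwa [h1, mul_one] at h
  have ca : Nat.card (zpowers a) = 3 := by rw [Nat.card_zpowers, orderOf_three a3 a1]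
  have d0 : d ≠ 1 := fun h => d1 (h ▸ one_mem _)
  have nda : zpowers d ≤ normalizer (zpowers a : Set G) := zpowers_le_of_mem
    ((mem_normalizer_zpowers_three a3 a1).mpr (Or.inl (by rw [← ad.eq, mul_inv_cancel_right])))
  have eA : closure ({a, d} : Set G) = zpowers a ⊔ zpowers d := by
    rw [zpowers_eq_closure, zpowers_eq_closure, ← Subgroup.closure_union]
    rfl
  rw [eA] at h57
  have mA : ∀ x ∈ zpowers a ⊔ zpowers d, ∃ i j : ℤ, x = a ^ i * d ^ j := fun x hx => by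
    obtain ⟨_, ⟨i, rfl⟩, _, ⟨j, rfl⟩, rfl⟩ := (H7.mem_sup_of_norm nda).mp hx
    exact ⟨i, j, rfl⟩
  have A3 : ∀ x ∈ zpowers a ⊔ zpowers d, x ^ 3 = 1 := fun x hx => by
    obtain ⟨i, j, rfl⟩ := mA x hx
    rw [(ad.zpow_zpow i j).mul_pow, cube_of_zp a3 (zpow_mem (mem_zpowers a) i),
      cube_of_zp d3 (zpow_mem (mem_zpowers d) j), one_mul]
  have Aab : ∀ x ∈ zpowers a ⊔ zpowers d, ∀ y ∈ zpowers a ⊔ zpowers d, x * y = y * x :=
    fun x hx y hy => by
      obtain ⟨i, j, rfl⟩ := mA x hx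
      obtain ⟨k, l, rfl⟩ := mA y hy
      exact ((((Commute.refl a).zpow_zpow i k).mul_right (ad.zpow_zpow i l)).mul_left
        ((ad.symm.zpow_zpow j k).mul_right ((Commute.refl d).zpow_zpow j l))).eq
  have A9 : Nat.card (zpowers a ⊔ zpowers d : Subgroup G) = 9 := by
    rw [H7.card_sup_of_inf_eq_bot nda (eq_bot_iff.mpr fun g hg => ?_), ca, Nat.card_zpowers,
      orderOf_three d3 d0]
    rcases (mem_zpowers_three d3).mp hg.2 with h | h | h
    · exact h
    · exact (d1 (h ▸ hg.1)).elim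
    · exact (d1 (inv_mem_iff.mp (h ▸ hg.1))).elim
  have AL : zpowers a ⊔ zpowers d ≤ L := sup_le (zpowers_le_of_mem (hKL aK)) (zpowers_le_of_mem dL)
  have Ap : IsPGroup 3 (zpowers a ⊔ zpowers d : Subgroup G) := IsPGroup.of_card (n := 2) A9
  have AK : K ⊓ (zpowers a ⊔ zpowers d) = zpowers a := le_antisymm
    (fun g hg => c3 g hg.1 (Aab g hg.2 a (mem_sup_left (mem_zpowers a))) (A3 g hg.2))
    (le_inf (zpowers_le_of_mem aK) le_sup_left)
  have hn : ¬ zpowers a ⊔ zpowers d ≤ K := fun h =>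
    d1 (AK ▸ ⟨h (mem_sup_right (mem_zpowers d)), mem_sup_right (mem_zpowers d)⟩)
  obtain ⟨O, hOK, hON, hO3, hOm⟩ := exists_core 3 K
  rcases sc3_mod (zpowers_le_of_mem tK) zc z2 aK a3 a1 (fun g hg e => by
      have k : ∀ x, x ∈ zpowers a → x = 1 ∨ x * a⁻¹ = 1 ∨ x * a = 1 := fun x hx => by
        rcases (mem_zpowers_three a3).mp hx with h | h | h <;> simp [h]
      have k2 : ∀ x, g * t * x = 1 → x ∈ L → g * x ∈ zpowers t := fun x hx hL => by
        rw [mul_assoc, ← (tc x hL).eq, ← mul_assoc, mul_eq_one_iff_eq_inv] at hx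
        exact hx ▸ inv_mem (mem_zpowers t)
      rcases hc g hg e with h | h
      · rcases k g h with h | h | h <;> simp [h]
      · rcases k _ h with h | h | h
        · exact Or.inl (by simpa using k2 1 (by simpa using h) (one_mem _))
        · exact Or.inr (Or.inl (k2 _ h (inv_mem (hKL aK))))
        · exact Or.inr (Or.inr (k2 _ h (hKL aK)))) with
    ⟨Q, R, -, q2, q3, q4, r1, r2, r3, -, e⟩ | ⟨Q, -, QK, -, q4, -, -, π, hπ, hπk⟩ | ⟨π, hπ, hπk⟩
  · refine ⟨O, hOK.trans hKL, hLK.trans hON, hO3, fun g hg => ?_⟩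
    obtain ⟨j, hj⟩ := q4.exists_card_eq
    have QO := hOm Q q2 q3 (by rw [hj]; exact Nat.Coprime.pow_left _ (by norm_num))
    have RO := hOm R r1 r2 (r3.coprime_dvd_right (by norm_num))
    have c1 : Nat.card Q * Nat.card R ∣ Nat.card O :=
      Nat.Coprime.mul_dvd_of_dvd_of_dvd (by
        rw [hj]; exact Nat.Coprime.pow_left _ (r3.coprime_dvd_right (by norm_num)).symm)
        (card_dvd_of_le QO) (card_dvd_of_le RO)
    have c2 := Nat.le_of_dvd Nat.card_pos c1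
    have na : zpowers a ≤ normalizer (O : Set G) :=
      (zpowers_le_of_mem aK).trans (le_normalizer.trans hON)
    have cM : Nat.card (O ⊔ zpowers a : Subgroup G) = Nat.card O * 3 := by
      rw [H7.card_sup_of_inf_eq_bot na (eq_bot_iff.mpr fun g hg =>
        eq_one_of_mem_pgroup_of_coprime (IsPGroup.of_card (n := 1) ca) hg.2
          (coprime_orderOf_of_mem hO3 hg.1)), ca]
    have MK : O ⊔ zpowers a ≤ K := sup_le hOK (zpowers_le_of_mem aK)
    have hI : Idx2 (O ⊔ zpowers a) K := ⟨MK, fun _ ha _ hb =>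
      L0.SC3.mul_mem_iff_of_card MK (by rw [cM]; omega) ha hb⟩
    have gM : g ∈ normalizer ((O ⊔ zpowers a : Subgroup G) : Set G) :=
      H9.mem_normalizer_of_conj_mem fun x hx => by
        obtain ⟨o, ho, y, hy, rfl⟩ := (H7.mem_sup_of_norm na).mp hx
        rw [show g * (o * y) * g⁻¹ = g * o * g⁻¹ * (g * y * g⁻¹) by group]
        exact mul_mem (mem_sup_left (conj_mem_of_mem_normalizer (hON (hLK hg)) ho))
          (hI.cube (conj_mem_of_mem_normalizer (hLK hg) (zpowers_le_of_mem aK hy))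
            (conj_cube (cube_of_zp a3 hy)))
    have hS : IsSylowIn 3 (zpowers a) (O ⊔ zpowers a) := isSylowIn_zpowers
      (mem_sup_right (mem_zpowers a)) (orderOf_three a3 a1) (by
        rw [cM, pow_two]
        exact fun h => (Nat.Prime.coprime_iff_not_dvd Nat.prime_three).mp hO3.symm
          (Nat.dvd_of_mul_dvd_mul_right (by norm_num) h))
    obtain ⟨l, hl, h1⟩ := hS.frattini gM
    rw [sup_comm] at hl
    obtain ⟨y, hy, o, ho, rfl⟩ := (H7.mem_sup_of_norm' na).mp hl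
    refine ⟨o, ho, (mem_normalizer_zpowers_three a3 a1).mp ?_⟩
    simpa [mul_assoc] using mul_mem (inv_mem (le_normalizer hy)) h1
  · exfalso
    have : Fact (Nat.Prime 5) := ⟨by norm_num⟩
    have hL := card_of_surj π hπ QK hπk
    obtain ⟨k, hk⟩ := q4.exists_card_eq
    rw [card_alt5, hk] at hL
    obtain ⟨P, hP⟩ := exists_isSylowIn 5 K
    have hP5 := card_sylow_eq hP (by norm_num) (m := 12) hL (by norm_num)
    have syl : IsSylowIn 3 (zpowers a ⊔ zpowers d) (K ⊔ (zpowers a ⊔ zpowers d)) :=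
      isSylowIn_of_card (k := 2) le_sup_right A9 fun hd => by
        have h1 := H7.card_sup_mul_card_inf (AL.trans hLK)
        rw [AK, ca, A9, hL] at h1
        have h3 := Nat.mul_dvd_mul_right hd 3
        rw [h1] at h3
        have := ar_sc2 k 20 3 Nat.prime_three (by norm_num) (Nat.dvd_of_mul_dvd_mul_left
          (by norm_num : 0 < 27) (by rw [show 27 * (2 ^ k * 20) = 2 ^ k * 60 * 9 by ring]; exact h3))
        omega
    obtain ⟨m, hm, ⟨b, hb, hbL, e⟩, -⟩ := exists_frattini hP syl (AL.trans hLK) hn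
    obtain ⟨f, hf, ho⟩ := exists_mem_orderOf_eq_prime (by rw [hP5] : 5 ∣ Nat.card P)
    have h1 : P.normalizerMonoidHom ⟨_, e⟩ = 1 := by
      have := isCyclic_of_prime_card hP5
      refine H3.pow_eq_one_of_coprime (m := 3) (n := 4) (by norm_num) ?_ ?_
      · rw [← map_pow, ← map_one P.normalizerMonoidHom]
        refine congrArg _ (Subtype.ext ?_)
        simpa using conj_cube (g := m⁻¹) (A3 b hb)
      · have h4 := IsCyclic.card_mulAut P
        rw [hP5] at h4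
        rw [show 4 = Nat.card (MulAut P) from h4.symm]
        exact pow_card_eq_one'
    have h2 : m⁻¹ * b * m * f * (m⁻¹ * b * m)⁻¹ = f :=
      congrArg Subtype.val (MulEquiv.congr_fun h1 ⟨f, hf⟩)
    have h3 := conj_comm (g := m) (conj_eq_iff.mp h2)
    have h4 := h57 b hb (fun h => hbL (h ▸ one_mem _)) (m * f * m⁻¹)
      (hKL (conj_mem_of_mem_normalizer hm (hP.le hf)))
      (by simpa [mul_assoc, Commute, SemiconjBy] using h3.symm)
      (Or.inl (by rw [← ho, ← orderOf_conj_eq m f, pow_orderOf_eq_one]))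
    rw [← orderOf_conj_eq m f, h4] at ho
    simp at ho
  · exfalso
    have : Fact (Nat.Prime 7) := ⟨by norm_num⟩
    have hL := card_of_surj π hπ (zpowers_le_of_mem tK) hπk
    obtain ⟨k, hk⟩ := z2.exists_card_eq
    rw [card_psl27] at hL
    obtain ⟨S, hS⟩ := syl_fixed Ap (AL.trans hLK) 7 (fun h3 => by
      obtain ⟨S⟩ : Nonempty (Sylow 7 K) := inferInstance
      have h1 := card_sylow_modEq_one 7 K
      have h2 : Nat.card (Sylow 7 K) ∣ 336 := (S.card_dvd_index.trans S.1.index_dvd_card).trans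
        (hL ▸ Nat.mul_dvd_mul_right zcard 168)
      have h4 := Nat.le_of_dvd (by norm_num) h2
      unfold Nat.ModEq at h1
      obtain ⟨c, hc⟩ := h3
      rw [hc] at h1 h2 h4
      have h5 : c ≤ 112 := by omega
      interval_cases c <;> omega)
    have hP := isSylowIn_map_subtype S
    have hP7 := card_sylow_eq hP (by norm_num) (m := 24) (hL.trans (by rw [hk])) (by norm_num)
    have := le_of_cent1 (X := ⊥) Ap Aab (not_isCyclic_of_exp (p := 3) (by norm_num) A9 A3) hS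
      (by rw [hP7]; norm_num) fun x hx x1 g hg e => h57 x hx x1 g (hKL (hP.le hg)) e (Or.inr (by
        rw [← hP7]
        exact congrArg Subtype.val (pow_card_eq_one' (x := (⟨g, hg⟩ : (S.1.map K.subtype))))))
    rw [le_bot_iff.mp this] at hP7
    simp at hP7

theorem gen [Finite G] {L P : Subgroup G} (hP : IsSylowIn 3 P L)
    (hab : ∀ x ∈ P, ∀ y ∈ P, Commute x y) {t a u d : G} (tL : t ∈ L) (t2 : t * t = 1)
    (tc : ∀ g ∈ L, Commute g t) (aP : a ∈ P) (a3 : a ^ 3 = 1) (a1 : a ≠ 1) (hu : u ∈ L)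
    (u2 : u * u = 1) (ua : cj u a = a⁻¹) {ι : Type} [Fintype ι] (lam : ι → G → ZMod 3)
    (hl : ∀ k, ∀ x ∈ P, ∀ y ∈ P, lam k (x * y) = lam k x + lam k y)
    (fus : ∀ k, ∀ x ∈ P, ∀ g ∈ L, cj g x ∈ P → (lam k (cj g x) = 0 ↔ lam k x = 0))
    (ninv : ∀ k, ∀ g ∈ L, ∀ y ∈ P, cj (cj g u) y = y⁻¹ → lam k y = 0)
    (hker : ∀ x ∈ P, (∀ k, lam k x = 0) → x ∈ zpowers a)
    (hC : ∀ g ∈ L, Commute g a → (∀ y ∈ P, cj g y ∈ P) ∧
      ((∀ y ∈ P, cj g y * y⁻¹ ∈ zpowers a) → g ∈ P ∨ g * t ∈ P)) (dP : d ∈ P) (d3 : d ^ 3 = 1)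
    (d1 : d ∉ zpowers a) (h57 : ∀ x ∈ closure ({a, d} : Set G), x ≠ 1 → ∀ g ∈ L, Commute g x →
      (g ^ 5 = 1 ∨ g ^ 7 = 1) → g = 1) :
    ∃ O ≤ L, L ≤ normalizer (O : Set G) ∧ (Nat.card O).Coprime 3 ∧
      ∀ g ∈ L, ∃ o ∈ O, cj (o * g) a = a ∨ cj (o * g) a = a⁻¹ := by
  choose K hKL hLK uK hK using fun k => bs3 hP (lam k) (hl k) (fus k) hu u2 (ninv k)
  let K0 : Subgroup G := L ⊓ ⨅ k, K k
  have n0 : L ≤ normalizer (K0 : Set G) := fun g hg => H9.mem_normalizer_of_conj_mem fun x hx =>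
    ⟨L.mul_mem (L.mul_mem hg hx.1) (L.inv_mem hg), mem_iInf.mpr fun k =>
      conj_mem_of_mem_normalizer (hLK k hg) (mem_iInf.mp hx.2 k)⟩
  have nt : zpowers t ≤ normalizer (K0 : Set G) := (zpowers_le_of_mem tL).trans n0
  have zc : ∀ g ∈ L, ∀ ζ ∈ zpowers t, g * ζ = ζ * g := fun g hg ζ hζ => by
    obtain ⟨k, rfl⟩ := mem_zpowers_iff.mp hζ
    exact ((tc g hg).zpow_right k).eq
  have KL : K0 ⊔ zpowers t ≤ L := sup_le inf_le_left (zpowers_le_of_mem tL)
  have LK : L ≤ normalizer ((K0 ⊔ zpowers t : Subgroup G) : Set G) := fun g hg =>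
    mem_norm_sup (n0 hg) (le_normalizer_of_cent zc hg)
  have KP : ∀ x ∈ P, x ∈ K0 ⊔ zpowers t → x ∈ zpowers a := fun x hx hxK => hker x hx fun k => by
    obtain ⟨y, hy, ζ, hζ, rfl⟩ := (H7.mem_sup_of_norm nt).mp hxK
    have e1 : y * ζ * (y * ζ) = y * y := by
      rcases (mem_zpowers_two t2).mp hζ with rfl | rfl
      · simp
      · rw [mul_assoc, ← mul_assoc ζ, ← (tc y hy.1).eq, mul_assoc, t2, mul_one]
    have e2 := hK k _ (mul_mem hx hx) (e1 ▸ mem_iInf.mp (mul_mem hy hy).2 k)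
    rw [hl k _ hx _ hx] at e2
    revert e2
    generalize lam k (y * ζ) = c
    revert c
    decide
  have uK' : u ∈ K0 ⊔ zpowers t := mem_sup_left ⟨hu, mem_iInf.mpr uK⟩
  have aK : a ∈ K0 ⊔ zpowers t := by
    have h1 := mul_mem (conj_mem_of_mem_normalizer (LK (hP.le aP)) uK') (inv_mem uK')
    have h2 : a * u * a⁻¹ * u⁻¹ = a * a := by
      rw [mul_assoc, mul_assoc, ← mul_assoc u, show u * a⁻¹ * u⁻¹ = cj u a⁻¹ from rfl, cj_inv, ua,
        inv_inv]
    rw [h2, ← cube_inv a3] at h1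
    exact inv_mem_iff.mp h1
  have tK : t ∈ K0 ⊔ zpowers t := mem_sup_right (mem_zpowers t)
  refine gen_core KL LK tK t2 tc aK a3 a1 (fun g hg e => ?_) (hP.le dP) d3 d1 (hab a aP d dP) h57
  obtain ⟨h1, h2⟩ := hC g (KL hg) e
  refine (h2 fun y hy => KP _ (mul_mem (h1 y hy) (inv_mem hy)) ?_).imp (fun h => KP g h hg)
    fun h => KP _ h (mul_mem hg tK)
  have := mul_mem hg (conj_mem_of_mem_normalizer (LK (hP.le hy)) (inv_mem hg))
  simpa [cj, mul_assoc] using this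

end Cfsg.Agent.H2.O8
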