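import Cfsg.Agent.H2.P3DegDat
import Cfsg.Agent.L0.L43Ctl
import Cfsg.Agent.H8.FT
import Cfsg.Agent.H6.Basic

/-!
# The degenerate case of the recognition of `PSp₄(3)`, `W(E₆)` and `Sp₆(2)`
-/

set_option autoImplicit false
set_option linter.unusedSectionVars false

namespace Cfsg.Agent.H2.P3

open Subgroup Cfsg.Agent.H9 Cfsg.Agent.H1.T3 Cfsg.Agent.H8.P3 Cfsg.Agent.H8.P3.Mx
open Cfsg.Agent.L0.L43
open Cfsg.Agent.H1.S9 (Emb im mem_im im_mono im_congr)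
open scoped Pointwise

attribute [local irreducible] mz mc my ms mu mw mp mx Mx.mt me1 me2 me3 mb mr1 mr2 mr3

variable {G : Type*} [Group G] [Finite G]

theorem idx3 {N : Subgroup G} (hN : N ≠ ⊤) (hc : ∀ g x, g * x * g⁻¹ * x⁻¹ ∈ N)
    (h3 : ∀ g, ∃ k, g ^ 3 ^ k ∈ N) : ∃ M : Subgroup G, M.Normal ∧ M.index = 3 := by
  have : Fact (Nat.Prime 3) := ⟨Nat.prime_three⟩
  have hn : ∀ M : Subgroup G, N ≤ M → M.Normal := fun M hM => ⟨fun x hx g => by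
    simpa using mul_mem (hM (hc g x)) hx⟩
  have := hn N le_rfl
  have hQ : IsPGroup 3 (G ⧸ N) := fun q => by
    obtain ⟨g, rfl⟩ := QuotientGroup.mk_surjective q
    obtain ⟨k, hk⟩ := h3 g
    exact ⟨k, by rw [← QuotientGroup.mk_pow, QuotientGroup.eq_one_iff]; exact hk⟩
  obtain ⟨n, hn'⟩ := hQ.exists_card_eq
  obtain _ | n := n
  · exact absurd (index_eq_one.mp hn') hN
  obtain ⟨K, hK⟩ := Sylow.exists_subgroup_card_pow_prime (G := G ⧸ N) 3 (n := n)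
    (by rw [hn']; exact pow_dvd_pow 3 n.le_succ)
  refine ⟨K.comap (QuotientGroup.mk' N), hn _ (fun x hx => ?_), ?_⟩
  · rw [mem_comap, QuotientGroup.mk'_apply, (QuotientGroup.eq_one_iff x).mpr hx]
    exact one_mem _
  · rw [index_comap_of_surjective _ (QuotientGroup.mk'_surjective N)]
    have h1 := K.card_mul_index
    rw [hK, hn', pow_succ] at h1
    exact Nat.eq_of_mul_eq_mul_left (by positivity) h1

theorem mem_of_sq3 {g : G} {K : Subgroup G} (h : ∃ k, g ^ 3 ^ k = 1) (h2 : g * g ∈ K) : g ∈ K :=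
  mem_of_odd (Odd.of_dvd_nat (Odd.pow (by decide)) (orderOf_dvd_of_pow_eq_one h.choose_spec)) h2

theorem RC : R ≤ C := RS.trans SC'

theorem C_norm_R : C ≤ normalizer (R : Set Mx) :=
  cl_le fun g hg => H9.mem_normalizer_of_conj_mem fun x hx => d_R.1 g hg x hx

theorem m_foc {n x : Mx} (hn : n ∈ C) (hx : x ∈ S) (h : n * x * n⁻¹ ∈ S) :
    n * x * n⁻¹ * x⁻¹ ∈ R := by
  have key : ∀ x ∈ S, n * x * n⁻¹ ∈ S → x * mu⁻¹ ∈ R → n * x * n⁻¹ * x⁻¹ ∈ R := fun x hx h h1 => by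
    have h2 := conj_mem_of_mem_normalizer (C_norm_R hn) h1
    have h3 := d_u n hn (by
      have := mul_mem (inv_mem (RS h2)) h
      rwa [show (n * (x * mu⁻¹) * n⁻¹)⁻¹ * (n * x * n⁻¹) = n * mu * n⁻¹ by group] at this)
    have := mul_mem (mul_mem h2 h3) (inv_mem h1)
    rwa [show n * (x * mu⁻¹) * n⁻¹ * (n * mu * n⁻¹ * mu⁻¹) * (x * mu⁻¹)⁻¹ = n * x * n⁻¹ * x⁻¹ by
      group] at this
  rcases d_R.2.2.1 x hx with h1 | h1 | h1
  · exact mul_mem (conj_mem_of_mem_normalizer (C_norm_R hn) h1) (inv_mem h1)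
  · exact key x hx h h1
  · have h2 := key x⁻¹ (inv_mem hx) (by simpa [mul_assoc] using inv_mem h) h1
    have := conj_mem_of_mem_normalizer (C_norm_R (SC' hx)) (inv_mem h2)
    rwa [show x * (n * x⁻¹ * n⁻¹ * x⁻¹⁻¹)⁻¹ * x⁻¹ = n * x * n⁻¹ * x⁻¹ by group] at this

/-- The degenerate configuration. -/
structure Dg (φ : Mx → G) : Prop where
  l : Loc0 φ
  d : normalizer (im φ J : Set G) ≤ normalizer (zpowers (φ mz) : Set G)

namespace Dg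

variable {φ : Mx → G} (h : Dg φ)
include h

theorem memH {g : G} : g ∈ normalizer (zpowers (φ mz) : Set G) ↔
    g * φ mz * g⁻¹ = φ mz ∨ g * φ mz * g⁻¹ = (φ mz)⁻¹ :=
  mem_normalizer_zpowers_three h.l.z3 h.l.z1

theorem CH : im φ C ≤ normalizer (zpowers (φ mz) : Set G) := fun _ hg =>
  h.memH.mpr (Or.inl (conj_eq_iff.mpr (mem_cent.mp (h.l.cent.ge hg))))

theorem sylH : IsSylowIn 3 (im φ S) (normalizer (zpowers (φ mz) : Set G)) :=
  h.l.sylS.of_le ((im_mono φ SC').trans h.CH) le_top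

theorem toJ {x : G} (hx : x ∈ normalizer (zpowers (φ mz) : Set G)) (h3 : x ^ 3 = 1) :
    ∃ k ∈ normalizer (zpowers (φ mz) : Set G), k * x * k⁻¹ ∈ im φ J := by
  have : Fact (Nat.Prime 3) := ⟨Nat.prime_three⟩
  obtain ⟨l, hl, e⟩ := conj_into h.sylH hx (k := 1) h3
  obtain ⟨a, ha, e1⟩ := (h.l.e.mono SC').ex e
  obtain ⟨k, hk, e2⟩ := d_R.2.2.2 a ha ((h.l.e.pow_eq_one (SC' ha)).mp (by
    rw [e1, conj_pow, h3]; group))
  have hkC : k ∈ C := by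
    simp only [List.mem_cons, List.not_mem_nil, or_false] at hk
    rcases hk with rfl | rfl | rfl | rfl
    exacts [one_mem _, sC, mul_mem sC (JC uJ), mul_mem (mul_mem sC (JC uJ)) (JC uJ)]
  refine ⟨φ k * l, mul_mem (h.CH (mem_im φ hkC)) hl, ?_⟩
  have := mem_im φ e2
  rw [h.l.e.conj hkC (SC' ha), e1] at this
  simpa [mul_assoc] using this

theorem ctl_of {x : G} (hx : x ∈ im φ J)
    (hc : centralizer {x} ≤ normalizer (zpowers (φ mz) : Set G)) :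
    Ctl (normalizer (zpowers (φ mz) : Set G)) x := by
  refine ⟨h.CH (im_mono φ JC hx), h.l.expJ x hx, fun g hg => ?_⟩
  obtain ⟨k, hk, e⟩ := h.toJ hg (by rw [conj_pow, h.l.expJ x hx]; group)
  obtain ⟨n, hn, e1⟩ := h.l.fuse (s := {x}) (g := k * g) (by simpa using hx)
    (by simpa [mul_assoc] using e)
  have e2 := e1 x rfl
  have h1 : n⁻¹ * (k * g) ∈ centralizer {x} := mem_cent.mpr (by
    calc _ = n⁻¹ * (k * g * x * (k * g)⁻¹) * (k * g) := by group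
      _ = _ := by rw [← e2]; group)
  simpa using mul_mem (inv_mem hk) (mul_mem (h.d hn) (hc h1))

theorem ctlZ : Ctl (normalizer (zpowers (φ mz) : Set G)) (φ mz) :=
  h.ctl_of (mem_im φ zJ) (h.l.cent.le.trans h.CH)

theorem nonreal (hr : ∀ g, g * φ mz * g⁻¹ ≠ (φ mz)⁻¹) :
    ∃ M : Subgroup G, M.Normal ∧ M.index = 3 := by
  have hz : ∀ x ∈ im φ S, x * φ mz = φ mz * x := fun x hx =>
    mem_cent.mp (h.l.cent.ge (im_mono φ SC' hx))
  obtain ⟨M, -, -, h1, h2, h3, -⟩ := transfer3 (T0 := im φ R) h.l.sylS fun x hx g _ hg => by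
    obtain ⟨n, -, hn, e, -⟩ := h.ctlZ.fuse (L := ⊤) (g := g) (x := x) trivial trivial (hz x hx)
      (hz _ hg)
    obtain ⟨a, ha, rfl⟩ := h.l.e.ex (h.l.cz n (conj_eq_iff.mp ((h.memH.mp hn).resolve_right (hr n))))
    obtain ⟨b, hb, rfl⟩ := (h.l.e.mono SC').ex hx
    rw [← e, ← h.l.e.conj ha (SC' hb)] at hg ⊢
    have h4 : a * b * a⁻¹ ∈ C := mul_mem (mul_mem ha (SC' hb)) (inv_mem ha)
    rw [← h.l.e.inv (SC' hb), ← h.l.e.mul h4 (inv_mem (SC' hb))]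
    exact mem_im φ (m_foc ha hb ((h.l.e.mem SC' h4).mp hg))
  refine idx3 (N := M) (fun e => d_R.2.1 ?_) (fun g x => h3 g trivial x trivial) fun g => ?_
  · exact (h.l.e.mem RC (JC uJ)).mp (h1 _ (mem_im φ (JS uJ)) (e ▸ mem_top _))
  · obtain ⟨x, hx, e⟩ := h2 g trivial
    obtain ⟨k, hk⟩ := pel_of_mem h.l.sylS.isPGroup hx
    have : M.Normal := ⟨fun y hy g => by simpa using mul_mem (h3 g trivial y trivial) hy⟩
    refine ⟨k, (QuotientGroup.eq_one_iff _).mp ?_⟩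
    rw [QuotientGroup.mk_pow, ← QuotientGroup.eq.mpr e, ← QuotientGroup.mk_pow, hk,
      QuotientGroup.mk_one]

variable (e : Emb C2 φ)
include e

theorem exH {g : G} (hg : g ∈ normalizer (zpowers (φ mz) : Set G)) : ∃ a ∈ C2, φ a = g := by
  rcases h.memH.mp hg with h1 | h1
  · exact e.ex (im_mono φ C12 (h.l.cz g (conj_eq_iff.mp h1)))
  have h2 : φ mp * φ mz * (φ mp)⁻¹ = (φ mz)⁻¹ := by
    rw [← e.conj pC (C12 (JC zJ)), d_J.2.2.2.2.2.2.2.2.2.2, e.inv (C12 (JC zJ))]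
  have h3 := im_mono φ C12 (h.l.cz (g * φ mp) (conj_eq_iff.mp (by
    calc _ = g * (φ mp * φ mz * (φ mp)⁻¹) * g⁻¹ := by group
      _ = _ := by rw [h2, ← conj_inv, h1, inv_inv])))
  exact e.ex (by simpa using mul_mem h3 (inv_mem (mem_im φ pC)))

theorem C2H : im φ C2 ≤ normalizer (zpowers (φ mz) : Set G) := fun g hg => by
  obtain ⟨a, ha, rfl⟩ := e.ex hg
  refine h.memH.mpr ((m_C2 a ha).2.imp (fun h1 => e.cj ha (C12 (JC zJ)) h1) fun h1 => ?_)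
  rw [e.cj ha (C12 (JC zJ)) h1, e.inv (C12 (JC zJ))]

omit h in
theorem cjm {A : Subgroup Mx} (hA : A ≤ C2) {a b : Mx} (ha : a ∈ C2) (hb : b ∈ C2) :
    φ a * φ b * (φ a)⁻¹ ∈ im φ A ↔ a * b * a⁻¹ ∈ A := by
  rw [← e.conj ha hb, e.mem hA (mul_mem (mul_mem ha hb) (inv_mem ha))]

theorem exN {g : G} (hg : g ∈ normalizer (im φ J : Set G)) : ∃ a ∈ N, φ a = g := by
  obtain ⟨a, ha, rfl⟩ := h.exH e (h.d hg)
  have hJ2 : J ≤ C2 := JC.trans C12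
  exact ⟨a, (d_C2 a ha).1
    ((cjm e hJ2 ha (hJ2 cJ)).mp (conj_mem_of_mem_normalizer hg (mem_im φ cJ)))
    ((cjm e hJ2 ha (hJ2 uJ)).mp (conj_mem_of_mem_normalizer hg (mem_im φ uJ))), rfl⟩

theorem JL {x : Mx} (hx : x ∈ J) : im φ J ≤ centralizer {φ x} := fun g hg =>
  mem_cent.mpr (h.l.abJ g hg _ (mem_im φ hx))

theorem sylJ {x : Mx} (hx : x ∈ J) (h1 : ∀ a ∈ N, a * x = x * a → a * a ∈ J) :
    IsSylowIn 3 (im φ J) (centralizer {φ x}) := by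
  have : Fact (Nat.Prime 3) := ⟨Nat.prime_three⟩
  refine syl_of_self (h.JL e hx) h.l.pJ fun g hg hk hn => ?_
  obtain ⟨a, ha, rfl⟩ := h.exN e (H9.mem_normalizer_of_conj_mem hn)
  refine mem_of_sq3 hk ?_
  rw [← e.mul (NC ha) (NC ha)]
  exact mem_im φ (h1 a ha ((e.comm (NC ha) (C12 (JC hx))).mp (mem_cent.mp hg)))

theorem fuseJ {v : Mx} (hv : v ∈ J) {x g : G} (hx : x ∈ im φ J) (hg : g ∈ centralizer {φ v})
    (h1 : g * x * g⁻¹ ∈ im φ J) : ∃ a ∈ N, ∃ j ∈ J, a * v = v * a ∧ φ j = x ∧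
      φ (a * j * a⁻¹) = g * x * g⁻¹ := by
  have h2 := conj_eq_iff.mpr (mem_cent.mp hg)
  obtain ⟨n, hn, e1⟩ := h.l.fuse (s := {x, φ v}) (g := g)
    (by rintro _ (rfl | rfl); exacts [hx, mem_im φ hv])
    (by rintro _ (rfl | rfl); exacts [h1, h2.symm ▸ mem_im φ hv])
  obtain ⟨a, ha, rfl⟩ := h.exN e hn
  obtain ⟨j, hj, rfl⟩ := h.l.eJ.ex hx
  refine ⟨a, ha, j, hj, (e.comm (NC ha) (C12 (JC hv))).mp (conj_eq_iff.mp ?_), rfl, ?_⟩
  · rw [e1 _ (Or.inr rfl), h2]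
  · rw [e.conj (NC ha) (C12 (JC hj)), e1 _ (Or.inl rfl)]

omit h in
theorem zpc {a : Mx} (ha : a ∈ [1, mc, mc⁻¹]) : φ a ∈ zpowers (φ mc) := by
  simp only [List.mem_cons, List.not_mem_nil, or_false] at ha
  rcases ha with rfl | rfl | rfl
  · rw [e.one]; exact one_mem _
  · exact mem_zpowers _
  · rw [e.inv (C12 (JC cJ))]; exact inv_mem (mem_zpowers _)

theorem centC : centralizer {φ mc} ≤ normalizer (im φ J : Set G) := by
  have : Fact (Nat.Prime 3) := ⟨Nat.prime_three⟩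
  have hJ2 : J ≤ C2 := JC.trans C12
  have htp : mT * mp ∈ C2 := NC (mul_mem tN pN')
  refine st_mod (p := 3) (by norm_num) (Z := zpowers (φ mc))
    (h.sylJ e cJ fun a ha h1 => ((d_N a ha).2.1 h1).1) (zpowers_le_of_mem (mem_im φ cJ))
    ?_ h.l.abJ h.l.expJ ?_ (fun x hx g hg h1 => ?_) ⟨φ (mT * mp), ?_, fun x hx => ?_⟩
    fun O _ h1 h2 => h.l.sig O h2 ((h.JL e cJ).trans h1)
  · rintro g hg _ ⟨n, rfl⟩
    exact (Commute.zpow_right (mem_cent.mp hg) n).eq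
  · rw [h.l.cardJ, Nat.card_zpowers,
      orderOf_three (h.l.expJ _ (mem_im φ cJ)) (e.ne (hJ2 cJ) d_J.2.2.2.2.1)]
    rfl
  · obtain ⟨a, ha, j, hj, h2, rfl, h3⟩ := h.fuseJ e cJ hx hg h1
    have h4 : a * j * a⁻¹ ∈ C2 := mul_mem (mul_mem (NC ha) (hJ2 hj)) (inv_mem (NC ha))
    rw [← h3, ← e.inv (hJ2 hj), ← e.mul h4 (inv_mem (hJ2 hj)), ← e.mul h4 (hJ2 hj)]
    exact (((d_N a ha).2.1 h2).2 j hj).imp (zpc e) (zpc e)
  · exact mem_cent.mpr ((e.comm htp (hJ2 cJ)).mpr d_J.2.1)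
  · obtain ⟨j, hj, rfl⟩ := h.l.eJ.ex hx
    rw [← e.conj htp (hJ2 hj), ← e.mul (mul_mem (mul_mem htp (hJ2 hj)) (inv_mem htp)) (hJ2 hj)]
    exact zpc e (d_J.1 j hj).1

theorem centV {v : Mx} (hv : v ∈ [mu, mu * mz, mu * mz⁻¹]) :
    centralizer {φ v} ≤ normalizer (zpowers (φ mz) : Set G) := by
  have hJ2 : J ≤ C2 := JC.trans C12
  have hvJ : v ∈ J := by
    simp only [List.mem_cons, List.not_mem_nil, or_false] at hv
    rcases hv with rfl | rfl | rfl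
    exacts [uJ, mul_mem uJ zJ, mul_mem uJ (inv_mem zJ)]
  intro g hg
  have h1 := sig3 (h.sylJ e hvJ fun a ha h1 => ((d_N a ha).2.2 v hv h1).1) (mem_im φ cJ)
    (h.l.expJ _ (mem_im φ cJ)) (e.ne (hJ2 cJ) d_J.2.2.2.2.1) (fun x hx g hg h1 => by
      obtain ⟨a, ha, j, hj, h2, rfl, h3⟩ := h.fuseJ e hvJ hx hg h1
      have h4 : a * j * a⁻¹ ∈ C2 := mul_mem (mul_mem (NC ha) (hJ2 hj)) (inv_mem (NC ha))
      rw [← h3, ← e.inv (hJ2 hj), ← e.mul h4 (inv_mem (hJ2 hj))]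
      exact zpc e (((d_N a ha).2.2 v hv h2).2.2 j hj)) (fun g hg h1 => by
      obtain ⟨a, ha, rfl⟩ := h.exN e (h.centC e (mem_cent.mpr h1))
      exact mem_im φ (((d_N a ha).2.2 v hv ((e.comm (NC ha) (hJ2 hvJ)).mp (mem_cent.mp hg))).2.1
        ((e.comm (NC ha) (hJ2 cJ)).mp h1))) h.l.sig g hg
  rcases h1 with h1 | h1
  · exact h.d (h.centC e (mem_cent.mpr (conj_eq_iff.mp h1)))
  have h2 : φ mp * φ mc * (φ mp)⁻¹ = (φ mc)⁻¹ := by
    rw [← e.conj pC (hJ2 cJ), (d_J.1 mc cJ).2.1, e.inv (hJ2 cJ)]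
  have h3 := h.d (h.centC e (mem_cent.mpr (conj_eq_iff.mp (show
    g * φ mp * φ mc * (g * φ mp)⁻¹ = φ mc by
    calc _ = g * (φ mp * φ mc * (φ mp)⁻¹) * g⁻¹ := by group
      _ = _ := by rw [h2, ← conj_inv, h1, inv_inv]))))
  simpa using mul_mem h3 (inv_mem (h.C2H e (mem_im φ pC)))

theorem ctlJ {x : G} (hx : x ∈ im φ J) (h1 : x ≠ 1) :
    Ctl (normalizer (zpowers (φ mz) : Set G)) x := by
  refine h.ctl_of hx fun g hg => ?_
  obtain ⟨j, hj, rfl⟩ := h.l.eJ.ex hx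
  obtain ⟨k, hk, b, hb, h2⟩ := (d_J.1 j hj).2.2.resolve_left fun e1 => h1 (e1 ▸ e.one)
  have hkN : k ∈ N := by
    simp only [List.mem_cons, List.not_mem_nil, or_false] at hk
    rcases hk with rfl | rfl | rfl | rfl | rfl | rfl
    exacts [one_mem _, yN, mul_mem yN yN, pN', mul_mem pN' yN, mul_mem (mul_mem pN' yN) yN]
  refine e.cent_tr (h.C2H e) (NC hkN) (C12 (JC hj)) h2 (fun g hg => ?_) g (mem_cent.mp hg)
  rcases List.mem_cons.mp hb with rfl | hb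
  · exact h.ctlZ.cent (mem_cent.mpr hg)
  rcases List.mem_cons.mp hb with rfl | hb
  · exact h.d (h.centC e (mem_cent.mpr hg))
  · exact h.centV e hb (mem_cent.mpr hg)

theorem exT {g : G} (hg : g ∈ centralizer {φ mT})
    (h1 : g ∈ normalizer (zpowers (φ mz) : Set G)) : ∃ a ∈ C2, a * mT = mT * a ∧ φ a = g := by
  obtain ⟨a, ha, rfl⟩ := h.exH e h1
  exact ⟨a, ha, (e.comm ha (NC tN)).mp (mem_cent.mp hg), rfl⟩

theorem sylE : IsSylowIn 3 (im φ E) (centralizer {φ mT}) := by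
  have : Fact (Nat.Prime 3) := ⟨Nat.prime_three⟩
  have hE2 : E ≤ C2 := EJ.trans (JC.trans C12)
  refine syl_of_self (fun g hg => ?_) (h.l.pJ.to_le (im_mono φ EJ)) fun g hg hk hn => ?_
  · obtain ⟨a, ha, rfl⟩ := (e.mono hE2).ex hg
    exact mem_cent.mpr ((e.comm (hE2 ha) (NC tN)).mpr (d_J.2.2.2.1 a ha))
  obtain ⟨a, ha, h1, rfl⟩ := h.exT e hg
    (h.ctlZ.norm ((im_mono φ hE2).trans (h.C2H e)) (mem_im φ zE) hn)
  refine mem_of_sq3 hk ?_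
  rw [← e.mul ha ha]
  exact mem_im φ (((d_C2 a ha).2 h1).1 ((cjm e hE2 ha (hE2 uE)).mp (hn _ (mem_im φ uE))))

theorem centT : centralizer {φ mT} ≤ normalizer (zpowers (φ mz) : Set G) := by
  have hJ2 : J ≤ C2 := JC.trans C12
  have hE2 : E ≤ C2 := EJ.trans hJ2
  have hEJ := im_mono φ EJ
  obtain ⟨-, -, d1, -, -, d2, d3, d4, d5, d6, -⟩ := d_J
  have n1 : φ mu * (φ mz)⁻¹ ≠ 1 := by
    rw [← e.inv (hJ2 zJ), ← e.mul (hJ2 uJ) (inv_mem (hJ2 zJ))]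
    exact e.ne (hJ2 (mul_mem uJ (inv_mem zJ))) d3
  have n2 : φ mu * φ mz ≠ 1 := by
    rw [← e.mul (hJ2 uJ) (hJ2 zJ)]
    exact e.ne (hJ2 (mul_mem uJ zJ)) d4
  have u1 := e.ne (hJ2 uJ) d2
  refine h.ctlZ.st (Z := ⊥) (q := φ mu) (mem_im φ zE) (h.sylE e) bot_le (by simp) ?_ ?_
    (mem_im φ uE) h.l.z1 u1 n1 n2 (fun x hx g hg h1 => ?_) ⟨φ mp, ?_, fun x hx => ?_⟩
    fun O _ hO hc => ?_
  · exact fun a ha b hb => mul_inv_eq_one.mpr (h.l.abJ a (hEJ ha) b (hEJ hb))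
  · exact fun a ha => h.l.expJ a (hEJ ha)
  · by_cases h2 : x = 1
    · simp [h2]
    obtain ⟨a, ha, h3, rfl⟩ := h.exT e hg
      ((h.ctlJ e (hEJ hx) h2).ctl g ((im_mono φ hE2).trans (h.C2H e) h1))
    obtain ⟨j, hj, rfl⟩ := (e.mono hE2).ex hx
    rw [mem_bot, mem_bot, mul_inv_eq_one, mul_eq_one_iff_eq_inv, ← e.conj ha (hE2 hj),
      ← e.inv (hE2 hj)]
    exact (((d_C2 a ha).2 h3).2.1 j hj ((cjm e hE2 ha (hE2 hj)).mp h1)).imp (congrArg φ)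
      (congrArg φ)
  · exact mem_cent.mpr ((e.comm pC (NC tN)).mpr d1)
  · obtain ⟨j, hj, rfl⟩ := (e.mono hE2).ex hx
    rw [mem_bot, ← e.conj pC (hE2 hj), (d_J.1 j (EJ hj)).2.1, e.inv (hE2 hj), inv_mul_cancel]
  · have hL := (h.sylE e).le.trans hO
    refine le_of_two h.l.z3 (h.l.expJ _ (mem_im φ uJ)) (h.l.abJ _ (mem_im φ zJ) _ (mem_im φ uJ))
      h.l.z1 u1 (mt mul_inv_eq_one.mpr n1) (mt eq_inv_iff_mul_eq_one.mp n2) (hL (mem_im φ zE))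
      (hL (mem_im φ uE)) hc h.ctlZ.cent (h.ctlJ e (mem_im φ uJ) u1).cent
      (h.ctlJ e (mul_mem (mem_im φ zJ) (mem_im φ uJ)) ?_).cent
      (h.ctlJ e (mul_mem (mem_im φ zJ) (inv_mem (mem_im φ uJ))) ?_).cent
    · rw [← e.mul (hJ2 zJ) (hJ2 uJ)]
      exact e.ne (hJ2 (mul_mem zJ uJ)) d5
    · rw [← e.inv (hJ2 uJ), ← e.mul (hJ2 zJ) (inv_mem (hJ2 uJ))]
      exact e.ne (hJ2 (mul_mem zJ (inv_mem uJ))) d6

theorem iso : IsIsolated (φ mT) := by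
  have : Fact (Nat.Prime 3) := ⟨Nat.prime_three⟩
  have hJ2 : J ≤ C2 := JC.trans C12
  intro g hg
  have h1 : g * φ mT * g⁻¹ ∈ centralizer {φ mT} := mem_cent.mpr hg.symm.eq
  obtain ⟨a, ha, h2, h3⟩ := h.exT e h1 (h.centT e h1)
  rcases ((d_C2 a ha).2 h2).2.2 ((e.sq_eq_one ha).mp (h3 ▸ L0.SC3.conj_sq h.l.tt g)) with
    rfl | rfl | ⟨k, hk, h4⟩
  · exact absurd (h3.symm.trans e.one) (conj_ne_one (e.ne (NC tN) m_a.2.2.2.2.2.2.2.2))
  · exact h3.symm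
  exfalso
  have hkC : k ∈ C2 := C12 (by
    simp only [List.mem_cons, List.not_mem_nil, or_false] at hk
    rcases hk with rfl | rfl | rfl | rfl
    exacts [one_mem _, sC, mul_mem (JC uJ) sC, mul_mem (mul_mem (JC uJ) (JC uJ)) sC])
  rw [← e.comm ha (mul_mem (mul_mem hkC (hJ2 cJ)) (inv_mem hkC)), h3, e.conj hkC (hJ2 cJ)] at h4
  have h5 : g⁻¹ * φ k * φ mc * (g⁻¹ * φ k)⁻¹ ∈ centralizer {φ mT} := mem_cent.mpr (by
    calc _ = g⁻¹ * (φ k * φ mc * (φ k)⁻¹ * (g * φ mT * g⁻¹)) * g := by group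
      _ = _ := by rw [← h4]; group)
  obtain ⟨l, -, h6⟩ := conj_into (h.sylE e) h5 (k := 1) (by
    rw [conj_pow, pow_one, h.l.expJ _ (mem_im φ cJ)]; group)
  obtain ⟨n, hn, h7⟩ := h.l.fuse (s := {φ mc}) (g := l * (g⁻¹ * φ k)) (by simpa using mem_im φ cJ)
    (by simpa [mul_assoc] using im_mono φ EJ h6)
  obtain ⟨b, hb, rfl⟩ := h.exN e hn
  refine (d_N b hb).1 ((cjm e (EJ.trans hJ2) (NC hb) (hJ2 cJ)).mp ?_)
  rw [h7 _ rfl]
  simpa [mul_assoc] using h6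

theorem real : normalizer (zpowers (φ mz) : Set G) = ⊤ := by
  have : Fact (Nat.Prime 3) := ⟨Nat.prime_three⟩
  have h1 := L0.Bd.sup_oddCore_of_isIsolated
    (orderOf_two h.l.tt (e.ne (NC tN) m_a.2.2.2.2.2.2.2.2)) (h.iso e)
  by_cases h2 : pPrimeCore 2 G = ⊥
  · rw [h2, sup_bot_eq] at h1
    exact eq_top_iff.mpr (h1.ge.trans (h.centT e))
  have := H7.pPrimeCore_characteristic 2 G
  obtain ⟨V, q, hV, -, hV1, hq, hVq, -⟩ := H6.exists_normal_elementary (pPrimeCore 2 G) h2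
    (H9.FT.feitThompson _ (Nat.coprime_two_right.mp (H7.pPrimeCore_coprime 2 G)))
  have := Fact.mk hq
  have hVp : IsPGroup q V := fun x => ⟨1, Subtype.ext (by simpa using hVq x x.2)⟩
  obtain rfl : q = 3 := by
    by_contra h3
    obtain ⟨k, hk⟩ := hVp.exists_card_eq
    exact hV1 (h.l.sig V (by
      rw [hk]
      exact Nat.Coprime.pow_left _ ((Nat.coprime_primes hq Nat.prime_three).mpr h3))
      (by rw [normalizer_eq_top]; exact le_top))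
  have h3 : V ≤ normalizer (zpowers (φ mz) : Set G) := le_sup_left.trans
    (h.ctlZ.pgroup (hVp.to_sup_of_normal_left h.l.pJ) (mem_sup_right (mem_im φ zJ)))
  obtain ⟨⟨x, hx⟩, hx1⟩ := ne_bot_iff_exists_ne_one.mp hV1
  obtain ⟨k, -, hk⟩ := h.toJ (h3 hx) (hVq x hx)
  exact eq_top_iff.mpr fun g _ => (h.ctlJ e hk (conj_ne_one fun e => hx1 (Subtype.ext e))).ctl g
    (h3 (hV.conj_mem _ (hV.conj_mem _ hx k) g))

end Dg

/-- The degenerate case. -/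
theorem deg {φ : Mx → G} (h : Loc0 φ)
    (hd : normalizer (im φ J : Set G) ≤ normalizer (zpowers (φ mz) : Set G)) :
    ((∀ g, g * φ mz * g⁻¹ ≠ (φ mz)⁻¹) → ∃ N : Subgroup G, N.Normal ∧ N.index = 3) ∧
    ((∃ g, g * φ mz * g⁻¹ = (φ mz)⁻¹) → normalizer (zpowers (φ mz) : Set G) = ⊤) := by
  refine ⟨Dg.nonreal ⟨h, hd⟩, fun hr => ?_⟩
  obtain ⟨p, hp, -⟩ := h.exists_p hr
  obtain ⟨ψ, e, h1, -⟩ := h.emb_C2 hp
  have h2 : im ψ J = im φ J := im_congr fun a ha => h1 a (JC ha)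
  rw [← h1 mz (JC zJ)] at hd ⊢
  exact Dg.real ⟨h.congr h1, h2 ▸ hd⟩ e

end Cfsg.Agent.H2.P3
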