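import Cfsg.Agent.H8.P3Set2

/-!
# Finite checks for the degenerate case of the recognition of `PSp₄(3)`
-/

set_option autoImplicit false
set_option maxRecDepth 100000

namespace Cfsg.Agent.H2.P3

open Subgroup Cfsg.Agent.H8.P3 Cfsg.Agent.H8.P3.Mx

attribute [local irreducible] mz mc my ms mu mw mp mx Mx.mt me1 me2 me3 mb mr1 mr2 mr3

/-- Generators. -/
noncomputable def gR : List Mx := [mz, mc, my]
/-- `3^{1+2}` -/
noncomputable def R : Subgroup Mx := cl gR
/-- The elements. -/
noncomputable def LR : List Mx := lst [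
  (nat_lit 40564838550125678058396201254913, nat_lit 40564838550125678058396201254913),
  (nat_lit 40644066750418894520748255216128, nat_lit 79228200293216471148151177729),
  (nat_lit 40564819245091514101686150889984, nat_lit 40564838587895404563716089315841),
  (nat_lit 5070604819354852646153623961664, nat_lit 633980042692812349646288453640),
  (nat_lit 79228200293216471148151177729, nat_lit 40644066750418894520748255216128),
  (nat_lit 40644066712630739285753167086081, nat_lit 79247505336621814293565800960),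
  (nat_lit 5080508344392655373652423901184, nat_lit 1238242270884434381966938120),
  (nat_lit 40564838587895404563716089315841, nat_lit 40564819245091514101686150889984),
  (nat_lit 9905943478584846710760013888, nat_lit 633980344850624392205392941064),
  (nat_lit 5070602406226732821269660860416, nat_lit 1392682618127179545283923968),
  (nat_lit 633980042692812349646288453640, nat_lit 5070604819354852646153623961664),
  (nat_lit 79247543115535662853289672705, nat_lit 40644047407605762672282952531969),
  (nat_lit 9903525037802728598312091712, nat_lit 635218284963696783890782883840),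
  (nat_lit 40644047407605762672282952531969, nat_lit 79247543115535662853289672705),
  (nat_lit 5080508339079993080423939080256, nat_lit 635063542458641996168361410568),
  (nat_lit 635218284963696783890782883840, nat_lit 9903525037802728598312091712),
  (nat_lit 5080505926539863222889467871296, nat_lit 633825602419500695965885534208),
  (nat_lit 9905938757371285345587724288, nat_lit 1392984849437968023074897928),
  (nat_lit 635217982658454903930077843464, nat_lit 5070604823488076240169304358976),
  (nat_lit 5070604823488076240169304358976, nat_lit 635217982658454903930077843464),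
  (nat_lit 1392984849437968023074897928, nat_lit 9905938757371285345587724288),
  (nat_lit 633825602419500695965885534208, nat_lit 5080505926539863222889467871296),
  (nat_lit 79247505336621814293565800960, nat_lit 40644066712630739285753167086081),
  (nat_lit 1238242270884434381966938120, nat_lit 5080508344392655373652423901184),
  (nat_lit 1392682618127179545283923968, nat_lit 5070602406226732821269660860416),
  (nat_lit 633980344850624392205392941064, nat_lit 9905943478584846710760013888),
  (nat_lit 635063542458641996168361410568, nat_lit 5080508339079993080423939080256)] (by decide +kernel)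
theorem hR : Lists R LR 27 :=
  (lists_nil.step (gs := gR) (T := LR)
    [[], [0], [1], [2], [0, 0], [1, 0], [2, 0], [1, 1], [2, 1], [1, 2], [2, 2], [1, 0, 0],
    [2, 0, 0], [1, 1, 0], [1, 2, 0], [2, 2, 0], [2, 1, 1], [1, 2, 1], [2, 2, 1], [1, 1, 2],
    [2, 1, 2], [1, 2, 2], [1, 1, 0, 0], [2, 2, 0, 0], [2, 2, 1, 1], [2, 1, 2, 1], [1, 2, 2, 1]]
    (by decide +kernel) (by decide +kernel) (by decide +kernel) (by decide +kernel)
    (by decide +kernel)).congr (by decide +kernel)

/-- Generators. -/
noncomputable def gE : List Mx := [mz, mu]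
/-- `3^2` -/
noncomputable def E : Subgroup Mx := cl gE
/-- The elements. -/
noncomputable def LE : List Mx := lst [
  (nat_lit 40564838550125678058396201254913, nat_lit 40564838550125678058396201254913),
  (nat_lit 40644066750418894520748255216128, nat_lit 79228200293216471148151177729),
  (nat_lit 40644047407596557314644607238657, nat_lit 79247543115553677251799155200),
  (nat_lit 79228200293216471148151177729, nat_lit 40644066750418894520748255216128),
  (nat_lit 79247505336603799895056318465, nat_lit 40644066712639944643391512379393),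
  (nat_lit 79247543115553677251799155200, nat_lit 40644047407596557314644607238657),
  (nat_lit 40564838587904627935752944091648, nat_lit 40564819245082290729649296114177),
  (nat_lit 40564819245082290729649296114177, nat_lit 40564838587904627935752944091648),
  (nat_lit 40644066712639944643391512379393, nat_lit 79247505336603799895056318465)] (by decide +kernel)
theorem hE : Lists E LE 9 :=
  (lists_nil.step (gs := gE) (T := LE)
    [[], [0], [1], [0, 0], [1, 0], [1, 1], [1, 0, 0], [1, 1, 0], [1, 1, 0, 0]]
    (by decide +kernel) (by decide +kernel) (by decide +kernel) (by decide +kernel)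
    (by decide +kernel)).congr (by decide +kernel)
/-- Generators. -/
noncomputable def gN : List Mx := [mz, mc, mu, my, mT, mp]
/-- The normalizer of `J`. -/
noncomputable def N : Subgroup Mx := cl gN
/-- The elements. -/
noncomputable def LN : List Mx := prodL [1, mp] LB
theorem hN : Lists N LN 324 :=
  hB.step (gs := gN) (T := [1, mp]) [[], [5]]
    (by decide +kernel) (by decide +kernel) (by decide +kernel) (by decide +kernel)
    (by decide +kernel)

theorem RS : R ≤ S := hR.ball.mpr (by simp only [hS.mem]; decide +kernel)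
theorem EJ : E ≤ J := hE.ball.mpr (by simp only [hJ.mem]; decide +kernel)
theorem NC : N ≤ C2 := cl_le fun g hg => mem_cl (by revert g; decide +kernel)
theorem zE : mz ∈ E := mem_cl (by decide +kernel)
theorem uE : mu ∈ E := mem_cl (by decide +kernel)
theorem pN' : mp ∈ N := mem_cl (by decide +kernel)
theorem tN : mT ∈ N := mem_cl (by decide +kernel)
theorem yN : my ∈ N := mem_cl (by decide +kernel)

theorem d_R : (∀ a ∈ gC, ∀ r ∈ R, a * r * a⁻¹ ∈ R) ∧ mu ∉ R ∧
    (∀ a ∈ S, a ∈ R ∨ a * mu⁻¹ ∈ R ∨ a⁻¹ * mu⁻¹ ∈ R) ∧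
    (∀ a ∈ S, a ^ 3 = 1 → ∃ k ∈ [1, ms, ms * mu, ms * mu * mu], k * a * k⁻¹ ∈ J) := by
  simp only [hR.mem, hS.mem, hJ.mem]
  decide +kernel

theorem d_u : ∀ n ∈ C, n * mu * n⁻¹ ∈ S → n * mu * n⁻¹ * mu⁻¹ ∈ R := by
  simp only [hR.mem, hS.mem, hC.mem]
  decide +kernel

theorem d_C2 : ∀ a ∈ C2, (a * mc * a⁻¹ ∈ J → a * mu * a⁻¹ ∈ J → a ∈ N) ∧
    (a * mT = mT * a → (a * mu * a⁻¹ ∈ E → a * a ∈ E) ∧
      (∀ x ∈ E, a * x * a⁻¹ ∈ E → a * x * a⁻¹ = x ∨ a * x * a⁻¹ = x⁻¹) ∧
      (a * a = 1 → a = 1 ∨ a = mT ∨ ∃ k ∈ [1, ms, mu * ms, mu * mu * ms],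
        a * (k * mc * k⁻¹) = k * mc * k⁻¹ * a)) := by
  simp only [hN.mem, hE.mem, hJ.mem, hC2.mem]
  decide +kernel

theorem d_N : ∀ a ∈ N, a * mc * a⁻¹ ∉ E ∧
    (a * mc = mc * a → a * a ∈ J ∧ ∀ j ∈ J, a * j * a⁻¹ * j⁻¹ ∈ [1, mc, mc⁻¹] ∨
      a * j * a⁻¹ * j ∈ [1, mc, mc⁻¹]) ∧
    ∀ v ∈ [mu, mu * mz, mu * mz⁻¹], a * v = v * a → a * a ∈ J ∧ (a * mc = mc * a → a ∈ J) ∧
      ∀ j ∈ J, a * j * a⁻¹ * j⁻¹ ∈ [1, mc, mc⁻¹] := by
  simp only [hN.mem, hE.mem, hJ.mem]
  decide +kernel

theorem d_J : (∀ j ∈ J, mT * mp * j * (mT * mp)⁻¹ * j ∈ [1, mc, mc⁻¹] ∧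
    mp * j * mp⁻¹ = j⁻¹ ∧ (j = 1 ∨ ∃ k ∈ [1, my, my * my, mp, mp * my, mp * my * my],
      ∃ b ∈ [mz, mc, mu, mu * mz, mu * mz⁻¹], k * j = b * k)) ∧
    mT * mp * mc = mc * (mT * mp) ∧ mp * mT = mT * mp ∧ (∀ x ∈ E, x * mT = mT * x) ∧
    mc ≠ 1 ∧ mu ≠ 1 ∧ mu * mz⁻¹ ≠ 1 ∧ mu * mz ≠ 1 ∧ mz * mu ≠ 1 ∧ mz * mu⁻¹ ≠ 1 ∧
    mp * mz * mp⁻¹ = mz⁻¹ := by
  simp only [hE.mem, hJ.mem]
  decide +kernel

end Cfsg.Agent.H2.P3
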