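import Cfsg.Agent.H8.P3SpDef

/-!
# The centralizer of the involution in the `Sp₆(2)` case
-/

set_option autoImplicit false
set_option linter.unusedSectionVars false
set_option synthInstance.maxSize 4000
set_option maxRecDepth 100000

namespace Cfsg.Agent.H2.P3

open Subgroup Cfsg.Agent.H9 Cfsg.Agent.H1.T3 Cfsg.Agent.H8.P3 Cfsg.Agent.H8.P3.Mx Equiv
open Cfsg.Agent.H1.S9 (Emb im mem_im im_mono im_congr)

attribute [local irreducible] mz mc my ms mu mw mp mx Mx.mt me1 me2 me3 mb mr1 mr2 mr3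

theorem k6_model : my ∈ N2 ∧ mr1 ∈ N2 ∧ mr2 ∈ N2 ∧ mr3 ∈ N2 ∧ me1 ∈ N2 ∧ me2 ∈ N2 ∧ me3 ∈ N2 ∧
    mr3 * me3 * mr3⁻¹ = me3⁻¹ ∧ mr3 * mr3 = 1 ∧ my * (mr3 * mr1) * my⁻¹ = mr1 * mr2 ∧
    mr3 * (mr1 * mr2) = mp ∧ mr3 * mT = mT * mr3 ∧ mr3 * me1 = me1 * mr3 ∧
    mr3 * me2 = me2 * mr3 ∧ me3 ^ 3 = 1 ∧ mT ∈ N2 := by
  simp only [hN2.mem]
  decide +kernel

theorem k6_t : ∀ σ : Perm (Fin 6), σ * (swap 0 5 * swap 1 4 * swap 2 3) =
    (swap 0 5 * swap 1 4 * swap 2 3) * σ → σ ^ 12 = 1 := by decide +kernel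

theorem k6_w : ∀ σ : Perm (Fin 6), σ * (swap 0 1 * swap 4 5) = (swap 0 1 * swap 4 5) * σ →
    σ ^ 3 = 1 → σ = 1 := by decide +kernel

theorem k6_c : ∀ k : Perm (Fin 6), k * k = 1 → ∃ g : Perm (Fin 6), g * k * g⁻¹ = 1 ∨
    g * k * g⁻¹ = swap 0 1 ∨ g * k * g⁻¹ = swap 0 1 * swap 4 5 ∨
    g * k * g⁻¹ = swap 0 5 * swap 1 4 * swap 2 3 := by decide +kernel

variable {G : Type*} [Group G] [Finite G] {φ : Mx → G} {ι : Perm (Fin 6) →* G}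

theorem kout6 (h : Loc true φ) (hs : Six φ ι) : ∃ O, Kout φ O := by
  obtain ⟨m1, m2, m3, m4, m5, m6, m7, m8, m9, m10, m11, m12, m13, m14, m15, m16⟩ := k6_model
  have e3 : φ me3 ^ 3 = 1 := by rw [← h.eN.pow m7, m15, h.eN.one]
  have inj : ∀ σ τ, ι σ = ι τ → σ = τ := fun σ τ e => by
    have := hs.inj (σ * τ⁻¹) (by rw [map_mul, map_inv, e, mul_inv_cancel]; exact one_mem _)
    exact mul_inv_eq_one.mp this
  have zc : ∀ ζ ∈ zpowers (φ me3), ∀ σ, Commute ζ (ι σ) := fun ζ hζ σ => by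
    obtain ⟨k, rfl⟩ := mem_zpowers_iff.mp hζ
    exact Commute.zpow_left (show Commute (ι σ) (φ me3) from hs.cen σ).symm k
  have z3 : ∀ ζ ∈ zpowers (φ me3), ζ ^ 3 = 1 := fun ζ hζ => cube_zp e3 hζ
  have cm : ∀ ζ ∈ zpowers (φ me3), ∀ σ τ, ζ * ι σ * ι τ = ι τ * (ζ * ι σ) → σ * τ = τ * σ :=
    fun ζ hζ σ τ e => inj _ _ (by
      rw [← mul_assoc, ← (zc ζ hζ τ).eq, mul_assoc, mul_assoc, mul_right_inj] at e
      simpa using e)
  have ri : φ mr3 * φ me3 * (φ mr3)⁻¹ = (φ me3)⁻¹ := (h.cji m4 m7 m7).mpr m8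
  have rr : φ mr3 * φ mr3 = 1 := (h.eN.sq_eq_one m4).mpr m9
  have rinv : (φ mr3)⁻¹ = φ mr3 := inv_eq_of_mul_eq_one_right rr
  have riz : ∀ ζ ∈ zpowers (φ me3), φ mr3 * ζ = ζ⁻¹ * φ mr3 := fun ζ hζ => by
    obtain ⟨k, rfl⟩ := mem_zpowers_iff.mp hζ
    rw [← mul_inv_eq_iff_eq_mul, ← conj_zpow, ri, inv_zpow]
  refine h.kout (fun t ht _ e => ?_) fun g e1 e2 => ?_
  · obtain ⟨k, ζ, hζ, e1⟩ := hs.top (φ mr3 * t) (by
      have e' : t * φ me3 = (φ me3)⁻¹ * t := by rw [← e, inv_mul_cancel_right]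
      rw [mul_assoc, e', ← mul_assoc, riz _ (inv_mem (mem_zpowers _)), inv_inv, mul_assoc])
    have e2 : t = φ mr3 * (ζ * ι k) := by rw [← e1, ← mul_assoc, rr, one_mul]
    have c1 : Commute (ι k) (φ mr3) := hs.r3 k
    have kk : k * k = 1 := inj _ _ (by
      have := h.sq_of_conj ht
      rw [e2] at this
      calc ι (k * k) = φ mr3 * (ζ * ι k) * (φ mr3 * (ζ * ι k)) := by
            rw [map_mul, mul_assoc, mul_assoc ζ, ← mul_assoc (ι k), c1.eq, mul_assoc (φ mr3),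
              ← mul_assoc (ι k), ← (zc ζ hζ k).eq, ← mul_assoc, ← mul_assoc, riz ζ hζ,
              mul_assoc ζ⁻¹, rr]
            group
        _ = ι 1 := by rw [this, map_one])
    obtain ⟨g, hg⟩ := k6_c k kk
    have ht' : IsConj (φ mT) (φ mr3 * ι (g * k * g⁻¹)) := by
      refine ht.trans (isConj_iff.mpr ⟨ι g * ζ⁻¹, ?_⟩)
      have a1 : ζ⁻¹ * t * ζ = φ mr3 * ι k := by
        have a2 : ζ⁻¹ * φ mr3 = φ mr3 * ζ := (riz ζ hζ).symm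
        have a3 : ζ * ζ * ζ = 1 := by rw [← z3 ζ hζ, pow_three, mul_assoc]
        rw [e2, ← mul_assoc, a2, mul_assoc, mul_assoc, mul_assoc, ← (zc ζ hζ k).eq,
          ← mul_assoc ζ, ← mul_assoc _ ζ, a3, one_mul]
      calc ι g * ζ⁻¹ * t * (ι g * ζ⁻¹)⁻¹ = ι g * (ζ⁻¹ * t * ζ) * (ι g)⁻¹ := by group
        _ = _ := by rw [a1, ← mul_assoc, hs.r3 g, map_mul, map_mul, map_inv]; group
    rcases hg with hg | hg | hg | hg <;> rw [hg] at ht'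
    · rw [map_one, mul_one] at ht'
      exact h.t1 _ ht' ((h.eN.comm m4 m5).mpr m13) ((h.eN.comm m4 m6).mpr m14)
    · rw [hs.r1, ← h.eN.mul m4 m2] at ht'
      have hw : IsConj (φ mT) (ι (swap 0 1 * swap 4 5)) := by
        refine ht'.trans (isConj_iff.mpr ⟨φ my, ?_⟩)
        rw [← h.eN.conj m1 (mul_mem m4 m2), m10, h.eN.mul m2 m3, map_mul, hs.r1, hs.r2]
      obtain ⟨x, x1, x2, x3, x4⟩ := h.t0 _ (φ me3) hw (hs.cen _).symm e3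
      obtain ⟨σ, ζ', hζ', rfl⟩ := hs.top x x2
      have := k6_w σ (cm ζ' hζ' σ _ x1) (inj _ _ (by
        rw [(zc ζ' hζ' σ).mul_pow, z3 ζ' hζ', one_mul] at x3
        rw [map_pow, x3, map_one]))
      exact x4 (by rwa [this, map_one, mul_one])
    · rw [map_mul, hs.r1, hs.r2, ← h.eN.mul m2 m3, ← h.eN.mul m4 (mul_mem m2 m3), m11] at ht'
      exact h.tp ht'
    · rw [hs.t, ← h.eN.mul m4 m16, m12] at ht'
      exact h.tr3 ht'
  · obtain ⟨σ, ζ, hζ, rfl⟩ := hs.top g e2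
    rw [← hs.t] at e1
    rw [(zc ζ hζ σ).mul_pow, ← map_pow, k6_t σ (cm ζ hζ σ _ e1), map_one, mul_one,
      show 12 = 3 * 4 from rfl, pow_mul, z3 ζ hζ, one_pow]

end Cfsg.Agent.H2.P3
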