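import Mathlib
import Cfsg.Agent.H2.SzFrob
import Cfsg.Agent.H6.Aff

set_option autoImplicit false

namespace Cfsg.Agent.H2

open Projectivization Matrix

/-- An intertwiner out of an irreducible element is zero or invertible. -/
theorem det_ne_zero_of_intertwine {F : Type*} [Field F] [Fintype F] {p : ℕ} (hp : p.Prime)
    (hp2 : p ≠ 2) (hq : p ∣ Fintype.card F ^ 2 + 1)
    (Z : Matrix (Fin 4) (Fin 4) F) (hZ : Z ^ p = 1) (hZ1 : Z ≠ 1) (A Y : Matrix (Fin 4) (Fin 4) F)
    (hA : Y * A = A * Z) (hA0 : A ≠ 0) : A.det ≠ 0 := by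
  classical
  let K : Submodule F (Fin 4 → F) := LinearMap.ker (Matrix.toLin' A)
  have hK : ∀ w, w ∈ K ↔ A *ᵥ w = 0 := by
    intro w
    simp [K]
  have h := card_modEq_of_invariant hp Z hZ K (fun v hv => by
    rw [hK] at hv ⊢
    rw [Matrix.mulVec_mulVec, ← hA, ← Matrix.mulVec_mulVec, hv, Matrix.mulVec_zero])
  have e : Nat.card {v : K // Z *ᵥ v = v} = 1 := by
    rw [Nat.card_eq_one_iff_exists]
    refine ⟨⟨0, by simp⟩, fun w => ?_⟩
    exact Subtype.ext (Subtype.ext (no_fixed_vector hp hp2 hq Z hZ hZ1 _ w.2))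
  rw [e, Module.natCard_eq_pow_finrank (K := F), Nat.card_eq_fintype_card] at h
  have hlt : Module.finrank F K < 4 := by
    have : K ≠ ⊤ := by
      intro h
      apply hA0
      rw [← Matrix.toLin'.map_eq_zero_iff, ← LinearMap.ker_eq_top]
      exact h
    have := Submodule.finrank_lt this
    rwa [Module.finrank_fin_fun] at this
  have h0 := pow_modEq_one_aux hp hp2 hq hlt h
  rw [Submodule.finrank_eq_zero] at h0
  intro hdet
  obtain ⟨v, hv0, hv⟩ := Matrix.exists_mulVec_eq_zero_iff.2 hdet
  have := (hK v).2 hv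
  rw [h0, Submodule.mem_bot] at this
  exact hv0 this

section
variable (F : Type*) [Field F] [Fintype F] [hF : SzField F 1]
include hF

/-- The squaring automorphism. -/
noncomputable def fr : RingAut F :=
  RingEquiv.ofBijective
    ({ toFun := fun x => x ^ 2
       map_one' := one_pow 2
       map_mul' := fun x y => mul_pow x y 2
       map_zero' := by simp
       map_add' := fun x y => by have := two_eq_zero F 1; grind } : F →+* F)
    ⟨sq_injective 1, sq_surjective 1⟩

variable {F} in
theorem fr_apply (x : F) : fr F x = x ^ 2 := rfl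

theorem card_eight : Fintype.card F = 8 := hF.card_eq

variable {F} in
theorem pow_eight (x : F) : x ^ 8 = x := by
  rw [← card_eight F]; exact FiniteField.pow_card x

theorem fr_pow_three : fr F ^ 3 = 1 := by
  ext x
  change ((x ^ 2) ^ 2) ^ 2 = x
  rw [← pow_mul, ← pow_mul]; exact pow_eight x

theorem fr_ne_one : fr F ≠ 1 := by
  obtain ⟨x, h0, h1⟩ := exists_ne_zero_ne_one F 1
  intro h
  have : x ^ 2 = x := congrArg (fun σ : RingAut F => σ x) h
  exact h1 (mul_left_cancel₀ h0 (by rw [← sq, this, mul_one]))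

/-- The Galois group. -/
noncomputable abbrev Gal : Subgroup (RingAut F) := Subgroup.zpowers (fr F)

variable {F} in
theorem Gal_cases (σ : Gal F) : (σ : RingAut F) = 1 ∨ (σ : RingAut F) = fr F ∨
    (σ : RingAut F) = fr F ^ 2 := by
  obtain ⟨_, n, rfl⟩ := σ
  simp only
  rw [zpow_eq_zpow_emod' n (fr_pow_three F)]
  have : n % (3 : ℕ) = 0 ∨ n % (3 : ℕ) = 1 ∨ n % (3 : ℕ) = 2 := by omega
  rcases this with h | h | h <;> rw [h]
  · left; simp
  · right; left; simp
  · right; right; rfl

variable {F} in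
theorem Gal_pow_three (σ : Gal F) : σ ^ 3 = 1 := by
  apply Subtype.ext
  change (σ : RingAut F) ^ 3 = 1
  rcases Gal_cases σ with h | h | h <;> rw [h]
  · simp
  · exact fr_pow_three F
  · rw [← pow_mul, mul_comm, pow_mul, fr_pow_three, one_pow]

variable {F} in
theorem sq_eq_of_Gal_fix {σ : Gal F} (hσ : σ ≠ 1) {a : F} (h : (σ : RingAut F) a = a) :
    a ^ 2 = a := by
  rcases Gal_cases σ with h1 | h1 | h1
  · exact absurd (Subtype.ext h1) hσ
  · rwa [h1] at h
  · rw [h1] at h
    change (a ^ 2) ^ 2 = a at h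
    calc a ^ 2 = ((a ^ 2) ^ 2) ^ 2 := by rw [h]
      _ = a := by rw [← pow_mul, ← pow_mul]; exact pow_eight a

/-- The group `Sz(8):3`. -/
abbrev Gam : Type _ := Sz F 1 ⋊[(fieldAut F 1).comp (Gal F).subtype] Gal F

instance finite_Gam : Finite (Gam F) := by
  have : Finite (RingAut F) := DFunLike.finite _
  exact Finite.of_equiv _ SemidirectProduct.equivProd.symm

omit hF [Fintype F] in
/-- The module `V ⊗ V^φ`. -/
def UMod : Type _ := Matrix (Fin 4) (Fin 4) F

omit hF [Fintype F] in
instance addCommGroup_UMod : AddCommGroup (UMod F) :=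
  inferInstanceAs (AddCommGroup (Matrix (Fin 4) (Fin 4) F))

omit hF in
instance finite_UMod : Finite (UMod F) := inferInstanceAs (Finite (Matrix (Fin 4) (Fin 4) F))

omit hF [Fintype F] in
instance nontrivial_UMod : Nontrivial (UMod F) :=
  inferInstanceAs (Nontrivial (Matrix (Fin 4) (Fin 4) F))

variable {F} in
/-- the action map -/
noncomputable def uact (k : Gam F) (X : Matrix (Fin 4) (Fin 4) F) : Matrix (Fin 4) (Fin 4) F :=
  mat 1 k.left * X.map (k.right : RingAut F) * ((mat 1 k.left).map (fr F))ᵀ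

variable {F} in
theorem uact_one (X : Matrix (Fin 4) (Fin 4) F) : uact 1 X = X := by
  change mat 1 1 * Matrix.map X (1 : RingAut F) * ((mat 1 1).map (fr F))ᵀ = X
  rw [mat_one, Matrix.map_one _ (map_zero _) (map_one _), transpose_one, Matrix.one_mul,
    Matrix.mul_one]
  rfl

variable {F} in
theorem uact_mul (k l : Gam F) (X : Matrix (Fin 4) (Fin 4) F) :
    uact (k * l) X = uact k (uact l X) := by
  have e : ∀ (σ : RingAut F) (A : Matrix (Fin 4) (Fin 4) F),
      (A.map σ).map (fr F) = (A.map (fr F)).map σ := by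
    intro σ A; ext i j; simp [fr_apply]
  simp only [uact, SemidirectProduct.mul_left, SemidirectProduct.mul_right, mat_mul,
    MonoidHom.comp_apply, mat_fieldAut, Matrix.map_mul, transpose_mul, Matrix.mul_assoc,
    Subgroup.subtype_apply, e, Matrix.transpose_map]
  rfl

variable {F} in
theorem uact_add (k : Gam F) (X Y : Matrix (Fin 4) (Fin 4) F) :
    uact k (X + Y) = uact k X + uact k Y := by
  simp only [uact]
  rw [Matrix.map_add _ (map_add _), Matrix.mul_add, Matrix.add_mul]

variable {F} in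
theorem uact_zero (k : Gam F) : uact k 0 = 0 := by simp [uact]

noncomputable instance action_UMod : DistribMulAction (Gam F) (UMod F) where
  smul := uact
  one_smul := uact_one
  mul_smul := uact_mul
  smul_zero := uact_zero
  smul_add := uact_add

variable {F} in
theorem smul_UMod (k : Gam F) (X : UMod F) : k • X = uact k X := rfl

theorem two_smul_UMod (X : UMod F) : 2 • X = 0 := by
  have : ∀ Y : Matrix (Fin 4) (Fin 4) F, (2 : ℕ) • Y = 0 := by
    intro Y
    ext i j
    simp [two_eq_zero F 1]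
  exact this X

variable {F} in
theorem orderOf_sz_eight (g : Sz F 1) :
    orderOf g ∣ 4 ∨ orderOf g ∣ 5 ∨ orderOf g ∣ 7 ∨ orderOf g ∣ 13 := by
  have hc : ∀ k : Sz F 1, orderOf (k * g * k⁻¹) = orderOf g := fun k =>
    MulEquiv.orderOf_eq (MulAut.conj k) g
  rcases conj_cases 1 g with h1 | ⟨k, a, b, h1⟩ | ⟨k, t, -, h1⟩
  · obtain ⟨x, y, -, -, h2, h3, -, -, h4⟩ := exists_two_classes (F := F) 1
    rcases h4 g h1 with ⟨-, k, hk⟩ | ⟨-, k, hk⟩
    · right; right; right
      have := Subgroup.orderOf_dvd_natCard _ hk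
      rwa [h2, hc] at this
    · right; left
      have := Subgroup.orderOf_dvd_natCard _ hk
      rwa [h3, hc] at this
  · left
    rw [← hc k, h1]
    exact orderOf_dvd_of_pow_eq_one (T_pow_four 1 a b)
  · right; right; left
    have := Subgroup.orderOf_dvd_natCard (Tor F 1) (x := D 1 t) ⟨t, rfl⟩
    rwa [card_Tor, card_eight, ← h1, hc] at this

variable {F} in
theorem fpf_thirteen {g : Sz F 1} (hg : orderOf g = 13) (X : UMod F)
    (h : (SemidirectProduct.inl g : Gam F) • X = X) : X = 0 := by
  by_contra h0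
  let g' := fieldAut F 1 (fr F) g⁻¹
  have hg' : orderOf g' = 13 := by rw [MulEquiv.orderOf_eq, orderOf_inv, hg]
  have h1 : mat 1 g * (show Matrix (Fin 4) (Fin 4) F from X) * (mat 1 g'⁻¹)ᵀ = X := by
    have : g'⁻¹ = fieldAut F 1 (fr F) g := by simp [g']
    rw [this]; exact h
  have h2 : mat 1 g * (show Matrix (Fin 4) (Fin 4) F from X) =
      (show Matrix (Fin 4) (Fin 4) F from X) * (mat 1 g')ᵀ := by
    conv_rhs => rw [← h1]
    rw [Matrix.mul_assoc, ← transpose_mul, ← mat_mul, mul_inv_cancel, mat_one, transpose_one,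
      Matrix.mul_one]
  have h3 := det_ne_zero_of_intertwine (p := 13) (by norm_num) (by norm_num)
    (by rw [card_eight]; norm_num) (mat 1 g')ᵀ
    (by rw [← transpose_pow, ← mat_pow, ← hg', pow_orderOf_eq_one, mat_one, transpose_one])
    (by
      intro h4
      rw [transpose_eq_one] at h4
      rw [mat_injective 1 (h4.trans (mat_one 1).symm), orderOf_one] at hg'
      omega) X _ h2 h0
  have h4 : (mat 1 g).trace = (mat 1 g').trace := by
    generalize (show Matrix (Fin 4) (Fin 4) F from X) = Y at h2 h3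
    have hu := Matrix.mul_nonsing_inv Y (isUnit_iff_ne_zero.2 h3)
    have hu' := Matrix.nonsing_inv_mul Y (isUnit_iff_ne_zero.2 h3)
    calc (mat 1 g).trace = (mat 1 g * Y * Y⁻¹).trace := by
          rw [Matrix.mul_assoc, hu, Matrix.mul_one]
      _ = _ := by
          rw [h2, Matrix.trace_mul_comm, ← Matrix.mul_assoc, hu', Matrix.one_mul, trace_transpose]
  have h5 : (mat 1 g').trace = (mat 1 g).trace ^ 2 := by
    rw [← trace_inv 1 g, mat_fieldAut, ← fr_apply]
    exact (AddMonoidHom.map_trace (fr F) _).symm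
  have := orderOf_dvd_of_pow_eq_one (pow_twenty_of_trace 1 (h5.symm.trans h4.symm))
  rw [hg] at this
  omega

variable {F} in
theorem orderOf_dvd_sixty {k : Gam F} (hk : k.right ≠ 1) : orderOf k ∣ 60 := by
  have h1 : (k ^ 3).right = 1 := by
    have := map_pow (SemidirectProduct.rightHom : Gam F →* Gal F) k 3
    exact this.trans (Gal_pow_three _)
  have h2 : k ^ 3 = SemidirectProduct.inl (k ^ 3).left := by
    rw [← SemidirectProduct.inl_left_mul_inr_right (k ^ 3), h1]; simp
  generalize (k ^ 3).left = h at h2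
  have h3 : k * SemidirectProduct.inl h = SemidirectProduct.inl h * k := by
    rw [← h2]; exact (Commute.self_pow k 3).eq
  have h4 : k.left * fieldAut F 1 k.right h = h * k.left := by
    simpa using congrArg SemidirectProduct.left h3
  have h5 : (k.right : RingAut F) (mat 1 h).trace = (mat 1 h).trace := by
    have e : fieldAut F 1 k.right h = k.left⁻¹ * (h * k.left) := by rw [← h4]; group
    have := congrArg (fun g => (mat 1 g).trace) e
    simp only [mat_fieldAut] at this
    rw [AddMonoidHom.map_trace (k.right : RingAut F), this, mat_mul, Matrix.trace_mul_comm,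
      ← mat_mul, mul_inv_cancel_right]
  have h6 := pow_twenty_of_trace 1 (sq_eq_of_Gal_fix hk h5)
  apply orderOf_dvd_of_pow_eq_one
  rw [show 60 = 3 * 20 from rfl, pow_mul, h2, ← map_pow, h6, map_one]

theorem orderOf_aff (a : H6.Aff (UMod F) (Gam F)) :
    orderOf a ∣ 13 ∨ orderOf a ∣ 14 ∨ orderOf a ∣ 360 := by
  have h2 : orderOf a ∣ orderOf a.k * 2 := by
    rcases H6.Aff.orderOf_cases Nat.prime_two (two_smul_UMod F) a with h | h <;> rw [h]
    exact Dvd.intro _ rfl
  by_cases hk : a.k.right = 1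
  · have h3 : a.k = SemidirectProduct.inl a.k.left := by
      rw [← SemidirectProduct.inl_left_mul_inr_right a.k, hk]; simp
    have h4 : orderOf a.k = orderOf a.k.left := by
      conv_lhs => rw [h3]
      exact orderOf_injective _ SemidirectProduct.inl_injective _
    rw [h4] at h2
    rcases orderOf_sz_eight a.k.left with h | h | h | h
    · exact Or.inr (Or.inr (h2.trans ((mul_dvd_mul_right h 2).trans (by norm_num))))
    · exact Or.inr (Or.inr (h2.trans ((mul_dvd_mul_right h 2).trans (by norm_num))))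
    · exact Or.inr (Or.inl (h2.trans (mul_dvd_mul_right h 2)))
    · rcases (Nat.dvd_prime (by norm_num)).1 h with h5 | h5
      · rw [h5] at h2
        exact Or.inr (Or.inl (h2.trans (by norm_num)))
      · left
        rw [H6.Aff.orderOf_eq_of_fpf a 1, h4, h5]
        intro w hw
        rw [pow_one, h3] at hw
        exact fpf_thirteen h5 w hw
  · exact Or.inr (Or.inr (h2.trans ((mul_dvd_mul_right (orderOf_dvd_sixty hk) 2).trans
      (by norm_num))))

theorem mem_spec_aff_of_fixed {k : Gam F} (hk : Odd (orderOf k)) {X : UMod F} (hX : X ≠ 0)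
    (h : k • X = X) : orderOf k * 2 ∈ Set.range (orderOf : H6.Aff (UMod F) (Gam F) → ℕ) := by
  refine ⟨⟨X, k⟩, H6.Aff.orderOf_of_nrm_ne_zero Nat.prime_two (two_smul_UMod F) _ ?_⟩
  have : ∀ i : ℕ, k ^ i • X = X := by
    intro i
    induction i with
    | zero => simp
    | succ i ih => rw [pow_succ, mul_smul, h, ih]
  obtain ⟨n, hn⟩ := hk
  simp only [H6.Aff.nrm, this, Finset.sum_const, Finset.card_range, hn]
  rw [add_smul, mul_smul, two_smul_UMod, one_smul, zero_add]
  exact hX

theorem thirty_mem_spec_aff : 30 ∈ Set.range (orderOf : H6.Aff (UMod F) (Gam F) → ℕ) := by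
  have h2 := two_eq_zero F 1
  let h : Sz F 1 := T 1 0 1 * W F 1
  have hm : mat 1 h = !![1, 1, 0, 1; 1, 0, 1, 0; 0, 1, 0, 0; 1, 0, 0, 0] := by
    rw [mat_mul, mat_T, mat_W]
    ext i j
    fin_cases i <;> fin_cases j <;> simp [Matrix.mul_apply, Fin.sum_univ_four, ov]
  have hmap : (mat 1 h).map (fr F) = mat 1 h := by
    rw [hm]; ext i j
    fin_cases i <;> fin_cases j <;> simp
  have h5 : orderOf h = 5 := by
    have : Fact (Nat.Prime 5) := ⟨by norm_num⟩
    apply orderOf_eq_prime
    · apply mat_injective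
      have h1 := quartic_rel 1 h
      have ht : (mat 1 h).trace = 1 := by
        rw [hm]; simp [Matrix.trace, Fin.sum_univ_four]
      rw [ht] at h1
      simp only [one_smul, th_one] at h1
      rw [mat_pow, mat_one, ← sub_eq_zero]
      have : mat 1 h ^ 5 - 1 =
        (mat 1 h - 1) * (mat 1 h ^ 4 + mat 1 h ^ 3 + mat 1 h ^ 2 + mat 1 h + 1) := by noncomm_ring
      rw [this, h1, mul_zero]
    · intro h1
      have := congrFun (congrFun (hm.symm.trans (congrArg (mat 1) h1)) 0) 1
      simp [mat_one] at this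
  let φ : Gal F := ⟨fr F, Subgroup.mem_zpowers _⟩
  have h3 : orderOf φ = 3 := by
    have : Fact (Nat.Prime 3) := ⟨by norm_num⟩
    exact orderOf_eq_prime (Gal_pow_three φ) (fun h => fr_ne_one F (congrArg Subtype.val h))
  have hfix : fieldAut F 1 (fr F) h = h := mat_injective 1 hmap
  have hc : Commute (SemidirectProduct.inl h : Gam F) (SemidirectProduct.inr φ) := by
    apply SemidirectProduct.ext
    · simpa using hfix.symm
    · simp
  have h15 : orderOf ((SemidirectProduct.inl h : Gam F) * SemidirectProduct.inr φ) = 15 := by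
    rw [hc.orderOf_mul_eq_mul_orderOf_of_coprime] <;>
    rw [orderOf_injective _ SemidirectProduct.inl_injective,
      orderOf_injective _ SemidirectProduct.inr_injective, h5, h3]
    norm_num
  have := mem_spec_aff_of_fixed F (k := SemidirectProduct.inl h * SemidirectProduct.inr φ)
    (by rw [h15]; decide) (X := suzukiForm F) (by
      intro h0
      have := congrFun (congrFun (show suzukiForm F = 0 from h0) 0) 3
      simp [suzukiForm] at this) (by
      change uact _ (suzukiForm F) = suzukiForm F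
      rw [uact]
      have e : (suzukiForm F).map (fr F) = suzukiForm F := by
        ext i j
        fin_cases i <;> fin_cases j <;> simp [suzukiForm]
      simp only [SemidirectProduct.mul_left, SemidirectProduct.left_inl, SemidirectProduct.right_inl,
        SemidirectProduct.left_inr, map_one, mul_one, SemidirectProduct.mul_right,
        SemidirectProduct.right_inr, one_mul, hmap, φ, e]
      exact form_transpose (preserves_form 1 h))
  rwa [h15] at this

theorem fourteen_mem_spec_aff : 14 ∈ Set.range (orderOf : H6.Aff (UMod F) (Gam F) → ℕ) := by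
  obtain ⟨x, hx0, hx1⟩ := exists_ne_zero_ne_one F 1
  let t : Fˣ := Units.mk0 x hx0
  have hx7 : x ^ 7 = 1 := mul_left_cancel₀ hx0 (by rw [← pow_succ', pow_eight, mul_one])
  have h7 : orderOf (SemidirectProduct.inl (D 1 t) : Gam F) = 7 := by
    have : Fact (Nat.Prime 7) := ⟨by norm_num⟩
    rw [orderOf_injective _ SemidirectProduct.inl_injective, ← Dhom_apply,
      orderOf_injective _ (D_injective 1)]
    exact orderOf_eq_prime (Units.ext hx7) (fun h => hx1 (congrArg Units.val h))
  have := mem_spec_aff_of_fixed F (k := SemidirectProduct.inl (D 1 t))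
    (by rw [h7]; decide) (X := !![0, 1, 0, 0; 0, 0, 0, 0; 0, 0, 0, 0; 0, 0, 0, 0]) (by
      intro h0
      have := congrFun (congrFun
        (show (!![0, 1, 0, 0; 0, 0, 0, 0; 0, 0, 0, 0; 0, 0, 0, 0] : Matrix _ _ F) = 0 from h0) 0) 1
      simp at this) (by
      have : uact (SemidirectProduct.inl (D 1 t))
          !![0, 1, 0, 0; 0, 0, 0, 0; 0, 0, 0, 0; 0, 0, 0, 0] =
          !![0, 1, 0, 0; 0, 0, 0, 0; 0, 0, 0, 0; 0, 0, 0, 0] := by
        rw [uact, SemidirectProduct.left_inl, SemidirectProduct.right_inl, mat_D]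
        ext i j
        fin_cases i <;> fin_cases j <;>
          simp [Matrix.mul_apply, Fin.sum_univ_four, fr_apply, Matrix.vecMul, dotProduct]
        simp only [t, Units.val_mk0, th]
        rw [← hx7]; ring
      exact this)
  rwa [h7] at this

theorem thirteen_mem_spec_aff : 13 ∈ Set.range (orderOf : H6.Aff (UMod F) (Gam F) → ℕ) := by
  have : Fact (Nat.Prime 13) := ⟨by norm_num⟩
  obtain ⟨g, hg⟩ := exists_prime_orderOf_dvd_card' (G := Sz F 1) 13
    (by rw [card_Sz, card_eight]; norm_num)
  refine ⟨H6.Aff.inr (SemidirectProduct.inl g), ?_⟩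
  rw [orderOf_injective _ H6.Aff.inr_injective, orderOf_injective _ SemidirectProduct.inl_injective,
    hg]

end

/-- The prime graph determined by divisibility bounds. -/
theorem primeGraph_of_bounds {G : Type*} [Group G] [Finite G]
    (h : ∀ g : G, orderOf g ∣ 13 ∨ orderOf g ∣ 14 ∨ orderOf g ∣ 360)
    (h30 : 30 ∈ Set.range (orderOf : G → ℕ)) (h14 : 14 ∈ Set.range (orderOf : G → ℕ))
    (h13 : 13 ∈ Set.range (orderOf : G → ℕ)) {n : ℕ} (hn : n ∣ 13 ∨ n ∣ 14 ∨ n ∣ 360 → 
      n ∣ 13 ∨ n ∣ 14 ∨ n ∣ 30) :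
    n ∈ Set.range (orderOf : G → ℕ) ↔ (n ∣ 13 ∨ n ∣ 14 ∨ n ∣ 30) := by
  constructor
  · rintro ⟨g, rfl⟩
    exact hn (h g)
  · rintro (h | h | h)
    · exact H6.mem_spec_of_dvd' h13 h
    · exact H6.mem_spec_of_dvd' h14 h
    · exact H6.mem_spec_of_dvd' h30 h

theorem dvd_thirty_of_squarefree {n : ℕ} (hn : Squarefree n) :
    n ∣ 13 ∨ n ∣ 14 ∨ n ∣ 360 → n ∣ 13 ∨ n ∣ 14 ∨ n ∣ 30 := by
  rintro (h | h | h)
  · exact Or.inl h
  · exact Or.inr (Or.inl h)
  · exact Or.inr (Or.inr ((hn.dvd_pow_iff_dvd (n := 3) (by norm_num)).1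
      (h.trans (by norm_num))))

theorem large_of_bounds {L : Type*} [Group L] [Finite L]
    (h : ∀ g : L, orderOf g ∣ 13 ∨ orderOf g ∣ 14 ∨ orderOf g ∣ 360)
    (h30 : 30 ∈ Set.range (orderOf : L → ℕ)) (h14 : 14 ∈ Set.range (orderOf : L → ℕ))
    (h13 : 13 ∈ Set.range (orderOf : L → ℕ)) (N : ℕ) :
    ∃ (H : Type) (_ : Group H) (_ : Finite H), N < Nat.card H ∧
      ((∀ p : ℕ, p.Prime → (p ∣ Nat.card L ↔ p ∣ Nat.card H)) ∧
      (∀ p q : ℕ, p.Prime → q.Prime → p ≠ q →
        ((∃ g : L, orderOf g = p * q) ↔ (∃ g : H, orderOf g = p * q)))) := by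
  let F := GaloisField 2 3
  let _ : Fintype F := Fintype.ofFinite F
  have : SzField F 1 := ⟨le_rfl, by
    rw [← Nat.card_eq_fintype_card]; exact GaloisField.card 2 3 (by norm_num)⟩
  have key : ∀ n : ℕ, Squarefree n → (n ∈ Set.range (orderOf : L → ℕ) ↔
      n ∈ Set.range (orderOf : H6.Aff (UMod F) (Gam F) → ℕ)) := fun n hn =>
    (primeGraph_of_bounds h h30 h14 h13 (dvd_thirty_of_squarefree hn)).trans
      (primeGraph_of_bounds (orderOf_aff F) (thirty_mem_spec_aff F) (fourteen_mem_spec_aff F)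
        (thirteen_mem_spec_aff F) (dvd_thirty_of_squarefree hn)).symm
  exact H6.primeGraph_large_of (G := H6.Aff (UMod F) (Gam F))
    (H6.Aff.exists_large Nat.prime_two (two_smul_UMod F))
    (fun p hp => key p hp.squarefree)
    (fun p q hp hq hpq => key _ ((Nat.squarefree_mul ((Nat.coprime_primes hp hq).2 hpq)).2
      ⟨hp.squarefree, hq.squarefree⟩)) N

end Cfsg.Agent.H2
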