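import Cfsg.Agent.H2.CITIdent
import Cfsg.Agent.H2.SzLie

/-!
# Recognition of Suzuki groups by the prime graph
-/

set_option autoImplicit false

namespace Cfsg.Agent.H2

open Subgroup H5

theorem Sz_adj {F : Type*} [Field F] [Fintype F] (m : ℕ) [SzField F m] {x : Sz F m} {r s : ℕ}
    (hr : r.Prime) (hs : s.Prime) (hrs : r ≠ s) (hx : orderOf x = r * s) :
    (r ∣ Fintype.card F ^ 2 + 1 ∧ s ∣ Fintype.card F ^ 2 + 1) ∨ r * s ∣ Fintype.card F - 1 := by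
  classical
  have h1 : orderOf (x ^ s) = r := by
    rw [orderOf_pow_of_dvd hs.ne_zero (hx ▸ dvd_mul_left s r), hx, Nat.mul_div_cancel _ hs.pos]
  have h2 : orderOf (x ^ r) = s := by
    rw [orderOf_pow_of_dvd hr.ne_zero (hx ▸ dvd_mul_right r s), hx, Nat.mul_div_cancel_left _ hr.pos]
  have h3 : x ^ s ≠ 1 := fun e => hr.one_lt.ne' (by rw [← h1, e, orderOf_one])
  have h4 : x ^ r ≠ 1 := fun e => hs.one_lt.ne' (by rw [← h2, e, orderOf_one])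
  have h5 : ∀ k : Sz F m, k * x * k⁻¹ * (k * x ^ s * k⁻¹) = k * x ^ s * k⁻¹ * (k * x * k⁻¹) :=
    fun k => by group
  have h6 : ∀ k : Sz F m, orderOf (k * x * k⁻¹) = r * s := fun k => by
    rw [← hx, ← MulAut.conj_apply, MulEquiv.orderOf_eq]
  rcases conj_cases m (x ^ s) with h | ⟨k, a, b, h⟩ | ⟨k, t, ht, h⟩
  · exact Or.inl ⟨prime_dvd_of_Der m h hr h1, prime_dvd_of_Der m
      (Der_of_commute m h h4 (Commute.pow_pow_self x s r)) hs h2⟩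
  · exfalso
    have h7 := h5 k
    rw [h] at h7
    obtain ⟨n, hn⟩ := twoEl_iff_orderOf.1 (twoEl_of_mem (isPGroup_Uni m)
      (mem_Uni_of_commute_T m (by rw [← h]; simpa using h3) h7))
    rw [h6] at hn
    exact hrs (((Nat.prime_dvd_prime_iff_eq hr Nat.prime_two).1
      (hr.dvd_of_dvd_pow (hn ▸ dvd_mul_right r s))).trans ((Nat.prime_dvd_prime_iff_eq hs
        Nat.prime_two).1 (hs.dvd_of_dvd_pow (hn ▸ dvd_mul_left s r))).symm)
  · right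
    have h7 := h5 k
    rw [h] at h7
    obtain ⟨u, hu⟩ := eq_D_of_commute_D m ht h7
    rw [← h6 k, hu, ← Dhom_apply, orderOf_injective _ (D_injective m), ← Fintype.card_units]
    exact orderOf_dvd_card

theorem suzuki_prime_dvd {p a : ℕ} (hp : p.Prime) (hp2 : p ≠ 2)
    (h : p ∣ (2 ^ a) ^ 2 * ((2 ^ a) ^ 2 + 1) * (2 ^ a - 1)) : p ∣ 2 ^ (4 * a) - 1 := by
  have e : 2 ^ (4 * a) - 1 = ((2 ^ a) ^ 2 + 1) * (2 ^ a - 1) * (2 ^ a + 1) := by
    have h1 : 1 ≤ 2 ^ a := Nat.one_le_two_pow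
    have h2 : 1 ≤ 2 ^ (4 * a) := Nat.one_le_two_pow
    zify [h1, h2]
    rw [mul_comm 4 a, pow_mul]
    ring
  rw [mul_assoc, hp.dvd_mul] at h
  rw [e]
  refine (h.resolve_left fun h => hp2 ?_).mul_right _
  exact (Nat.prime_dvd_prime_iff_eq hp Nat.prime_two).1 (hp.dvd_of_dvd_pow (hp.dvd_of_dvd_pow h))

theorem suzuki_dvd_of_primitive {p a : ℕ} (hp : p.Prime) (ha : 1 ≤ a) (h : p ∣ 2 ^ (4 * a) - 1)
    (h' : ∀ i, 1 ≤ i → i < 4 * a → ¬ p ∣ 2 ^ i - 1) : p ≠ 2 ∧ p ∣ (2 ^ a) ^ 2 + 1 := by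
  have e : 2 ^ (4 * a) - 1 = ((2 ^ a) ^ 2 + 1) * (2 ^ (2 * a) - 1) := by
    have h1 : 1 ≤ 2 ^ (2 * a) := Nat.one_le_two_pow
    have h2 : 1 ≤ 2 ^ (4 * a) := Nat.one_le_two_pow
    zify [h1, h2]
    rw [mul_comm 4 a, mul_comm 2 a, pow_mul, pow_mul]
    ring
  rw [e, hp.dvd_mul] at h
  have h1 := h.resolve_right (h' _ (by omega) (by omega))
  refine ⟨?_, h1⟩
  rintro rfl
  have : 2 ∣ (2 ^ a) ^ 2 := dvd_pow (dvd_pow_self 2 (by omega)) two_ne_zero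
  omega

theorem suzuki_exp_eq {a b : ℕ} (ha : 2 ≤ a) (hb : 2 ≤ b) (h : ∀ p : ℕ, p.Prime → p ≠ 2 →
    (p ∣ (2 ^ a) ^ 2 * ((2 ^ a) ^ 2 + 1) * (2 ^ a - 1) ↔
      p ∣ (2 ^ b) ^ 2 * ((2 ^ b) ^ 2 + 1) * (2 ^ b - 1))) : a = b := by
  have key : ∀ {a b : ℕ}, 2 ≤ a → (∀ p : ℕ, p.Prime → p ≠ 2 →
      p ∣ (2 ^ a) ^ 2 * ((2 ^ a) ^ 2 + 1) * (2 ^ a - 1) →
      p ∣ (2 ^ b) ^ 2 * ((2 ^ b) ^ 2 + 1) * (2 ^ b - 1)) → 4 * a ∣ 4 * b := by
    intro a b ha h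
    refine dvd_of_primes (by omega) (by omega) fun p hp h1 h2 => ?_
    obtain ⟨h3, h4⟩ := suzuki_dvd_of_primitive hp (by omega) h1 h2
    exact suzuki_prime_dvd hp h3 (h p hp h3 ((h4.mul_left _).mul_right _))
  have := Nat.dvd_antisymm (key ha fun p hp h2 => (h p hp h2).1) (key hb fun p hp h2 => (h p hp h2).2)
  omega

theorem two_pow_odd_mod (m : ℕ) : 2 ^ (2 * m + 1) % 15 = 2 ∨ 2 ^ (2 * m + 1) % 15 = 8 := by
  induction m with
  | zero => simp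
  | succ m ih => rw [show 2 * (m + 1) + 1 = 2 * m + 1 + 2 by ring, pow_add]; omega

theorem not_three_dvd_suzuki (m : ℕ) :
    ¬ 3 ∣ (2 ^ (2 * m + 1)) ^ 2 * ((2 ^ (2 * m + 1)) ^ 2 + 1) * (2 ^ (2 * m + 1) - 1) := by
  have h := two_pow_odd_mod m
  generalize 2 ^ (2 * m + 1) = q at h
  obtain ⟨k, rfl⟩ : ∃ k, q = 3 * k + 2 := ⟨q / 3, by omega⟩
  rw [Nat.prime_three.dvd_mul, Nat.prime_three.dvd_mul,
    show (3 * k + 2) ^ 2 = 3 * (3 * k ^ 2 + 4 * k + 1) + 1 by ring]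
  omega

theorem three_dvd_psl2 {n : ℕ} : 3 ∣ 2 ^ n * (2 ^ n - 1) * (2 ^ n + 1) := by
  have h1 : 1 ≤ 2 ^ n := Nat.one_le_two_pow
  generalize 2 ^ n = q at h1
  have : q % 3 = 0 ∨ q % 3 = 1 ∨ q % 3 = 2 := by omega
  rcases this with h | h | h
  · exact ((Nat.dvd_of_mod_eq_zero h).mul_right _).mul_right _
  · exact (Dvd.dvd.mul_left (by omega) _).mul_right _
  · exact Dvd.dvd.mul_left (by omega) _

theorem nonempty_equiv_Sz_of_primeGraph {F : Type*} [Field F] [Fintype F] (m : ℕ) (hm : 1 ≤ m)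
    (hF : Fintype.card F = 2 ^ (2 * m + 1)) {G : Type*} [Group G] [Finite G]
    (h1 : ∀ r : ℕ, r.Prime → (r ∣ Nat.card (Lie.Sz F (2 ^ (m + 1))) ↔ r ∣ Nat.card G))
    (h2 : ∀ r s : ℕ, r.Prime → s.Prime → r ≠ s → (∃ y : G, orderOf y = r * s) →
      ∃ x : Lie.Sz F (2 ^ (m + 1)), orderOf x = r * s) :
    Nonempty (G ⧸ Cfsg.pCore 2 G ≃* Lie.Sz F (2 ^ (m + 1))) := by
  have : SzField F m := ⟨hm, hF⟩
  rw [← Nat.card_congr (szEquiv F m).toEquiv, card_Sz, hF] at h1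
  have h3 : ∀ r s : ℕ, r.Prime → s.Prime → r ≠ s → (∃ y : G, orderOf y = r * s) →
      (r ∣ (2 ^ (2 * m + 1)) ^ 2 + 1 ∧ s ∣ (2 ^ (2 * m + 1)) ^ 2 + 1) ∨
        r * s ∣ 2 ^ (2 * m + 1) - 1 := fun r s hr hs hrs h => by
    obtain ⟨x, hx⟩ := h2 r s hr hs hrs h
    rw [← hF]
    exact Sz_adj m hr hs hrs (((szEquiv F m).symm.orderOf_eq x).trans hx)
  have hq := two_pow_odd_mod m
  have hq8 : 2 ^ 3 ≤ 2 ^ (2 * m + 1) := Nat.pow_le_pow_right two_pos (by omega)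
  have hq2 : 2 ∣ 2 ^ (2 * m + 1) := dvd_pow_self 2 (by omega)
  have hq2' := dvd_pow hq2 two_ne_zero
  have hq5 : 5 ∣ (2 ^ (2 * m + 1)) ^ 2 + 1 := by
    rw [Nat.dvd_iff_mod_eq_zero, Nat.add_mod, Nat.pow_mod]
    rcases (show 2 ^ (2 * m + 1) % 5 = 2 ∨ 2 ^ (2 * m + 1) % 5 = 3 by omega) with h | h <;> rw [h]
  have h4 : ∀ s : ℕ, s.Prime → 2 ≠ s → ¬ ∃ y : G, orderOf y = 2 * s := fun s hs h2s h => by
    rcases h3 2 s Nat.prime_two hs h2s h with h | h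
    · omega
    · have := dvd_of_mul_right_dvd h
      omega
  have hG := isCIT_of_primeGraph h4
  have he : 2 ∣ Nat.card G := (h1 2 Nat.prime_two).1 ((hq2'.mul_right _).mul_right _)
  obtain ⟨r, hr, hrq⟩ := Nat.exists_prime_and_dvd (n := 2 ^ (2 * m + 1) - 1) (by omega)
  have hns : ¬ Group.IsSolvable G := by
    refine not_isSolvable_of_coclique hr Nat.prime_five (by rintro rfl; omega) (by norm_num)
      (by rintro rfl; omega) he ((h1 r hr).1 (hrq.mul_left _))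
      ((h1 5 Nat.prime_five).1 ((hq5.mul_left _).mul_right _)) h4 fun h => ?_
    rcases h3 r 5 hr Nat.prime_five (by rintro rfl; omega) h with h | h
    · obtain ⟨q, hq⟩ : ∃ q, 2 ^ (2 * m + 1) = q + 1 := ⟨2 ^ (2 * m + 1) - 1, by omega⟩
      rw [hq] at h hrq hq2
      rw [Nat.add_sub_cancel] at hrq
      have := (Nat.dvd_add_right (hrq.mul_right (q + 2))).1
        (show r ∣ q * (q + 2) + 2 by convert h.1 using 1; ring)
      rw [Nat.prime_dvd_prime_iff_eq hr Nat.prime_two] at this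
      subst this
      omega
    · have := dvd_of_mul_left_dvd h
      omega
  obtain ⟨he', hns'⟩ := quot_even_of_cit hG (even_iff_two_dvd.2 he) hns
  have hG' := hG.quotient _ (H7.pCore_isPGroup 2 G)
  have h3' : ¬ 3 ∣ Nat.card (G ⧸ Cfsg.pCore 2 G) := by
    rw [dvd_card_quot_pCore Nat.prime_three (by norm_num), ← h1 3 Nat.prime_three]
    exact not_three_dvd_suzuki m
  have hT : SylTI (G ⧸ Cfsg.pCore 2 G) := by
    refine (hG'.sylTI_or_config (pCore_quotient_pCore 2 G)).resolve_right ?_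
    rintro ⟨D, D', T, hc, -⟩
    obtain ⟨x, -, hx, hx1⟩ := hc.ff.exists_order_three hG' hc.eq hc.syl
    have : Fact (Nat.Prime 3) := ⟨Nat.prime_three⟩
    have h5 := orderOf_dvd_natCard x
    rw [orderOf_eq_prime hx (by rintro rfl; simp at hx1)] at h5
    exact h3' h5
  rcases ti_ident hG' hT he' hns' with ⟨n, -, hn, -⟩ | ⟨m', hm', hc, h⟩
  · exact absurd (hn ▸ three_dvd_psl2) h3'
  · have := suzuki_exp_eq (a := 2 * m + 1) (b := 2 * m' + 1) (by omega) (by omega)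
      fun p hp hp2 => by rw [h1 p hp, ← hc, dvd_card_quot_pCore hp hp2]
    obtain rfl : m = m' := by omega
    exact h F hF

end Cfsg.Agent.H2
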